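import Groth.Agent.NagComp.ProperExtend
import Groth.Agent.LocImm.Main

/-!
# Admissible blow-ups of finite type models of essentially finite type schemes
-/

universe u

open CategoryTheory Limits AlgebraicGeometry TopologicalSpace

set_option linter.style.haveILetI false

namespace Groth.NagComp

open Groth.LocImmersion

variable {X Y S : Scheme.{u}}

/-- A morphism on a localizing-immersed scheme spreads out to an open of the finite type model. -/
theorem exists_open_extension {Y₁ Y₂ : Scheme.{u}} [IsNoetherian X] [IsNoetherian Y₁]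
    [IsNoetherian Y₂] [IsNoetherian S] (f₁ : X ⟶ Y₁) (f₂ : X ⟶ Y₂) (π₁ : Y₁ ⟶ S) (π₂ : Y₂ ⟶ S)
    (hf₁ : LocImm.IsLocImmersion f₁) [IsSeparated π₁] [IsSeparated π₂] [LocallyOfFiniteType π₁]
    [LocallyOfFiniteType π₂] (h : f₁ ≫ π₁ = f₂ ≫ π₂) :
    ∃ (W : Y₁.Opens) (k : X ⟶ (W : Scheme.{u})) (g : (W : Scheme.{u}) ⟶ Y₂),
      LocImm.IsLocImmersion k ∧ k ≫ W.ι = f₁ ∧ k ≫ g = f₂ ∧ g ≫ π₂ = W.ι ≫ π₁ := by
  let γ : X ⟶ pullback π₁ π₂ := pullback.lift f₁ f₂ h
  let p₁ : γ.image ⟶ Y₁ := γ.imageι ≫ pullback.fst π₁ π₂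
  let p₂ : γ.image ⟶ Y₂ := γ.imageι ≫ pullback.snd π₁ π₂
  have e₁ : γ.toImage ≫ p₁ = f₁ := by
    simp only [p₁, ← Category.assoc, Scheme.Hom.toImage_imageι]
    exact pullback.lift_fst _ _ _
  have e₂ : γ.toImage ≫ p₂ = f₂ := by
    simp only [p₂, ← Category.assoc, Scheme.Hom.toImage_imageι]
    exact pullback.lift_snd _ _ _
  haveI : IsLocallyNoetherian (pullback π₁ π₂) :=
    LocallyOfFiniteType.isLocallyNoetherian (pullback.fst π₁ π₂)
  haveI : IsLocallyNoetherian γ.image := LocallyOfFiniteType.isLocallyNoetherian γ.imageι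
  haveI : CompactSpace (pullback π₁ π₂ : Scheme.{u}) :=
    QuasiCompact.compactSpace_of_compactSpace (pullback.fst π₁ π₂)
  haveI : CompactSpace γ.image := QuasiCompact.compactSpace_of_compactSpace γ.imageι
  haveI : IsNoetherian γ.image := ⟨⟩
  have hγ : LocImm.IsLocImmersion γ.toImage :=
    isLocImmersion_of_comp γ.toImage p₁ (e₁.symm ▸ hf₁) (app_toImage_injective γ)
  haveI := locallyEssFiniteType_of_locallyOfFiniteType p₁
  obtain ⟨U₁, hU₁, hl₁⟩ := exists_nhd_isLocImmersion γ.toImage f₁ p₁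
    (stableUnderGeneralization_range hγ.1) (isIso_stalkMap hγ.1) hf₁ e₁
  haveI hi₁ := isOpenImmersion_of_locallyOfFiniteType hl₁
  let W : Y₁.Opens := (U₁.ι ≫ p₁).opensRange
  let a : (W : Scheme.{u}) ⟶ U₁ := IsOpenImmersion.lift (U₁.ι ≫ p₁) W.ι
    (by rw [Scheme.Opens.range_ι]; exact subset_rfl)
  have ha : a ≫ U₁.ι ≫ p₁ = W.ι := IsOpenImmersion.lift_fac _ _ _
  let k : X ⟶ (W : Scheme.{u}) := IsOpenImmersion.lift W.ι f₁ (by
    rintro _ ⟨x, rfl⟩
    rw [Scheme.Opens.range_ι]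
    exact ⟨⟨γ.toImage x, hU₁ ⟨x, rfl⟩⟩, congr($e₁ x)⟩)
  have hk : k ≫ W.ι = f₁ := IsOpenImmersion.lift_fac _ _ _
  let k₁ : X ⟶ (U₁ : Scheme.{u}) := IsOpenImmersion.lift U₁.ι γ.toImage (by
    rw [Scheme.Opens.range_ι]; exact hU₁)
  have hk₁ : k₁ ≫ U₁.ι = γ.toImage := IsOpenImmersion.lift_fac _ _ _
  have hka : k ≫ a = k₁ := by
    rw [← cancel_mono (U₁.ι ≫ p₁), Category.assoc, ha, hk, reassoc_of% hk₁, e₁]
  refine ⟨W, k, a ≫ U₁.ι ≫ p₂, isLocImmersion_of_comp_ι k (hk.symm ▸ hf₁), hk, ?_, ?_⟩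
  · rw [reassoc_of% hka, reassoc_of% hk₁, e₂]
  · rw [← ha]
    simp only [p₁, p₂, Category.assoc, pullback.condition]

/-- Localizing immersions are stable under base change, first projection. -/
theorem isLocImmersion_pullback_fst {Y' : Scheme.{u}} {k : X ⟶ Y} (g : Y' ⟶ Y)
    (hk : LocImm.IsLocImmersion k) : LocImm.IsLocImmersion (pullback.fst g k) := by
  rw [← pullbackSymmetry_hom_comp_snd g k]
  exact isLocImmersion_comp (isLocImmersion_of_isOpenImmersion _)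
    (isLocImmersion_pullback_snd g hk)

/-- The blow-up of a model pulls back to a blow-up. -/
theorem isBlowUp_pullback {T Ym : Scheme.{u}} {k : X ⟶ Ym} (hk : LocImm.IsLocImmersion k)
    {c : T ⟶ Ym} {K : Ym.IdealSheafData} (hc : BlowUp.IsBlowUp c K) :
    BlowUp.IsBlowUp (pullback.fst k c) (K.comap k) :=
  haveI := flat hk.1
  BlowUpBasics.isBlowUp_of_isPullback hc (IsPullback.of_hasPullback k c)

theorem disjoint_support_comap {Z Ym : Scheme.{u}} (j : Z ⟶ X) (k : X ⟶ Ym) {W : Ym.Opens}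
    {K : Ym.IdealSheafData} (hK : BlowUp.IsAdmissibleFor W K) (h : ∀ z, k (j z) ∈ W) :
    Disjoint ((K.comap k).support : Set X) (Set.range fun z => j z) := by
  rw [Set.disjoint_left, Scheme.IdealSheafData.support_comap]
  rintro _ hx ⟨z, rfl⟩
  exact Set.disjoint_left.mp hK.2 hx (h z)

end Groth.NagComp
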