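import Groth.Agent.SchemeMorphisms.BlowUpBirationalAmple
import Groth.Agent.Chow.ToPn
import Groth.Agent.Variety2.ProjBasics

/-!
# Loci of sections of ample modules on proper schemes are affine
-/

universe u

open CategoryTheory CategoryTheory.Limits AlgebraicGeometry TopologicalSpace
open Groth.PicAux Groth.PropsBasic.Ample

set_option backward.isDefEq.respectTransparency.types false
set_option linter.style.haveILetI false

namespace Groth.NagComp

/-- On a scheme proper over an affine one the locus of a section of an ample module is affine. -/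
theorem isAffineOpen_gloc_of_isAmple {R : Type u} [CommRing R] {Y : Scheme.{u}}
    (q : Y ⟶ Spec (CommRingCat.of R)) [IsProper q] {L : Y.Modules} (hL : CohB1.IsAmple L)
    (s : Γ(L, ⊤)) : IsAffineOpen (gloc s) := by
  classical
  obtain ⟨d, hd, J, hJ, t, ht, hcov⟩ := Groth.BlowUpBirAmple.exists_charts hL
  cases nonempty_fintype J
  let e := Fintype.equivFin J
  let σ : Fin (Fintype.card J + 1) → Γ(CohB1.tensorPow L d, ⊤) :=
    Fin.cons (powSec s d) (fun i => t (e.symm i))
  let U := Groth.Chow.ToPn.U (CohB1.tensorPow L d) σ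
  have hUs : ∀ j, U (e j).succ = gloc (t j) := fun j => by
    change gloc (σ (e j).succ) = _
    simp only [σ, Fin.cons_succ, Equiv.symm_apply_apply]
  have hU : ⨆ i, U i = ⊤ := top_le_iff.1 fun x _ => by
    obtain ⟨j, hj⟩ := hcov x
    exact Opens.mem_iSup.2 ⟨(e j).succ, (hUs j).ge hj⟩
  have hU0 : U 0 = gloc s := by
    change gloc (σ 0) = gloc s
    simp only [σ, Fin.cons_zero]
    exact gloc_powSec hL.1 s hd
  obtain ⟨r, hr⟩ := Groth.Chow.ToPn.exists_r q _ σ hU
  haveI : IsProper (r ≫ CohB1.ProjSpace.toSpec (Fintype.card J) R) := by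
    rw [Groth.Chow.ToPn.r_toSpec hr hU]; infer_instance
  haveI : IsProper r := IsProper.of_comp r (CohB1.ProjSpace.toSpec (Fintype.card J) R)
  let D : Fin (Fintype.card J + 1) → (CohB1.ProjSpace (Fintype.card J) R).Opens := fun i =>
    Proj.basicOpen (CohB1.polyGrading (Fintype.card J) R) (MvPolynomial.X i)
  have hD : ∀ i, r ⁻¹ᵁ D i = U i := fun i => Groth.Chow.ToPn.preimage_D hr hU i
  have hDa : ∀ i, IsAffineOpen (D i) := fun i =>
    Proj.isAffineOpen_basicOpen _ (MvPolynomial.X i) (Groth.Chow.ToPn.X_mem i) one_pos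
  haveI : IsAffineHom r := by
    refine isAffineHom_of_forall_exists_isAffineOpen r fun z => ?_
    by_cases hz : z ∈ Set.range r
    · obtain ⟨x, rfl⟩ := hz
      obtain ⟨j, hj⟩ := hcov x
      refine ⟨D (e j).succ, ?_, hDa _, ?_⟩
      · exact (hD (e j).succ).ge ((hUs j).ge hj)
      · rw [hD, hUs]
        exact (ht j).1
    · obtain ⟨_, ⟨W, hW, rfl⟩, hzW, hWO⟩ :=
        (CohB1.ProjSpace (Fintype.card J) R).isBasis_affineOpens.exists_subset_of_mem_open
          (a := z) hz r.isClosedMap.isClosed_range.isOpen_compl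
      refine ⟨W, hzW, hW, ?_⟩
      rw [show r ⁻¹ᵁ W = ⊥ from eq_bot_iff.2 fun x hx => hWO hx ⟨x, rfl⟩]
      exact isAffineOpen_bot _
  rw [← hU0, ← hD 0]
  exact (hDa 0).preimage r

end Groth.NagComp
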