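import Groth.Agent.NagComp.TwoBirational

/-!
# A map from an open to a proper scheme extends after an admissible blow-up
-/

universe u

open CategoryTheory Limits AlgebraicGeometry TopologicalSpace

set_option linter.style.haveILetI false

namespace Groth.NagComp

variable {X P S : Scheme.{u}}

/-- A morphism from a quasi-compact open to a proper scheme extends after an admissible blow-up. -/
theorem exists_extend_proper [CompactSpace X] [QuasiSeparatedSpace X] (f : X ⟶ S) (π : P ⟶ S)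
    [IsProper π] (U : X.Opens) (hU : IsCompact (U : Set X)) (h : (U : Scheme.{u}) ⟶ P)
    (hh : h ≫ π = U.ι ≫ f) :
    ∃ (K : X.IdealSheafData) (T : Scheme.{u}) (b : T ⟶ X) (φ : T ⟶ P),
      BlowUp.IsBlowUp b K ∧ BlowUp.IsAdmissibleFor U K ∧ IsProper b ∧
      (K.support : Set X) = (U : Set X)ᶜ ∧ SD (b ⁻¹ᵁ U) ⊤ ∧ φ ≫ π = b ≫ f ∧
      (b ⁻¹ᵁ U).ι ≫ φ = (b ∣_ U) ≫ h := by
  let s : (U : Scheme.{u}) ⟶ pullback f π := pullback.lift U.ι h hh.symm
  have hs : s ≫ pullback.fst f π = U.ι := pullback.lift_fst _ _ _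
  obtain ⟨K, T, b, hb, hK, hbp, hsd, hext, hKs⟩ := exists_blowUp_extension (pullback.fst f π) U U
    le_rfl hU hU s hs (fun y hy hyU => mem_range_of_mem_closure _ s hs hy hyU)
  obtain ⟨W, hUW, k, w, hks, -, hci, -⟩ := hext.exists_glue
  haveI : IsProper W.ι := by
    rw [← pullback.lift_fst W.ι k w]
    infer_instance
  haveI : Surjective W.ι := ⟨fun y => by
    by_contra hy
    obtain ⟨z, hz, hzU⟩ := hsd.inter_nonempty
      (O := ⟨(Set.range W.ι)ᶜ, W.ι.isClosedMap.isClosed_range.isOpen_compl⟩) le_top ⟨y, hy⟩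
    exact hz ⟨⟨z, hUW hzU⟩, rfl⟩⟩
  haveI : IsIso W.ι := (isIso_iff_isOpenImmersion_and_epi_base _).mpr
    ⟨inferInstance, (TopCat.epi_iff_surjective _).mpr W.ι.surjective⟩
  refine ⟨K, T, b, inv W.ι ≫ k ≫ pullback.snd f π, hb, hK, hbp, hKs, hsd, ?_, ?_⟩
  · rw [Category.assoc, Category.assoc, ← pullback.condition, ← reassoc_of% w,
      IsIso.inv_hom_id_assoc]
  · rw [← Scheme.homOfLE_ι T hUW, Category.assoc, IsIso.hom_inv_id_assoc, reassoc_of% hks,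
      pullback.lift_snd]

/-- If `h` is an open immersion with image `A` then nothing else of `T` lies over `A`. -/
theorem isIso_over_image (f : X ⟶ S) [IsSeparated f] (π : P ⟶ S) (U : X.Opens)
    (h : (U : Scheme.{u}) ⟶ P) [IsOpenImmersion h] (hh : h ≫ π = U.ι ≫ f) {T : Scheme.{u}}
    (b : T ⟶ X) (φ : T ⟶ P) [IsIso (b ∣_ U)] (hsd : SD (b ⁻¹ᵁ U) ⊤) (hw : φ ≫ π = b ≫ f)
    (hag : (b ⁻¹ᵁ U).ι ≫ φ = (b ∣_ U) ≫ h) :
    φ ⁻¹ᵁ h.opensRange = b ⁻¹ᵁ U ∧ IsIso (φ ∣_ h.opensRange) := by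
  let A := h.opensRange
  have hle : b ⁻¹ᵁ U ≤ φ ⁻¹ᵁ A := fun t ht => by
    show φ t ∈ A
    exact ⟨(b ∣_ U) ⟨t, ht⟩, (congr($hag ⟨t, ht⟩)).symm⟩
  let l : ((φ ⁻¹ᵁ A : T.Opens) : Scheme.{u}) ⟶ (U : Scheme.{u}) :=
    IsOpenImmersion.lift h ((φ ⁻¹ᵁ A).ι ≫ φ) (by
      rintro _ ⟨t, rfl⟩
      exact t.2)
  have hl : l ≫ h = (φ ⁻¹ᵁ A).ι ≫ φ := IsOpenImmersion.lift_fac _ _ _
  have e : (φ ⁻¹ᵁ A).ι ≫ b = l ≫ U.ι := by
    refine (hsd.mono le_rfl le_top).hom_ext f ?_ ?_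
    · simp only [Category.assoc, ← hh, reassoc_of% hl, hw]
    · have h1 : T.homOfLE (inf_le_right : b ⁻¹ᵁ U ⊓ φ ⁻¹ᵁ A ≤ φ ⁻¹ᵁ A) ≫ l =
          T.homOfLE (inf_le_left : b ⁻¹ᵁ U ⊓ φ ⁻¹ᵁ A ≤ b ⁻¹ᵁ U) ≫ (b ∣_ U) := by
        rw [← cancel_mono h, Category.assoc, hl, Category.assoc, ← hag, Scheme.homOfLE_ι_assoc,
          Scheme.homOfLE_ι_assoc]
      rw [reassoc_of% h1, morphismRestrict_ι, Scheme.homOfLE_ι_assoc, Scheme.homOfLE_ι_assoc]
  have hpre : φ ⁻¹ᵁ A = b ⁻¹ᵁ U := le_antisymm (fun t ht => by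
    show b t ∈ U
    rw [show b t = (l ⟨t, ht⟩).1 from congr($e ⟨t, ht⟩)]
    exact (l ⟨t, ht⟩).2) hle
  refine ⟨hpre, ?_⟩
  have hO : IsOpenImmersion ((φ ∣_ A) ≫ A.ι) := by
    rw [morphismRestrict_ι, ← Scheme.homOfLE_ι T hpre.le, Category.assoc, hag]
    infer_instance
  haveI : IsOpenImmersion (φ ∣_ A) := IsOpenImmersion.of_comp _ A.ι
  haveI : Surjective (φ ∣_ A) := ⟨fun a => by
    obtain ⟨u, hu⟩ := a.2
    obtain ⟨t, ht⟩ := (b ∣_ U).surjective u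
    refine ⟨⟨t.1, hle t.2⟩, Subtype.ext ?_⟩
    rw [morphismRestrict_base]
    show φ t.1 = a.1
    have h2 : φ t.1 = h ((b ∣_ U) t) := congr($hag t)
    rw [h2, ht, hu]⟩
  exact (isIso_iff_isOpenImmersion_and_epi_base _).mpr
    ⟨inferInstance, (TopCat.epi_iff_surjective _).mpr (φ ∣_ A).surjective⟩

/-- After blow-ups, a scheme containing an open of a proper scheme is a dense open of a blow-up of
it. -/
theorem exists_dense_embedding [CompactSpace S] [QuasiSeparatedSpace S] (f : X ⟶ S) [IsSeparated f]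
    [LocallyOfFiniteType f] [QuasiCompact f] (π : P ⟶ S) [IsProper π] (U : X.Opens)
    (hU : IsCompact (U : Set X)) (h : (U : Scheme.{u}) ⟶ P) [IsOpenImmersion h]
    (hh : h ≫ π = U.ι ≫ f) :
    ∃ (K : X.IdealSheafData) (L : P.IdealSheafData) (X' P' : Scheme.{u}) (q : X' ⟶ X) (c : P' ⟶ P)
      (j : X' ⟶ P'), BlowUp.IsBlowUp q K ∧ BlowUp.IsAdmissibleFor U K ∧ BlowUp.IsBlowUp c L ∧
      BlowUp.IsAdmissibleFor h.opensRange L ∧ IsOpenImmersion j ∧ IsDominant j ∧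
      j ≫ c ≫ π = q ≫ f := by
  haveI : CompactSpace X := QuasiCompact.compactSpace_of_compactSpace f
  haveI : QuasiSeparatedSpace X := quasiSeparatedSpace_of_quasiSeparated f
  haveI : CompactSpace P := QuasiCompact.compactSpace_of_compactSpace π
  haveI : QuasiSeparatedSpace P := quasiSeparatedSpace_of_quasiSeparated π
  haveI : CompactSpace (U : Scheme.{u}) := isCompact_iff_compactSpace.mp hU
  obtain ⟨K₁, T, b, φ, hb, hK₁, hbp, -, hsd, hw, hag⟩ := exists_extend_proper f π U hU h hh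
  haveI := BlowUpBasics.isIso_morphismRestrict hb U hK₁.2
  obtain ⟨hpre, hiso⟩ := isIso_over_image f π U h hh b φ hsd hw hag
  haveI : IsSeparated (φ ≫ π) := hw.symm ▸ inferInstance
  haveI : IsSeparated φ := IsSeparated.of_comp φ π
  haveI : LocallyOfFiniteType (φ ≫ π) := hw.symm ▸ inferInstance
  haveI : LocallyOfFiniteType φ := locallyOfFiniteType_of_comp φ π
  haveI : CompactSpace T := QuasiCompact.compactSpace_of_compactSpace b
  haveI : QuasiCompact φ := quasiCompact_of_compactSpace φ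
  obtain ⟨L, T', P', b', c, j, hb', hLT, hc, hLA, -, hj, hjw, hsd'⟩ :=
    exists_openImmersion_blowUps φ h.opensRange (isCompact_range h.continuous)
  obtain ⟨K, hKft, hKs, hK⟩ := Groth.Agent.S1694.result X K₁ hK₁.1 b hb _ hLT.1 b' hb'
  haveI := BlowUpBasics.isIso_morphismRestrict hb' _ hLT.2
  haveI := BlowUpBasics.isIso_morphismRestrict hc _ hLA.2
  have hdom : IsDominant j := ⟨fun z => mem_closure_iff.mpr fun o ho hz => by
    obtain ⟨z', hz', hzA⟩ := hsd'.inter_nonempty (O := ⟨o, ho⟩) le_top ⟨z, hz⟩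
    exact ⟨z', hz', preimage_le_opensRange φ b' c j hjw h.opensRange hzA⟩⟩
  refine ⟨K, L, T', P', b' ≫ b, c, j, hK, ⟨hKft, ?_⟩, hc, hLA, hj, hdom, by
    rw [reassoc_of% hjw, hw, Category.assoc]⟩
  rw [hKs, Set.disjoint_union_left]
  refine ⟨hK₁.2, Set.disjoint_left.mpr ?_⟩
  rintro _ ⟨v, hv, rfl⟩ hvU
  exact Set.disjoint_left.mp hLT.2 hv (show v ∈ φ ⁻¹ᵁ h.opensRange from hpre.symm ▸ hvU)

end Groth.NagComp
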