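import Groth.Agent.NagComp.PolAmple
import Groth.Agent.NagComp.ProperExtend
import Groth.Agent.Flatmor4.YTriv
import Groth.Agent.Chow.ExtendSec
import Groth.Agent.PicAux.PullTensor
import Groth.Agent.Ega2Proj.RelAmpleCoprod
import Groth.Agent.S2331

/-!
# A map from the locus of an ample section extends after a blow-up, keeping an ample section
-/

universe u

open CategoryTheory CategoryTheory.Limits AlgebraicGeometry Opposite TopologicalSpace

set_option backward.isDefEq.respectTransparency.types false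
set_option linter.style.haveILetI false

namespace Groth.NagComp

open Groth.PicAux Groth.PropsBasic.Ample

/-- The map from the locus of an ample section to a proper scheme extends to a projective
modification carrying an ample module with a section trivializing it on that locus. -/
theorem exists_extend_ample {U P X' X : Scheme.{u}} [CompactSpace X] [QuasiSeparatedSpace X]
    (p : P ⟶ X) [IsProper p] {L : P.Modules} (hL : RelAmple.IsRelAmple p L) (ψ : Γ(L, ⊤))
    (j : U ⟶ P) [IsOpenImmersion j] [CompactSpace U] (hj : (gloc ψ : Set P) = Set.range j)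
    (g' : X' ⟶ X) [IsProper g'] (h : U ⟶ X') (hh : h ≫ g' = j ≫ p) :
    ∃ (T : Scheme.{u}) (t : T ⟶ X) (N : T.Modules) (τ : Γ(N, ⊤)) (jT : U ⟶ T) (d : T ⟶ X'),
      IsProper t ∧ RelAmple.IsRelAmple t N ∧ IsOpenImmersion jT ∧ d ≫ g' = t ∧ jT ≫ d = h ∧
      jT ≫ t = j ≫ p ∧ Set.range jT ⊆ gloc τ := by
  haveI : CompactSpace P := QuasiCompact.compactSpace_of_compactSpace p
  haveI : QuasiSeparatedSpace P := quasiSeparatedSpace_of_quasiSeparated p
  let V : P.Opens := gloc ψ
  have hVc : IsCompact (V : Set P) := by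
    rw [show (V : Set P) = Set.range j from hj]
    exact isCompact_range j.continuous
  have hV : j.opensRange = V := Opens.ext hj.symm
  let e : U ⟶ (V : Scheme.{u}) := IsOpenImmersion.lift V.ι j (by rw [Scheme.Opens.range_ι, hj])
  have he : e ≫ V.ι = j := IsOpenImmersion.lift_fac _ _ _
  haveI : IsOpenImmersion e := by
    haveI : IsOpenImmersion (e ≫ V.ι) := he.symm ▸ inferInstance
    exact IsOpenImmersion.of_comp e V.ι
  haveI : Surjective e := ⟨fun v => by
    obtain ⟨x, hx⟩ := (hj.le v.2 : v.1 ∈ Set.range j)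
    exact ⟨x, Subtype.ext (((congr($he x) : _)).trans hx)⟩⟩
  haveI : IsIso e := (isIso_iff_isOpenImmersion_and_epi_base _).mpr
    ⟨inferInstance, (TopCat.epi_iff_surjective _).mpr e.surjective⟩
  obtain ⟨K, T, b, φ, hb, hK, hbp, hKs, hsd, hφπ, hφ⟩ :=
    exists_extend_proper p g' V hVc (inv e ≫ h) (by rw [Category.assoc, hh, IsIso.inv_comp_eq, ← he,
      Category.assoc])
  haveI := hbp
  haveI : CompactSpace T := QuasiCompact.compactSpace_of_compactSpace b
  haveI : QuasiSeparatedSpace T := quasiSeparatedSpace_of_quasiSeparated b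
  haveI := BlowUpBasics.isIso_morphismRestrict hb V hK.2
  obtain ⟨D, hD⟩ := PolAmple.exists_pol' hb hK.1
  have hM := PolAmple.isRelAmple b D
  rw [hD] at hM
  have hMi := Groth.Ega2Proj.isInvertible_of_isRelAmple hM
  have hLi := Groth.Ega2Proj.isInvertible_of_isRelAmple hL
  obtain ⟨k, hk⟩ := PolAmple.exists_gen_off_support (K.comap b) (W := b ⁻¹ᵁ V) fun x hx hxs => by
    rw [K.support_comap b] at hxs
    exact (hKs.le hxs : b x ∈ (V : Set P)ᶜ) hx
  have hTs : gloc (pullSec b L ψ) = b ⁻¹ᵁ V := gloc_pullSec b hLi ψ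
  have hPi := isInvertible_pullback b hLi
  obtain ⟨k₀, hk₀⟩ := Groth.Chow.exists_extend_sec hMi hPi (pullSec b L ψ) (res _ hTs.le k)
  obtain ⟨n₀, -, hamp⟩ := Groth.Agent.S2331.result b p _ L hM hL
  let n := max k₀ n₀
  obtain ⟨c, hc⟩ := hk₀ n (le_max_left _ _)
  obtain ⟨i⟩ := pullback_tensorPow b L n
  let i' := PicGrp.tensorModIso (Iso.refl (ClSub.idealMod (K.comap b))) i.symm
  let jT : U ⟶ T := e ≫ inv (b ∣_ V) ≫ (b ⁻¹ᵁ V).ι
  refine ⟨T, b ≫ p, _, i'.hom.app ⊤ c, jT, φ, inferInstance, hamp n (le_max_right _ _), inferInstance,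
    hφπ, ?_, ?_, ?_⟩
  · simp only [jT, Category.assoc]
    rw [hφ, IsIso.inv_hom_id_assoc, IsIso.hom_inv_id_assoc]
  · simp only [jT, Category.assoc]
    rw [← morphismRestrict_ι_assoc, IsIso.inv_hom_id_assoc, reassoc_of% he]
  · rintro _ ⟨x, rfl⟩
    rw [gloc_map i'.hom c]
    refine (le_gloc (V := gloc (pullSec b L ψ)) ?_) ?_
    · rw [hc]
      exact (hk.res hTs.le).tensor (((gen_gloc (pullSec b L ψ) le_rfl)).pow n)
    · rw [hTs]
      exact ((inv (b ∣_ V)) (e x)).2

end Groth.NagComp
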