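import Groth.Agent.NagComp.TwoBirational
import Groth.Agent.LocImm.Glue

/-!
# Two schemes containing a common open embed into a common one after admissible blow-ups
-/

universe u

open CategoryTheory Limits AlgebraicGeometry TopologicalSpace

set_option linter.style.haveILetI false

namespace Groth.NagComp

variable {X U P : Scheme.{u}}

/-- The scheme-theoretic image of `s`, where `s ≫ p` is an open immersion, is an open subscheme
`U` over the image of `U`. -/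
theorem isIso_image_restrict (p : P ⟶ X) [IsSeparated p] (s : U ⟶ P) [QuasiCompact s]
    [IsOpenImmersion (s ≫ p)] :
    IsIso ((s.imageι ≫ p) ∣_ (s ≫ p).opensRange) := by
  haveI : IsSchemeTheoreticallyDominant s.toImage :=
    BlowUpBasics.isSchemeTheoreticallyDominant_toImage s
  let q : s.image ⟶ X := s.imageι ≫ p
  let R : X.Opens := (s ≫ p).opensRange
  have hq : s.toImage ≫ q = s ≫ p := Scheme.Hom.toImage_imageι_assoc _ _
  have hr : Set.range s.toImage ⊆ Set.range (q ⁻¹ᵁ R).ι := by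
    rintro _ ⟨x, rfl⟩
    rw [Scheme.Opens.range_ι]
    show q (s.toImage x) ∈ R
    rw [← Scheme.Hom.comp_apply, hq]
    exact ⟨x, rfl⟩
  let τ := IsOpenImmersion.lift (q ⁻¹ᵁ R).ι s.toImage hr
  have hτ : τ ≫ (q ⁻¹ᵁ R).ι = s.toImage := IsOpenImmersion.lift_fac _ _ _
  have H : IsPullback (𝟙 _) τ s.toImage (q ⁻¹ᵁ R).ι := by
    refine ⟨⟨by rw [Category.id_comp, hτ]⟩, ⟨PullbackCone.IsLimit.mk _ (fun c => c.fst)
      (fun c => Category.comp_id _) (fun c => ?_)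
      (fun c k hk _ => by rw [← hk, Category.comp_id])⟩⟩
    rw [← cancel_mono (q ⁻¹ᵁ R).ι, Category.assoc, hτ, c.condition]
  haveI : IsSchemeTheoreticallyDominant τ := IsSchemeTheoreticallyDominant.of_isPullback H
  let e : U ⟶ (R : Scheme.{u}) := τ ≫ (q ∣_ R)
  have he : e ≫ R.ι = s ≫ p := by
    rw [Category.assoc, morphismRestrict_ι, reassoc_of% hτ, hq]
  haveI : IsOpenImmersion (e ≫ R.ι) := by rw [he]; infer_instance
  haveI : IsOpenImmersion e := IsOpenImmersion.of_comp e R.ι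
  haveI : Surjective e := ⟨fun y => by
    obtain ⟨x, hx⟩ := y.2
    refine ⟨x, R.ι.isOpenEmbedding.injective ?_⟩
    rw [← Scheme.Hom.comp_apply, he]
    exact hx⟩
  haveI : IsIso e := (isIso_iff_isOpenImmersion_and_epi_base _).mpr
    ⟨inferInstance, (TopCat.epi_iff_surjective _).mpr e.surjective⟩
  refine ⟨inv e ≫ τ, GrpschAbsch.ext_of_isSchemeTheoreticallyDominant (q ∣_ R) ?_ τ ?_, ?_⟩
  · simp only [Category.assoc, Category.id_comp, Category.comp_id, e, IsIso.inv_hom_id]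
    rfl
  · rw [← Category.assoc, show τ ≫ (q ∣_ R) = e from rfl, IsIso.hom_inv_id_assoc, Category.comp_id]
  · rw [Category.assoc]; exact IsIso.inv_hom_id e

theorem range_toImage_eq (p : P ⟶ X) [IsSeparated p] (s : U ⟶ P) [QuasiCompact s]
    [IsOpenImmersion (s ≫ p)] :
    ((s.imageι ≫ p) ⁻¹ᵁ (s ≫ p).opensRange : Set s.image) = Set.range s.toImage := by
  haveI := isIso_image_restrict p s
  refine Set.Subset.antisymm (fun x hx => ?_) ?_
  · obtain ⟨y, hy⟩ := hx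
    have hy' : s.toImage y ∈ (s.imageι ≫ p) ⁻¹ᵁ (s ≫ p).opensRange := by
      show (s.imageι ≫ p) (s.toImage y) ∈ (s ≫ p).opensRange
      rw [← Scheme.Hom.comp_apply, Scheme.Hom.toImage_imageι_assoc]
      exact ⟨y, rfl⟩
    refine ⟨y, congrArg Subtype.val (((s.imageι ≫ p) ∣_ (s ≫ p).opensRange).isOpenEmbedding.injective
      (a₁ := ⟨s.toImage y, hy'⟩) (a₂ := ⟨x, ⟨y, hy⟩⟩) (Subtype.ext ?_))⟩
    rw [morphismRestrict_base]
    show (s.imageι ≫ p) (s.toImage y) = (s.imageι ≫ p) x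
    rw [← Scheme.Hom.comp_apply, Scheme.Hom.toImage_imageι_assoc]
    exact hy
  · rintro _ ⟨y, rfl⟩
    show (s.imageι ≫ p) (s.toImage y) ∈ (s ≫ p).opensRange
    rw [← Scheme.Hom.comp_apply, Scheme.Hom.toImage_imageι_assoc]
    exact ⟨y, rfl⟩

theorem exists_common_target {X₁ X₂ S : Scheme.{u}} [CompactSpace S] [QuasiSeparatedSpace S]
    (gU : U ⟶ S) (g₁ : X₁ ⟶ S) (g₂ : X₂ ⟶ S) [QuasiCompact gU]
    [IsSeparated g₁] [LocallyOfFiniteType g₁] [QuasiCompact g₁]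
    [IsSeparated g₂] [LocallyOfFiniteType g₂] [QuasiCompact g₂]
    (j₁ : U ⟶ X₁) (j₂ : U ⟶ X₂) [IsOpenImmersion j₁] [IsOpenImmersion j₂] (hj₁ : j₁ ≫ g₁ = gU)
    (hj₂ : j₂ ≫ g₂ = gU) :
    ∃ (Xc : Scheme.{u}) (q : Xc ⟶ S) (_ : IsSeparated q) (_ : LocallyOfFiniteType q) (_ : QuasiCompact q)
      (𝓘₁ : X₁.IdealSheafData) (𝓘₂ : X₂.IdealSheafData) (X₁' X₂' : Scheme.{u}) (b₁ : X₁' ⟶ X₁) (b₂ : X₂' ⟶ X₂)
      (o₁ : X₁' ⟶ Xc) (o₂ : X₂' ⟶ Xc) (u₁ : U ⟶ X₁') (u₂ : U ⟶ X₂'),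
      BlowUp.IsBlowUp b₁ 𝓘₁ ∧ BlowUp.IsAdmissibleFor j₁.opensRange 𝓘₁ ∧
      BlowUp.IsBlowUp b₂ 𝓘₂ ∧ BlowUp.IsAdmissibleFor j₂.opensRange 𝓘₂ ∧
      IsOpenImmersion o₁ ∧ IsOpenImmersion o₂ ∧ o₁ ≫ q = b₁ ≫ g₁ ∧ o₂ ≫ q = b₂ ≫ g₂ ∧
      u₁ ≫ b₁ = j₁ ∧ u₂ ≫ b₂ = j₂ ∧ u₁ ≫ o₁ = u₂ ≫ o₂ ∧
      (∀ x, x ∈ Set.range o₁ ∨ x ∈ Set.range o₂) := by
  haveI : CompactSpace X₁ := QuasiCompact.compactSpace_of_compactSpace g₁
  haveI : QuasiSeparatedSpace X₁ := quasiSeparatedSpace_of_quasiSeparated g₁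
  haveI : CompactSpace X₂ := QuasiCompact.compactSpace_of_compactSpace g₂
  haveI : QuasiSeparatedSpace X₂ := quasiSeparatedSpace_of_quasiSeparated g₂
  haveI : CompactSpace U := QuasiCompact.compactSpace_of_compactSpace gU
  let p₁ := pullback.fst g₁ g₂
  let p₂ := pullback.snd g₁ g₂
  haveI : QuasiSeparatedSpace ↥(pullback g₁ g₂) := quasiSeparatedSpace_of_quasiSeparated p₁
  haveI : CompactSpace ↥(pullback g₁ g₂) := QuasiCompact.compactSpace_of_compactSpace p₁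
  let s : U ⟶ pullback g₁ g₂ := pullback.lift j₁ j₂ (hj₁.trans hj₂.symm)
  haveI : QuasiCompact s := quasiCompact_of_compactSpace s
  have hs₁ : s ≫ p₁ = j₁ := pullback.lift_fst _ _ _
  have hs₂ : s ≫ p₂ = j₂ := pullback.lift_snd _ _ _
  haveI : IsOpenImmersion (s ≫ p₁) := hs₁.symm ▸ inferInstance
  haveI : IsOpenImmersion (s ≫ p₂) := hs₂.symm ▸ inferInstance
  let R₁ := (s ≫ p₁).opensRange
  let R₂ := (s ≫ p₂).opensRange
  haveI : IsIso ((s.imageι ≫ p₁) ∣_ R₁) := isIso_image_restrict p₁ s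
  haveI : IsIso ((s.imageι ≫ p₂) ∣_ R₂) := isIso_image_restrict p₂ s
  have hpre : (s.imageι ≫ p₁) ⁻¹ᵁ R₁ = (s.imageι ≫ p₂) ⁻¹ᵁ R₂ :=
    Opens.ext ((range_toImage_eq p₁ s).trans (range_toImage_eq p₂ s).symm)
  haveI : CompactSpace s.image := QuasiCompact.compactSpace_of_compactSpace s.imageι
  haveI : QuasiSeparatedSpace s.image := quasiSeparatedSpace_of_quasiSeparated s.imageι
  obtain ⟨I, J₁, J₂, Xt, Y₁, Y₂, b, c₁, c₂, k₁, k₂, hb, hI, hc₁, hJ₁, hc₂, hJ₂, hk₁, hk₂, w₁, w₂⟩ :=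
    exists_two_openImmersions (s.imageι ≫ p₁) (s.imageι ≫ p₂) R₁ R₂
      (isCompact_range (s ≫ p₁).continuous) (isCompact_range (s ≫ p₂).continuous) hpre
  haveI : IsProper b := HTopHyper.isProper_of_isBlowUp hb hI.1
  haveI : IsProper c₁ := HTopHyper.isProper_of_isBlowUp hc₁ hJ₁.1
  haveI : IsProper c₂ := HTopHyper.isProper_of_isBlowUp hc₂ hJ₂.1
  -- the lift of `U`
  let O := (s.imageι ≫ p₁) ⁻¹ᵁ R₁
  haveI : IsIso (b ∣_ O) := BlowUpBasics.isIso_morphismRestrict hb O hI.2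
  let τ : U ⟶ (O : Scheme.{u}) := IsOpenImmersion.lift O.ι s.toImage (by
    rw [Scheme.Opens.range_ι]; exact (range_toImage_eq p₁ s).ge)
  let v : U ⟶ Xt := τ ≫ inv (b ∣_ O) ≫ (b ⁻¹ᵁ O).ι
  have hv : v ≫ b = s.toImage := by
    simp only [v, Category.assoc, ← morphismRestrict_ι, IsIso.inv_hom_id_assoc, τ,
      IsOpenImmersion.lift_fac]
  have e₁ : (v ≫ k₁) ≫ c₁ = j₁ := by
    rw [Category.assoc, w₁, reassoc_of% hv, Scheme.Hom.toImage_imageι_assoc, hs₁]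
  have e₂ : (v ≫ k₂) ≫ c₂ = j₂ := by
    rw [Category.assoc, w₂, reassoc_of% hv, Scheme.Hom.toImage_imageι_assoc, hs₂]
  -- glue
  have hkg : k₁ ≫ c₁ ≫ g₁ = k₂ ≫ c₂ ≫ g₂ := by
    rw [reassoc_of% w₁, reassoc_of% w₂, pullback.condition]
  have hcl : IsClosed (Set.range (pullback.lift k₁ k₂ hkg)) := by
    let m : pullback (c₁ ≫ g₁) (c₂ ≫ g₂) ⟶ pullback g₁ g₂ :=
      pullback.map _ _ _ _ c₁ c₂ (𝟙 S) (Category.comp_id _) (Category.comp_id _)
    have hm : pullback.lift k₁ k₂ hkg ≫ m = b ≫ s.imageι := by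
      apply pullback.hom_ext
      · simp only [m, Category.assoc, pullback.lift_fst, pullback.lift_fst_assoc]
        exact w₁
      · simp only [m, Category.assoc, pullback.lift_snd, pullback.lift_snd_assoc]
        exact w₂
    haveI : IsSeparated (m ≫ pullback.fst g₁ g₂) := by
      rw [show m ≫ pullback.fst g₁ g₂ = pullback.fst _ _ ≫ c₁ from pullback.lift_fst _ _ _]
      infer_instance
    haveI : IsSeparated m := IsSeparated.of_comp m (pullback.fst g₁ g₂)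
    haveI : IsProper (pullback.lift k₁ k₂ hkg ≫ m) := by rw [hm]; infer_instance
    haveI : IsProper (pullback.lift k₁ k₂ hkg) := IsProper.of_comp _ m
    exact (pullback.lift k₁ k₂ hkg).isClosedMap.isClosed_range
  let q := pushout.desc (c₁ ≫ g₁) (c₂ ≫ g₂) hkg
  haveI : IsSeparated q := LocImmersion.isSeparated_pushout k₁ k₂ _ _ hkg hcl
  have hcov := LocImmersion.mem_range_inl_or_inr k₁ k₂
  haveI : LocallyOfFiniteType q := by
    refine IsZariskiLocalAtSource.of_openCover (LocImmersion.coverTwo (pushout.inl k₁ k₂)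
      (pushout.inr k₁ k₂) hcov) fun i => ?_
    rcases i with ⟨_ | _⟩
    · show LocallyOfFiniteType (pushout.inr k₁ k₂ ≫ q)
      rw [pushout.inr_desc]; infer_instance
    · show LocallyOfFiniteType (pushout.inl k₁ k₂ ≫ q)
      rw [pushout.inl_desc]; infer_instance
  haveI : CompactSpace Y₁ := QuasiCompact.compactSpace_of_compactSpace c₁
  haveI : CompactSpace Y₂ := QuasiCompact.compactSpace_of_compactSpace c₂
  haveI : CompactSpace ↥(pushout k₁ k₂) := by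
    refine ⟨?_⟩
    rw [show (Set.univ : Set ↥(pushout k₁ k₂)) =
        Set.range (pushout.inl k₁ k₂) ∪ Set.range (pushout.inr k₁ k₂) from
      (Set.eq_univ_of_forall hcov).symm]
    exact (isCompact_range (pushout.inl k₁ k₂).continuous).union
      (isCompact_range (pushout.inr k₁ k₂).continuous)
  haveI : QuasiCompact q := quasiCompact_of_compactSpace q
  refine ⟨pushout k₁ k₂, q, inferInstance, inferInstance, inferInstance, J₁, J₂, Y₁, Y₂, c₁, c₂,
    pushout.inl k₁ k₂, pushout.inr k₁ k₂, v ≫ k₁, v ≫ k₂, hc₁, ?_, hc₂, ?_, inferInstance,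
    inferInstance, pushout.inl_desc _ _ _, pushout.inr_desc _ _ _, e₁, e₂,
    by simp only [Category.assoc, pushout.condition], hcov⟩
  · have : R₁ = j₁.opensRange := Opens.ext (congrArg (fun f : U ⟶ X₁ => Set.range f) hs₁)
    exact this ▸ hJ₁
  · have : R₂ = j₂.opensRange := Opens.ext (congrArg (fun f : U ⟶ X₂ => Set.range f) hs₂)
    exact this ▸ hJ₂

end Groth.NagComp
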