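import Groth.Agent.NagComp.CommonTarget

/-!
# Finitely many schemes containing a common open embed into a common one after admissible blow-ups
-/

universe u

open CategoryTheory Limits AlgebraicGeometry TopologicalSpace

set_option linter.style.haveILetI false

namespace Groth.NagComp

variable {U X S : Scheme.{u}}

theorem isOpenImmersion_of_comp_blowUp {X' : Scheme.{u}} (b : X' ⟶ X) (u : U ⟶ X') (j : U ⟶ X)
    [IsOpenImmersion j] (h : u ≫ b = j) [IsIso (b ∣_ j.opensRange)] : IsOpenImmersion u := by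
  let R := j.opensRange
  let u' : U ⟶ (b ⁻¹ᵁ R : X'.Opens) := IsOpenImmersion.lift (b ⁻¹ᵁ R).ι u (by
    rintro _ ⟨x, rfl⟩
    rw [Scheme.Opens.range_ι]
    show b (u x) ∈ R
    rw [← Scheme.Hom.comp_apply, h]
    exact ⟨x, rfl⟩)
  have hu' : u' ≫ (b ⁻¹ᵁ R).ι = u := IsOpenImmersion.lift_fac _ _ _
  have he : (u' ≫ (b ∣_ R)) ≫ R.ι = j := by
    rw [Category.assoc, morphismRestrict_ι, reassoc_of% hu', h]
  haveI : IsOpenImmersion ((u' ≫ (b ∣_ R)) ≫ R.ι) := he.symm ▸ inferInstance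
  haveI : IsOpenImmersion (u' ≫ (b ∣_ R)) := IsOpenImmersion.of_comp _ R.ι
  haveI : IsOpenImmersion u' := IsOpenImmersion.of_comp _ (b ∣_ R)
  rw [← hu']
  infer_instance

/-- A member of a family embedded in a common target. -/
structure Piece {Xc : Scheme.{u}} (q : Xc ⟶ S) (e : U ⟶ Xc) (g : X ⟶ S) (j : U ⟶ X)
    [IsOpenImmersion j] where
  ideal : X.IdealSheafData
  space : Scheme.{u}
  b : space ⟶ X
  o : space ⟶ Xc
  u : U ⟶ space
  isBlowUp : BlowUp.IsBlowUp b ideal
  adm : BlowUp.IsAdmissibleFor j.opensRange ideal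
  openImm : IsOpenImmersion o
  comm : o ≫ q = b ≫ g
  fac : u ≫ b = j
  glue : u ≫ o = e

theorem exists_common_target_fin [CompactSpace S] [QuasiSeparatedSpace S] (gU : U ⟶ S)
    [QuasiCompact gU] :
    ∀ (n : ℕ) (X : Fin (n + 1) → Scheme.{u}) (g : ∀ i, X i ⟶ S)
      [∀ i, IsSeparated (g i)] [∀ i, QuasiCompact (g i)] [∀ i, LocallyOfFiniteType (g i)]
      (j : ∀ i, U ⟶ X i) [∀ i, IsOpenImmersion (j i)] (_ : ∀ i, j i ≫ g i = gU),
    ∃ (Xc : Scheme.{u}) (q : Xc ⟶ S) (e : U ⟶ Xc), IsSeparated q ∧ QuasiCompact q ∧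
      LocallyOfFiniteType q ∧ IsOpenImmersion e ∧ e ≫ q = gU ∧
      ∃ D : ∀ i, Piece q e (g i) (j i), ∀ x, ∃ i, x ∈ Set.range (D i).o := by
  intro n
  induction n with
  | zero =>
    intro X g _ _ _ j _ hj
    haveI : CompactSpace (X 0) := QuasiCompact.compactSpace_of_compactSpace (g 0)
    refine ⟨X 0, g 0, j 0, inferInstance, inferInstance, inferInstance, inferInstance, hj 0,
      fun i => ?_, fun x => ⟨0, ?_⟩⟩
    · obtain rfl : i = 0 := Subsingleton.elim (α := Fin 1) _ _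
      exact ⟨⊤, X 0, 𝟙 _, 𝟙 _, j 0,
        ⟨by rw [Scheme.IdealSheafData.comap_top]; exact Divisors.isEffCartierIdeal_top,
          fun Y g _ => ⟨g, Category.comp_id g, fun h hh => by rw [← hh, Category.comp_id]⟩⟩,
        RefRank.isAdmissibleFor_top _, inferInstance, rfl, Category.comp_id _, Category.comp_id _⟩
    · exact ⟨x, rfl⟩
  | succ n ih =>
    intro X g _ _ _ j _ hj
    obtain ⟨X₀, q₀, e, hq₀, hq₀c, hq₀t, he, heq, D, hD⟩ :=
      ih (fun i => X i.castSucc) (fun i => g i.castSucc) (fun i => j i.castSucc)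
        (fun i => hj i.castSucc)
    obtain ⟨Z, r, hr, hrt, hrc, I₁, I₂, Y₁, Y₂, d₁, d₂, o₁, o₂, u₁, u₂, hd₁, hI₁, hd₂, hI₂, ho₁,
      ho₂, w₁, w₂, f₁, f₂, hglue, hcov⟩ :=
      exists_common_target gU q₀ (g (Fin.last (n + 1))) e (j (Fin.last (n + 1))) heq (hj _)
    haveI := BlowUpBasics.isIso_morphismRestrict hd₁ _ hI₁.2
    haveI : IsOpenImmersion u₁ := isOpenImmersion_of_comp_blowUp d₁ u₁ e f₁
    have hold : ∀ i : Fin (n + 1), ∃ P : Piece r (u₁ ≫ o₁) (g i.castSucc) (j i.castSucc),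
        ∀ y : Y₁, d₁ y ∈ Set.range (D i).o → o₁ y ∈ Set.range P.o := by
      intro i
      haveI := (D i).openImm
      haveI : CompactSpace (X i.castSucc) :=
        QuasiCompact.compactSpace_of_compactSpace (g i.castSucc)
      haveI : QuasiSeparatedSpace (X i.castSucc) :=
        quasiSeparatedSpace_of_quasiSeparated (g i.castSucc)
      haveI := BlowUpBasics.isIso_morphismRestrict (D i).isBlowUp _ (D i).adm.2
      have hfst : BlowUp.IsBlowUp (pullback.fst (D i).o d₁) (I₁.comap (D i).o) :=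
        BlowUpBasics.isBlowUp_of_isPullback hd₁ (IsPullback.of_hasPullback (D i).o d₁)
      obtain ⟨K, hKft, hKs, hK⟩ := Groth.Agent.S1694.result _ _ (D i).adm.1 (D i).b (D i).isBlowUp _
        (RefRank.isFiniteTypeIdeal_comap (D i).o hI₁.1) _ hfst
      have hKa : Disjoint (K.support : Set (X i.castSucc)) (j i.castSucc).opensRange := by
        rw [hKs, Set.disjoint_union_left]
        refine ⟨(D i).adm.2, Set.disjoint_left.mpr ?_⟩
        rintro _ ⟨x', hx', rfl⟩ ⟨w, hw⟩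
        have hw' : (D i).u w ∈ (D i).b ⁻¹ᵁ (j i.castSucc).opensRange := by
          show (D i).b ((D i).u w) ∈ (j i.castSucc).opensRange
          rw [← Scheme.Hom.comp_apply, (D i).fac]
          exact ⟨w, rfl⟩
        have he' := congrArg Subtype.val (((D i).b ∣_ (j i.castSucc).opensRange).isOpenEmbedding.injective
          (a₁ := ⟨(D i).u w, hw'⟩) (a₂ := ⟨x', ⟨w, hw⟩⟩) (Subtype.ext (by
            rw [morphismRestrict_base]
            show (D i).b ((D i).u w) = (D i).b x'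
            rw [← Scheme.Hom.comp_apply, (D i).fac]
            exact hw)))
        rw [Scheme.IdealSheafData.support_comap] at hx'
        refine Set.disjoint_left.mp hI₁.2 hx' ⟨w, ?_⟩
        refine (congr($((D i).glue.symm) w)).trans ?_
        rw [Scheme.Hom.comp_apply]
        exact congrArg (D i).o he'
      refine ⟨⟨K, _, pullback.fst (D i).o d₁ ≫ (D i).b, pullback.snd (D i).o d₁ ≫ o₁,
        pullback.lift (D i).u u₁ ((D i).glue.trans f₁.symm), hK, ⟨hKft, hKa⟩, inferInstance, ?_,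
        by rw [pullback.lift_fst_assoc, (D i).fac], by rw [pullback.lift_snd_assoc]⟩, ?_⟩
      · rw [Category.assoc, w₁, ← pullback.condition_assoc, Category.assoc, (D i).comm]
      · intro y hy
        obtain ⟨a, ha⟩ : y ∈ Set.range (pullback.snd (D i).o d₁) := by
          rw [Scheme.Pullback.range_snd]; exact hy
        exact ⟨a, by show (pullback.snd (D i).o d₁ ≫ o₁) a = o₁ y; rw [Scheme.Hom.comp_apply, ha]⟩
    choose P hP using hold
    let Pl : Piece r (u₁ ≫ o₁) (g (Fin.last (n + 1))) (j (Fin.last (n + 1))) :=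
      ⟨I₂, Y₂, d₂, o₂, u₂, hd₂, hI₂, ho₂, w₂, f₂, hglue.symm⟩
    refine ⟨Z, r, u₁ ≫ o₁, hr, hrc, hrt, inferInstance,
      by rw [Category.assoc, w₁, reassoc_of% f₁, heq],
      Fin.lastCases (motive := fun i => Piece r (u₁ ≫ o₁) (g i) (j i)) Pl P, fun x => ?_⟩
    rcases hcov x with ⟨y, rfl⟩ | ⟨y, rfl⟩
    · obtain ⟨i, hi⟩ := hD (d₁ y)
      exact ⟨i.castSucc, by rw [Fin.lastCases_castSucc]; exact hP i y hi⟩
    · exact ⟨Fin.last _, by rw [Fin.lastCases_last]; exact ⟨y, rfl⟩⟩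

end Groth.NagComp
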