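import Groth.Agent.NagComp.AffineCompletion
import Groth.Agent.NagComp.AmpleExtend
import Groth.Agent.NagComp.CommonTarget
import Groth.Agent.NagComp.CommonTargetFin
import Groth.Agent.HensPair.BlowUpUnibranch
import Groth.Agent.AmpleFibre.Nhd
import Groth.Agent.PicAux.EffCartierSection

/-!
# Goodman: an affine open of a proper integral scheme is the complement of an ample divisor
after a blow-up
-/

universe u

open CategoryTheory CategoryTheory.Limits AlgebraicGeometry Opposite TopologicalSpace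

set_option backward.isDefEq.respectTransparency.types false
set_option linter.style.haveILetI false

namespace Groth.NagComp.Goodman

open Groth.PicAux Groth.PropsBasic.Ample

theorem isAmple_of_isRelAmple_top {T S : Scheme.{u}} [IsAffine S] [CompactSpace T] {t : T ⟶ S}
    {N : T.Modules} (h : RelAmple.IsRelAmple t N) : CohB1.IsAmple N :=
  Groth.Ega2Proj.isAmple_of_iso ((Scheme.Modules.restrictFunctorId (X := T)).app N)
    (Groth.Ega2Proj.isAmple_of_isRelAmple h ⟨⊤, isAffineOpen_top S⟩ (𝟙 T) fun _ _ => trivial)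

/-- A scheme receiving a schematically dominant map from an integral scheme is integral. -/
theorem isIntegral_of_dominant {U P : Scheme.{u}} [IsIntegral U] (j : U ⟶ P) [QuasiCompact j]
    [IsSchemeTheoreticallyDominant j] : IsIntegral P := by
  haveI : IsReduced P := IsSchemeTheoreticallyDominant.isReduced j
  haveI : PreirreducibleSpace P := by
    refine ⟨?_⟩
    rw [← j.denseRange.closure_range]
    exact (IrreducibleSpace.isIrreducible_univ U |>.image j (j.continuous.continuousOn)).isPreirreducible.closure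
      |> fun h => by rwa [Set.image_univ] at h
  haveI : IrreducibleSpace P := { toNonempty := ⟨j (genericPoint U)⟩ }
  exact isIntegral_of_irreducibleSpace_of_isReduced P

set_option maxHeartbeats 1000000 in
/-- The forward direction of Goodman's theorem. -/
theorem exists_ample_boundary {X S : Scheme.{u}} [IsAffine S] (π : X ⟶ S) [IsProper π] [IsIntegral X]
    (U : X.Opens) (hU : IsAffineOpen U) (hne : (U : Set X).Nonempty) :
    ∃ (K : X.IdealSheafData) (T : Scheme.{u}) (f : T ⟶ X) (D : T.IdealSheafData) (L : T.Modules),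
      (K.support : Set X) ⊆ (U : Set X)ᶜ ∧ BlowUp.IsBlowUp f K ∧ IsProper (f ≫ π) ∧
      BlowUp.IsEffCartierIdeal D ∧ (D.support : Set T) = (fun x => f x) ⁻¹' ((U : Set X)ᶜ) ∧
      ClSub.IsInverseOf L (ClSub.idealMod D) ∧ CohB1.IsAmple L := by
  haveI : IsAffine (U : Scheme.{u}) := hU
  haveI : Nonempty (U : Scheme.{u}) := hne.to_subtype
  haveI : IsIntegral (U : Scheme.{u}) := isIntegral_of_isOpenImmersion U.ι
  haveI : CompactSpace X := QuasiCompact.compactSpace_of_compactSpace π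
  haveI : QuasiSeparatedSpace X := quasiSeparatedSpace_of_quasiSeparated π
  let u : (U : Scheme.{u}) ⟶ S := U.ι ≫ π
  haveI : QuasiCompact U.ι := QuasiCompact.of_comp U.ι (terminal.from X)
  obtain ⟨P, p, L, ψ, j, hp, hL, hj, hjq, hjd, hjp, hjr⟩ := AffComp.exists_completion u
  haveI : IsIntegral P := isIntegral_of_dominant j
  haveI : CompactSpace P := QuasiCompact.compactSpace_of_compactSpace p
  obtain ⟨Xc, q, hqs, hqt, hqc, K₁, K₂, X₁, X₂, b₁, b₂, o₁, o₂, u₁, u₂, hb₁, hK₁, hb₂, hK₂, ho₁, ho₂,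
    w₁, w₂, f₁, f₂, hglue, hcov⟩ := exists_common_target u π p U.ι j rfl hjp
  let R := j.opensRange
  have hRψ : gloc ψ = R := Opens.ext hjr
  have hgX : genericPoint X ∉ K₁.support := fun h =>
    Set.disjoint_left.mp hK₁.2 h (by
      rw [Scheme.Opens.opensRange_ι]
      exact (genericPoint_specializes hne.some).mem_open U.2 hne.some_mem)
  have hgP : genericPoint P ∉ K₂.support := fun h =>
    Set.disjoint_left.mp hK₂.2 h
      ((genericPoint_specializes (j (genericPoint (U : Scheme.{u})))).mem_open R.2 ⟨_, rfl⟩)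
  haveI : IsIntegral X₁ := Groth.HensPair.isIntegral_blowUp hb₁ hgX
  haveI : IsIntegral X₂ := Groth.HensPair.isIntegral_blowUp hb₂ hgP
  haveI : IsProper b₁ := HTopHyper.isProper_of_isBlowUp hb₁ hK₁.1
  haveI : IsProper b₂ := HTopHyper.isProper_of_isBlowUp hb₂ hK₂.1
  haveI : IsProper o₁ := by
    haveI : IsProper (o₁ ≫ q) := by rw [w₁]; infer_instance
    exact IsProper.of_comp o₁ q
  haveI : IsProper o₂ := by
    haveI : IsProper (o₂ ≫ q) := by rw [w₂]; infer_instance
    exact IsProper.of_comp o₂ q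
  have hsub : ∀ {A B : Scheme.{u}} [IsIntegral B] (oA : A ⟶ Xc) (oB : B ⟶ Xc) [IsOpenImmersion oA]
      [IsProper oA] (a : A) (b : B), oA a = oB b → Set.range oB ⊆ Set.range oA := by
    intro A B _ oA oB _ _ a b hab
    rintro _ ⟨y, rfl⟩
    have hcl : IsClopen (oB ⁻¹' Set.range oA) :=
      ⟨oA.isClosedMap.isClosed_range.preimage oB.continuous,
        oA.isOpenEmbedding.isOpen_range.preimage oB.continuous⟩
    exact (Set.eq_univ_iff_forall.1 (hcl.eq_univ ⟨b, a, hab⟩)) y
  obtain ⟨w⟩ : Nonempty (U : Scheme.{u}) := inferInstance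
  have hmeet : o₁ (u₁ w) = o₂ (u₂ w) := by
    rw [← Scheme.Hom.comp_apply, hglue, Scheme.Hom.comp_apply]
  haveI : Surjective o₁ := ⟨fun x => (hcov x).elim id fun h => hsub o₁ o₂ (u₁ w) (u₂ w) hmeet h⟩
  haveI : Surjective o₂ := ⟨fun x => (hcov x).elim (fun h => hsub o₂ o₁ (u₂ w) (u₁ w) hmeet.symm h) id⟩
  haveI : IsIso o₁ := (isIso_iff_isOpenImmersion_and_epi_base _).mpr
    ⟨inferInstance, (TopCat.epi_iff_surjective _).mpr o₁.surjective⟩
  haveI : IsIso o₂ := (isIso_iff_isOpenImmersion_and_epi_base _).mpr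
    ⟨inferInstance, (TopCat.epi_iff_surjective _).mpr o₂.surjective⟩
  let e : X₂ ⟶ X₁ := o₂ ≫ inv o₁
  let f : X₂ ⟶ X := e ≫ b₁
  have hf : BlowUp.IsBlowUp f K₁ := by
    have := BlowUpBasics.isBlowUp_of_isPullback hb₁
      (IsPullback.of_vert_isIso (f := 𝟙 X) (fst := f) (snd := e) ⟨(Category.comp_id f)⟩)
    rwa [K₁.comap_id] at this
  have hfπ : f ≫ π = b₂ ≫ p := by
    simp only [f, e, Category.assoc, ← w₁, IsIso.inv_hom_id_assoc, w₂]
  have hu : u₂ ≫ f = U.ι := by
    simp only [f, e, Category.assoc, ← reassoc_of% hglue, IsIso.hom_inv_id_assoc, f₁]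
  -- the preimages of the two copies of `U` agree
  haveI := BlowUpBasics.isIso_morphismRestrict hb₂ R hK₂.2
  haveI := BlowUpBasics.isIso_morphismRestrict hf U (by simpa using hK₁.2)
  have hpre : ∀ {Z B : Scheme.{u}} (b : Z ⟶ B) (O : B.Opens) [IsIso (b ∣_ O)] (v : (U : Scheme.{u}) ⟶ Z),
      Set.range (v ≫ b) = (O : Set B) → (b ⁻¹ᵁ O : Set Z) = Set.range v := by
    intro Z B b O _ v hv
    refine Set.Subset.antisymm (fun z hz => ?_) ?_
    · obtain ⟨x, hx⟩ := (hv.ge (show b z ∈ (O : Set B) from hz))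
      have hx' : v x ∈ b ⁻¹ᵁ O := by
        show b (v x) ∈ O
        rw [← Scheme.Hom.comp_apply, hx]
        exact hz
      refine ⟨x, congrArg Subtype.val ((b ∣_ O).isOpenEmbedding.injective
        (a₁ := ⟨v x, hx'⟩) (a₂ := ⟨z, hz⟩) (Subtype.ext ?_))⟩
      rw [morphismRestrict_base_coe, morphismRestrict_base_coe, ← Scheme.Hom.comp_apply, hx]
    · rintro _ ⟨x, rfl⟩
      show b (v x) ∈ O
      rw [← Scheme.Hom.comp_apply]
      exact hv.le ⟨x, rfl⟩
  have hWR : (b₂ ⁻¹ᵁ R : Set X₂) = (f ⁻¹ᵁ U : Set X₂) :=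
    (hpre b₂ R u₂ (by rw [f₂]; rfl)).trans (hpre f U u₂ (by rw [hu, Scheme.Opens.range_ι])).symm
  -- the ample section
  haveI : CompactSpace X₂ := QuasiCompact.compactSpace_of_compactSpace b₂
  haveI : QuasiSeparatedSpace P := quasiSeparatedSpace_of_quasiSeparated p
  haveI : QuasiSeparatedSpace X₂ := quasiSeparatedSpace_of_quasiSeparated b₂
  obtain ⟨Dp, hDp⟩ := PolAmple.exists_pol' hb₂ hK₂.1
  have hM := PolAmple.isRelAmple b₂ Dp
  rw [hDp] at hM
  have hMi := Groth.Ega2Proj.isInvertible_of_isRelAmple hM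
  have hLi := Groth.Ega2Proj.isInvertible_of_isRelAmple hL
  have hPi := isInvertible_pullback b₂ hLi
  obtain ⟨k, hk⟩ := PolAmple.exists_gen_off_support (K₂.comap b₂) (W := b₂ ⁻¹ᵁ R) fun x hx hxs => by
    rw [K₂.support_comap b₂] at hxs
    exact Set.disjoint_left.mp hK₂.2 hxs hx
  have hTs : gloc (pullSec b₂ L ψ) = b₂ ⁻¹ᵁ R := (gloc_pullSec b₂ hLi ψ).trans (by rw [hRψ])
  obtain ⟨k₀, hk₀⟩ := Groth.Chow.exists_extend_sec hMi hPi (pullSec b₂ L ψ) (res _ hTs.le k)
  obtain ⟨n₀, -, hamp⟩ := Groth.Agent.S2331.result b₂ p _ L hM hL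
  let n := max k₀ n₀
  obtain ⟨c, hc⟩ := hk₀ n (le_max_left _ _)
  obtain ⟨i⟩ := pullback_tensorPow b₂ L (n + 1)
  let i' := (exists_associator (ClSub.idealMod (K₂.comap b₂))
      (CohB1.tensorPow ((Scheme.Modules.pullback b₂).obj L) n) ((Scheme.Modules.pullback b₂).obj L)).choose ≪≫
    PicGrp.tensorModIso (Iso.refl (ClSub.idealMod (K₂.comap b₂))) i.symm
  let τ := i'.hom.app ⊤ (tmulSec c (pullSec b₂ L ψ))
  have hτ : gloc τ = b₂ ⁻¹ᵁ R := by
    rw [gloc_map i'.hom, gloc_tmulSec (isInvertible_tensorMod hMi (isInvertible_tensorPow hPi n)) hPi, hTs]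
    refine le_antisymm inf_le_right (le_inf (hTs.ge.trans (le_gloc ?_)) le_rfl)
    rw [hc]
    exact (hk.res hTs.le).tensor ((gen_gloc (pullSec b₂ L ψ) le_rfl).pow n)
  have hN := hamp (n + 1) ((le_max_right _ _).trans (Nat.le_succ _))
  have hNi := Groth.Ega2Proj.isInvertible_of_isRelAmple hN
  have hne' : homOfSection τ ≠ 0 := by
    intro h0
    have hmem : u₂ w ∈ gloc τ := by
      rw [hτ]
      show b₂ (u₂ w) ∈ R
      rw [← Scheme.Hom.comp_apply, f₂]
      exact ⟨w, rfl⟩
    have hgen := (gen_gloc τ (le_refl (gloc τ)))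
    have hz : res _ (le_top : gloc τ ≤ ⊤) τ = 0 := by
      rw [← homOfSection_one τ, h0]
      simp
      rfl
    rw [hz] at hgen
    haveI : Nonempty (gloc τ : X₂.Opens) := ⟨⟨_, hmem⟩⟩
    exact zero_ne_one ((hgen (gloc τ) le_rfl).1 (by simp))
  have hreg := regularSection_of_ne_zero hNi hne'
  refine ⟨K₁, X₂, f, PicF2.zeroScheme _ (homOfSection τ), _, ?_, hf, by rw [hfπ]; infer_instance,
    isEffCartierIdeal_zeroScheme hNi hreg, ?_, isInverseOf_zeroScheme hNi hreg,
    isAmple_of_isRelAmple_top hN⟩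
  · intro x hx hxU
    exact Set.disjoint_left.mp hK₁.2 hx (by rw [Scheme.Opens.opensRange_ι]; exact hxU)
  · ext x
    rw [SetLike.mem_coe, ← not_iff_not]
    refine (mem_genLocus_iff_not_mem_support hNi _ x).symm.trans ?_
    rw [genLocus_eq_gloc, gsec_homOfSection, hτ, ← SetLike.mem_coe, hWR]
    exact (not_not).symm

end Groth.NagComp.Goodman
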