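import Groth.Agent.NagComp.GlueChart
import Groth.Agent.NagComp.Sep
import Groth.Agent.Chow.AffineImm

/-!
# Nagata compactification

`hasCompactification_of_two`: if `X = U₀ ∪ U₁` and both opens have compactifications then so does
`X`; no density and no Noetherian hypothesis. `hasCompactification`: every separated morphism of
finite type to a quasi-compact quasi-separated scheme has one.
-/

universe u

open CategoryTheory Limits AlgebraicGeometry TopologicalSpace

set_option linter.style.haveILetI false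

namespace Groth.NagComp

variable {X S : Scheme.{u}} {f : X ⟶ S}

/-- Two points of charts over a point of the closure of the common open lie over the same point. -/
theorem mem_equalizer [IsSeparated f] {U₀ U₁ : X.Opens} (D₀ : Chart f U₀) (D₁ : Chart f U₁)
    {W : Scheme.{u}} (v₀ : W ⟶ D₀.Xi) (v₁ : W ⟶ D₁.Xi) (hv : v₀ ≫ D₀.h = v₁ ≫ D₁.h)
    (w : (v₀ ≫ D₀.o) ≫ D₀.g = (v₁ ≫ D₁.o) ≫ D₁.g)
    {z : ↥(pullback D₀.g D₁.g)}
    (hz : z ∈ closure (Set.range (pullback.lift (v₀ ≫ D₀.o) (v₁ ≫ D₁.o) w)))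
    {a₀ : D₀.Xi} {a₁ : D₁.Xi} (h₀ : pullback.fst D₀.g D₁.g z = D₀.o a₀)
    (h₁ : pullback.snd D₀.g D₁.g z = D₁.o a₁) :
    D₀.h a₀ = D₁.h a₁ ∧ a₀ ∈ closure (Set.range v₀) ∧ a₁ ∈ closure (Set.range v₁) := by
  let P := pullback (D₀.h ≫ f) (D₁.h ≫ f)
  let m : P ⟶ pullback D₀.g D₁.g :=
    pullback.map _ _ _ _ D₀.o D₁.o (𝟙 S) (by rw [Category.comp_id]; exact D₀.h_f)
      (by rw [Category.comp_id]; exact D₁.h_f)
  let δ : pullback D₀.h D₁.h ⟶ P := pullback.mapDesc D₀.h D₁.h f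
  let ε : W ⟶ pullback D₀.h D₁.h := pullback.lift v₀ v₁ hv
  obtain ⟨t, rfl⟩ : z ∈ Set.range m := by
    rw [Scheme.Pullback.range_map]
    exact ⟨⟨a₀, h₀.symm⟩, ⟨a₁, h₁.symm⟩⟩
  have hεm : ε ≫ δ ≫ m = pullback.lift (v₀ ≫ D₀.o) (v₁ ≫ D₁.o) w := by
    apply pullback.hom_ext
    · simp only [ε, δ, m, pullback.mapDesc, Category.assoc, pullback.lift_fst, pullback.lift_fst_assoc,
        Category.comp_id, Category.id_comp]
    · simp only [ε, δ, m, pullback.mapDesc, Category.assoc, pullback.lift_snd, pullback.lift_snd_assoc,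
        Category.comp_id, Category.id_comp]
  have ht : t ∈ closure (Set.range (ε ≫ δ)) := by
    rw [m.isOpenEmbedding.isInducing.closure_eq_preimage_closure_image, Set.mem_preimage,
      ← Set.range_comp]
    refine closure_mono ?_ hz
    rintro _ ⟨x, rfl⟩
    refine ⟨x, ?_⟩
    rw [← hεm, Function.comp_apply, ← Scheme.Hom.comp_apply, Category.assoc]
  haveI : IsClosedImmersion δ := MorphismProperty.of_isPullback
    (pullback_map_diagonal_isPullback D₀.h D₁.h f) inferInstance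
  obtain ⟨e, he, rfl⟩ : t ∈ δ '' closure (Set.range ε) := by
    rw [← δ.isClosedEmbedding.closure_image_eq, ← Set.range_comp]
    exact ht
  have e₀ : pullback.fst D₀.h D₁.h e = a₀ := D₀.o.isOpenEmbedding.injective (by
    rw [← h₀, ← Scheme.Hom.comp_apply, ← Scheme.Hom.comp_apply, ← Scheme.Hom.comp_apply]
    congr 1
    simp only [m, δ, pullback.mapDesc, Category.assoc, pullback.lift_fst, pullback.lift_fst_assoc,
      Category.comp_id])
  have e₁ : pullback.snd D₀.h D₁.h e = a₁ := D₁.o.isOpenEmbedding.injective (by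
    rw [← h₁, ← Scheme.Hom.comp_apply, ← Scheme.Hom.comp_apply, ← Scheme.Hom.comp_apply]
    congr 1
    simp only [m, δ, pullback.mapDesc, Category.assoc, pullback.lift_snd, pullback.lift_snd_assoc,
      Category.comp_id])
  refine ⟨?_, ?_, ?_⟩
  · rw [← e₀, ← e₁, ← Scheme.Hom.comp_apply, pullback.condition, Scheme.Hom.comp_apply]
  · rw [← e₀]
    exact map_mem_closure (pullback.fst D₀.h D₁.h).continuous he
      (by rintro _ ⟨x, rfl⟩; exact ⟨x, congr($((pullback.lift_fst v₀ v₁ hv).symm) x)⟩)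
  · rw [← e₁]
    exact map_mem_closure (pullback.snd D₀.h D₁.h).continuous he
      (by rintro _ ⟨x, rfl⟩; exact ⟨x, congr($((pullback.lift_snd v₀ v₁ hv).symm) x)⟩)

set_option maxHeartbeats 1000000 in
theorem hasCompactification_of_two [CompactSpace S] [QuasiSeparatedSpace S] (f : X ⟶ S)
    [IsSeparated f] [LocallyOfFiniteType f] [QuasiCompact f]
    (U : Fin 2 → X.Opens) (hUc : ∀ i, IsCompact (U i : Set X)) (hcov : ∀ x : X, ∃ i, x ∈ U i)
    (hU : ∀ i, HasCompactification ((U i).ι ≫ f)) : HasCompactification f := by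
  classical
  haveI : CompactSpace X := QuasiCompact.compactSpace_of_compactSpace f
  haveI : QuasiSeparatedSpace X := quasiSeparatedSpace_of_quasiSeparated f
  have hD₀ := fun i => (exists_chart f (U i) (hUc i) (hU i)).some
  let W : X.Opens := U 0 ⊓ U 1
  have hWc : IsCompact (W : Set X) :=
    QuasiSeparatedSpace.inter_isCompact _ _ (U 0).2 (hUc 0) (U 1).2 (hUc 1)
  haveI : CompactSpace (W : Scheme.{u}) := isCompact_iff_compactSpace.mp hWc
  have hW : ∀ i, W ≤ U i := Fin.forall_fin_two.mpr ⟨inf_le_left, inf_le_right⟩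
  haveI : ∀ i, CompactSpace ((U i : X.Opens) : Scheme.{u}) := fun i =>
    isCompact_iff_compactSpace.mp (hUc i)
  -- separate the parts outside `U i` from the parts outside the other open
  let T : ∀ i, Set ((U i : X.Opens) : Scheme.{u}) := fun i => {x | x.1 ∉ U (1 - i)}
  have hT : ∀ i, IsClosed (T i) := fun i =>
    ((U (1 - i)).2.preimage (U i).ι.continuous).isClosed_compl
  have hD₁ : ∀ i, ∃ D : Chart f (U i), Disjoint
      (closure ((fun a => D.o a) '' (Set.range D.v)ᶜ))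
      (closure ((fun x => (D.v ≫ D.o) x) '' T i)) := by
    intro i
    let D := hD₀ i
    haveI : CompactSpace D.Y := QuasiCompact.compactSpace_of_compactSpace D.g
    haveI : QuasiSeparatedSpace D.Y := quasiSeparatedSpace_of_quasiSeparated D.g
    haveI : CompactSpace D.Xi := QuasiCompact.compactSpace_of_compactSpace D.h
    have hr : IsOpen (Set.range D.v) := D.v.isOpenEmbedding.isOpen_range
    have hTcl : IsClosed ((fun x => D.v x) '' T i) := by
      refine isClosed_of_closure_subset fun a ha => ?_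
      have h1 : D.h a ∉ U (1 - i) := by
        have : a ∈ (fun a => D.h a) ⁻¹' ((U (1 - i) : Set X)ᶜ) := by
          refine closure_minimal ?_ ((U (1 - i)).2.isClosed_compl.preimage D.h.continuous) ha
          rintro _ ⟨x, hx, rfl⟩
          show D.h (D.v x) ∉ U (1 - i)
          rw [← Scheme.Hom.comp_apply, D.v_h]
          exact hx
        exact this
      obtain ⟨j, hj⟩ := hcov (D.h a)
      obtain rfl : j = i := by
        by_contra hne
        refine h1 (?_ : D.h a ∈ U (1 - i))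
        have : j = 1 - i := by omega
        exact this ▸ hj
      obtain ⟨x, rfl⟩ := mem_range_of_mem_closure D.h D.v D.v_h
        (closure_mono (Set.image_subset_range _ _) ha) hj
      refine ⟨x, ?_, rfl⟩
      rw [← Scheme.Hom.comp_apply, D.v_h] at h1
      exact h1
    have hTc : IsCompact ((fun x => D.v x) '' T i)ᶜ := by
      have e : ((fun x => D.v x) '' T i)ᶜ =
          (Set.range D.v)ᶜ ∪ ((D.h ⁻¹ᵁ U (1 - i) : D.Xi.Opens) : Set D.Xi) := by
        ext a
        constructor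
        · intro ha
          by_cases hav : a ∈ Set.range D.v
          · obtain ⟨x, rfl⟩ := hav
            refine Or.inr ?_
            by_contra hn
            exact ha ⟨x, fun hx => hn (show D.h (D.v x) ∈ U (1 - i) by
              rw [← Scheme.Hom.comp_apply, D.v_h]; exact hx), rfl⟩
          · exact Or.inl hav
        · rintro (ha | ha) ⟨x, hx, rfl⟩
          · exact ha ⟨x, rfl⟩
          · refine hx ?_
            have : D.h (D.v x) ∈ U (1 - i) := ha
            rwa [← Scheme.Hom.comp_apply, D.v_h] at this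
      rw [e]
      exact hr.isClosed_compl.isCompact.union (D.h.isCompact_preimage (hUc _))
    obtain ⟨K, Y', c, o', hc, hK, hcp, ho', hoc, hd⟩ := exists_disjoint_closures D.o
      (Set.range D.v)ᶜ ((fun x => D.v x) '' T i) hr.isClosed_compl hTcl
      (by rw [compl_compl]; exact isCompact_range D.v.continuous) hTc
      (Set.disjoint_left.mpr fun a ha ha' => ha (Set.image_subset_range _ _ ha'))
    refine ⟨D.modify c o' ho' hoc, ?_⟩
    refine hd.mono le_rfl (closure_mono ?_)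
    rintro _ ⟨x, hx, rfl⟩
    exact ⟨_, ⟨x, hx, rfl⟩, (Scheme.Hom.comp_apply _ _ _).symm⟩
  choose D hD using hD₁
  -- separate the parts outside the `U i` over the closure of `W`
  let v : ∀ i, (W : Scheme.{u}) ⟶ (D i).Xi := fun i => X.homOfLE (hW i) ≫ (D i).v
  have hv : ∀ i, v i ≫ (D i).h = W.ι := fun i => by
    rw [Category.assoc, (D i).v_h, Scheme.homOfLE_ι]
  have hw : ∀ i, (v i ≫ (D i).o) ≫ (D i).g = W.ι ≫ f := fun i => by
    rw [Category.assoc, ← (D i).h_f, reassoc_of% hv i]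
  haveI hXc : ∀ i, CompactSpace (D i).Xi := fun i =>
    QuasiCompact.compactSpace_of_compactSpace (D i).h
  haveI hXq : ∀ i, QuasiSeparatedSpace (D i).Xi := fun i =>
    quasiSeparatedSpace_of_quasiSeparated (D i).h
  haveI : ∀ i, QuasiSeparatedSpace (D i).Y := fun i => quasiSeparatedSpace_of_quasiSeparated (D i).g
  haveI : ∀ i, QuasiCompact (D i).o := fun i => quasiCompact_of_compactSpace _
  choose B hBft hBs using fun i => FlatMorOne.exists_ftIdeal_support_eq (X := (D i).Xi)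
    ⟨(Set.range (D i).v)ᶜ, (D i).v.isOpenEmbedding.isOpen_range.isClosed_compl⟩
    (show IsCompact ((Set.range (D i).v)ᶜ)ᶜ by
      rw [compl_compl]; exact isCompact_range (D i).v.continuous)
  obtain ⟨E, Y', c, v', w', hc, hsep⟩ := exists_sep f (fun i => (D i).Xi) (fun i => (D i).Y)
    (fun i => (D i).g) (fun i => (D i).o) (fun i => (D i).h) (fun i => (D i).h_f) W.ι v hv hw B hBft
    (by
      intro z hz
      by_contra! hall
      choose a ha hoa using hall
      let χ : widePullback S (fun i => (D i).Y) (fun i => (D i).g) ⟶ pullback (D 0).g (D 1).g :=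
        pullback.lift (WidePullback.π _ 0) (WidePullback.π _ 1)
          ((WidePullback.π_arrow _ 0).trans (WidePullback.π_arrow _ 1).symm)
      have hw01 : (v 0 ≫ (D 0).o) ≫ (D 0).g = (v 1 ≫ (D 1).o) ≫ (D 1).g := (hw 0).trans (hw 1).symm
      have hχ : χ z ∈ closure (Set.range (pullback.lift (v 0 ≫ (D 0).o) (v 1 ≫ (D 1).o) hw01)) := by
        refine map_mem_closure χ.continuous hz ?_
        rintro _ ⟨x, rfl⟩
        refine ⟨x, ?_⟩
        rw [← Scheme.Hom.comp_apply]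
        refine congrArg (fun k : (W : Scheme.{u}) ⟶ _ => k x) ?_
        apply pullback.hom_ext
        · simp only [χ, Category.assoc, pullback.lift_fst, WidePullback.lift_π]
        · simp only [χ, Category.assoc, pullback.lift_snd, WidePullback.lift_π]
      obtain ⟨hh, h0, h1⟩ := mem_equalizer (D 0) (D 1) (v 0) (v 1) ((hv 0).trans (hv 1).symm) hw01 hχ
        (a₀ := a 0) (a₁ := a 1)
        (by rw [← Scheme.Hom.comp_apply, pullback.lift_fst]; exact (hoa 0).symm)
        (by rw [← Scheme.Hom.comp_apply, pullback.lift_snd]; exact (hoa 1).symm)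
      have ha' : ∀ i, a i ∉ Set.range (D i).v := fun i => by
        have := ha i
        rw [hBs i] at this
        exact this
      have hcl : ∀ i, a i ∈ closure (Set.range (D i).v) := Fin.forall_fin_two.mpr
        ⟨closure_mono (by rintro _ ⟨x, rfl⟩; exact ⟨_, (Scheme.Hom.comp_apply _ _ _).symm⟩) h0,
         closure_mono (by rintro _ ⟨x, rfl⟩; exact ⟨_, (Scheme.Hom.comp_apply _ _ _).symm⟩) h1⟩
      obtain ⟨i, hi⟩ := hcov ((D 0).h (a 0))
      have hall' : ∀ i, (D i).h (a i) = (D 0).h (a 0) :=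
        Fin.forall_fin_two.mpr ⟨rfl, hh.symm⟩
      exact ha' i (mem_range_of_mem_closure (D i).h (D i).v (D i).v_h (hcl i)
        (show (D i).h (a i) ∈ U i from (hall' i).symm ▸ hi)))
  choose o' ho' hoc using fun i => exists_lift_of_blowUp (D i).o (hc i).1 (hc i).2.1
  haveI : ∀ i, IsProper (c i) := fun i => HTopHyper.isProper_of_isBlowUp (hc i).1 (hc i).2.1.1
  let D' : ∀ i, Chart f (U i) := fun i => (D i).modify (c i) (o' i) (ho' i) (hoc i)
  let C : ∀ i, Set (Y' i) := fun i => closure ((fun a => o' i a) '' (Set.range (D i).v)ᶜ)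
  let Eb : ∀ i, Set (Y' i) := fun i => closure ((fun x => ((D i).v ≫ o' i) x) '' T i)
  have hCE : ∀ i, Disjoint (C i) (Eb i) := by
    intro i
    refine Set.disjoint_left.mpr fun y hy hy' => ?_
    refine Set.disjoint_left.mp (hD i) (map_mem_closure (c i).continuous hy ?_)
      (map_mem_closure (c i).continuous hy' ?_)
    · rintro _ ⟨x, hx, rfl⟩
      exact ⟨x, hx, congr($((hoc i).symm) x)⟩
    · rintro _ ⟨x, hx, rfl⟩
      refine ⟨x, hx, ?_⟩
      rw [← Scheme.Hom.comp_apply, Category.assoc, hoc]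
  have hCv : ∀ i, Disjoint (C i) (Set.range ((D i).v ≫ o' i)) := by
    intro i
    haveI := ho' i
    refine Disjoint.closure_left ?_ ((D i).v ≫ o' i).isOpenEmbedding.isOpen_range
    rw [Set.disjoint_left]
    rintro _ ⟨a, ha, rfl⟩ ⟨x, hx⟩
    exact ha ⟨x, (o' i).isOpenEmbedding.injective (by
      rw [← Scheme.Hom.comp_apply]; exact hx)⟩
  -- the closure of `W` in the product
  have hb : (v 0 ≫ o' 0) ≫ c 0 ≫ (D 0).g = (v 1 ≫ o' 1) ≫ c 1 ≫ (D 1).g := by
    simp only [Category.assoc, reassoc_of% hoc 0, reassoc_of% hoc 1]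
    simpa only [Category.assoc] using (hw 0).trans (hw 1).symm
  let bW : (W : Scheme.{u}) ⟶ pullback (c 0 ≫ (D 0).g) (c 1 ≫ (D 1).g) :=
    pullback.lift (v 0 ≫ o' 0) (v 1 ≫ o' 1) hb
  let Q₀ := pullback.fst (c 0 ≫ (D 0).g) (c 1 ≫ (D 1).g)
  let Q₁ := pullback.snd (c 0 ≫ (D 0).g) (c 1 ≫ (D 1).g)
  have hv' : ∀ i, v' i = v i ≫ o' i := by
    intro i
    have hadm := (hc i).2.1
    have htop : (E i).comap (v i ≫ (D i).o) = ⊤ :=
      BlowUpBasics.comap_eq_top_of_range_subset _ _ (by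
        rintro _ ⟨y, rfl⟩ hy
        exact Set.disjoint_left.mp hadm.2 hy ⟨v i y, (Scheme.Hom.comp_apply _ _ _).symm⟩)
    obtain ⟨k, -, hk⟩ := (hc i).1.2 _ (v i ≫ (D i).o) (htop ▸ Divisors.isEffCartierIdeal_top)
    exact (hk _ (hc i).2.2).trans (hk _ (by show (v i ≫ o' i) ≫ c i = _; rw [Category.assoc, hoc])).symm
  have hP : ∀ z ∈ closure (Set.range bW), Q₀ z ∉ C 0 ∨ Q₁ z ∉ C 1 := by
    intro z hz
    by_contra! hboth
    let g' : ∀ i, Y' i ⟶ S := fun i => c i ≫ (D i).g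
    let χ : pullback (c 0 ≫ (D 0).g) (c 1 ≫ (D 1).g) ⟶ widePullback S Y' g' :=
      WidePullback.lift (arrows := g') (Q₀ ≫ g' 0)
        (fun i => Fin.cases (motive := fun i => pullback (c 0 ≫ (D 0).g) (c 1 ≫ (D 1).g) ⟶ Y' i) Q₀
          (fun j => Fin.cases (motive := fun j => pullback (c 0 ≫ (D 0).g) (c 1 ≫ (D 1).g) ⟶ Y' j.succ)
            Q₁ (fun k => k.elim0) j) i)
        (Fin.forall_fin_two.mpr ⟨rfl, pullback.condition.symm⟩)
    obtain ⟨i, hi⟩ := hsep (χ z) (map_mem_closure χ.continuous hz (by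
      rintro _ ⟨x, rfl⟩
      refine ⟨x, ?_⟩
      show _ = χ (bW x)
      rw [← Scheme.Hom.comp_apply]
      refine congrArg (fun k : (W : Scheme.{u}) ⟶ _ => k x) ?_
      refine WidePullback.hom_ext _ _ _ (Fin.forall_fin_two.mpr ⟨?_, ?_⟩) ?_
      · rw [WidePullback.lift_π, hv', Category.assoc bW, WidePullback.lift_π]
        exact (pullback.lift_fst _ _ _).symm
      · rw [WidePullback.lift_π, hv', Category.assoc bW, WidePullback.lift_π]
        exact (pullback.lift_snd _ _ _).symm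
      · simp only [χ, bW, Q₀, g', Category.assoc, WidePullback.lift_base, pullback.lift_fst_assoc,
          reassoc_of% hoc 0]
        simpa only [Category.assoc] using (hw 0).symm))
    apply hi
    rw [← Scheme.Hom.comp_apply, WidePullback.lift_π]
    have hsub : ∀ i, C i ⊆ closure ((fun y => c i y) ⁻¹' ((fun x => (D i).o x) '' (B i).support)) := by
      intro i
      refine closure_mono ?_
      rintro _ ⟨a, ha, rfl⟩
      exact ⟨a, by rw [hBs]; exact ha, congr($((hoc i).symm) a)⟩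
    revert i
    exact Fin.forall_fin_two.mpr ⟨fun _ => hsub 0 hboth.1, fun _ => hsub 1 hboth.2⟩
  haveI hYc : ∀ i, CompactSpace (Y' i) := fun i =>
    QuasiCompact.compactSpace_of_compactSpace (c i ≫ (D i).g)
  haveI hYq : ∀ i, QuasiSeparatedSpace (Y' i) := fun i =>
    quasiSeparatedSpace_of_quasiSeparated (c i ≫ (D i).g)
  haveI : CompactSpace ↥(pullback (c 0 ≫ (D 0).g) (c 1 ≫ (D 1).g)) :=
    QuasiCompact.compactSpace_of_compactSpace Q₀
  let O : ∀ i, (Y' i).Opens := fun i => ⟨(C i)ᶜ, isClosed_closure.isOpen_compl⟩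
  let K : ∀ i, Set (Y' i) := fun i => Set.range ((D i).v ≫ o' i) ∪ Eb i
  have hKc : ∀ i, IsCompact (K i) := fun i =>
    (isCompact_range ((D i).v ≫ o' i).continuous).union isClosed_closure.isCompact
  have hKO : ∀ i, K i ⊆ O i := fun i =>
    Set.union_subset (hCv i).symm.subset_compl_right (hCE i).symm.subset_compl_right
  obtain ⟨Z₀, hKZ₀, hZO₀, hZc₀⟩ := exists_compactOpen_between
    (K 0 ∪ (fun z => Q₀ z) '' (closure (Set.range bW) ∩ (fun z => Q₁ z) ⁻¹' C 1))
    ((hKc 0).union ((isClosed_closure.inter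
      (isClosed_closure.preimage Q₁.continuous)).isCompact.image Q₀.continuous)) (O 0)
    (Set.union_subset (hKO 0) (by
      rintro _ ⟨z, ⟨hz, hz1⟩, rfl⟩
      exact (hP z hz).resolve_right (not_not.mpr hz1)))
  obtain ⟨Z₁, hKZ₁, hZO₁, hZc₁⟩ := exists_compactOpen_between
    (K 1 ∪ (fun z => Q₁ z) '' (closure (Set.range bW) ∩ (fun z => Q₀ z) ⁻¹' (Z₀ : Set (Y' 0))ᶜ))
    ((hKc 1).union ((isClosed_closure.inter
      (Z₀.2.isClosed_compl.preimage Q₀.continuous)).isCompact.image Q₁.continuous)) (O 1)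
    (Set.union_subset (hKO 1) (by
      rintro _ ⟨z, ⟨hz, hz0⟩, rfl⟩
      intro hz1
      exact hz0 (hKZ₀ (Or.inr ⟨z, ⟨hz, hz1⟩, rfl⟩))))
  have hPZ : ∀ z ∈ closure (Set.range bW), Q₀ z ∈ Z₀ ∨ Q₁ z ∈ Z₁ := fun z hz => by
    by_cases h : Q₀ z ∈ Z₀
    · exact Or.inl h
    · exact Or.inr (hKZ₁ (Or.inr ⟨z, ⟨hz, h⟩, rfl⟩))
  have hZ : ∀ (i : Fin 2) (Z : (Y' i).Opens), Z ≤ O i → ∀ a, (D' i).o a ∈ Z → a ∈ Set.range (D' i).v := by
    intro i Z hZ a ha
    by_contra hn
    exact hZ ha (subset_closure ⟨a, hn, rfl⟩)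
  -- glue
  obtain ⟨G₀, gG₀, jG₀, ζ₀, zU₀, hG₀, hG₀t, hG₀c, hjG₀, hjg₀, hζ₀, hzU₀, hzζ₀⟩ :=
    exists_gluedChart (D' 0) Z₀ hZc₀ (Set.subset_union_left.trans (Set.subset_union_left.trans hKZ₀))
      (hZ 0 Z₀ hZO₀)
  obtain ⟨G₁, gG₁, jG₁, ζ₁, zU₁, hG₁, hG₁t, hG₁c, hjG₁, hjg₁, hζ₁, hzU₁, hzζ₁⟩ :=
    exists_gluedChart (D' 1) Z₁ hZc₁ (Set.subset_union_left.trans (Set.subset_union_left.trans hKZ₁))
      (hZ 1 Z₁ hZO₁)
  obtain ⟨M, r, hr, hrt, hrc, I₀, I₁, G₀', G₁', b₀, b₁, o₀, o₁, u₀, u₁, hb₀, hI₀, hb₁, hI₁, ho₀,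
    ho₁, hor₀, hor₁, hub₀, hub₁, hglue, -⟩ := exists_common_target f gG₀ gG₁ jG₀ jG₁ hjg₀ hjg₁
  haveI : IsProper b₀ := HTopHyper.isProper_of_isBlowUp hb₀ hI₀.1
  haveI : IsProper b₁ := HTopHyper.isProper_of_isBlowUp hb₁ hI₁.1
  haveI := BlowUpBasics.isIso_morphismRestrict hb₀ _ hI₀.2
  haveI : IsOpenImmersion u₀ := isOpenImmersion_of_comp_blowUp b₀ u₀ jG₀ hub₀
  let e := u₀ ≫ o₀
  have her : e ≫ r = f := by rw [Category.assoc, hor₀, reassoc_of% hub₀, hjg₀]
  obtain ⟨Z₀', π₀, q₀, τ₀, hπ₀, hq₀, hτq₀, hτπ₀⟩ :=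
    exists_cover_piece hζ₀ hzζ₀ hor₀ hub₀ (rfl : u₀ ≫ o₀ = e)
  obtain ⟨Z₁', π₁, q₁, τ₁, hπ₁, hq₁, hτq₁, hτπ₁⟩ :=
    exists_cover_piece hζ₁ hzζ₁ hor₁ hub₁ hglue.symm
  obtain ⟨R₀, ρ₀, hR₀, hsub₀⟩ := exists_proper_piece_closed (hUc 0) hzU₀ her π₀ q₀ τ₀ hq₀ hτq₀ hτπ₀
    (T 0) (hT 0) (Set.subset_union_right.trans (Set.subset_union_left.trans hKZ₀))
  obtain ⟨R₁, ρ₁, hR₁, hsub₁⟩ := exists_proper_piece_closed (hUc 1) hzU₁ her π₁ q₁ τ₁ hq₁ hτq₁ hτπ₁
    (T 1) (hT 1) (Set.subset_union_right.trans (Set.subset_union_left.trans hKZ₁))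
  let qQ := Q₀ ≫ c 0 ≫ (D 0).g
  haveI : IsProper qQ := inferInstance
  have wW : (W.ι ≫ e) ≫ r = bW ≫ qQ := by
    simp only [Category.assoc, her, bW, qQ, Q₀, pullback.lift_fst_assoc, reassoc_of% hoc 0]
    simpa only [Category.assoc] using (hw 0).symm
  haveI : QuasiSeparatedSpace M := quasiSeparatedSpace_of_quasiSeparated r
  haveI : QuasiSeparatedSpace ↥(pullback r qQ) :=
    quasiSeparatedSpace_of_quasiSeparated (pullback.fst r qQ)
  haveI : QuasiCompact (pullback.lift (W.ι ≫ e) bW wW) := quasiCompact_of_compactSpace _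
  let Zs : Fin 3 → (pullback (c 0 ≫ (D 0).g) (c 1 ≫ (D 1).g)).Opens :=
    ![Q₀ ⁻¹ᵁ Z₀, Q₁ ⁻¹ᵁ Z₁, ⟨(closure (Set.range bW))ᶜ, isClosed_closure.isOpen_compl⟩]
  have hZs : ∀ z, ∃ i, z ∈ Zs i := by
    intro z
    by_cases hz : z ∈ closure (Set.range bW)
    · rcases hPZ z hz with h | h
      · exact ⟨0, h⟩
      · exact ⟨1, h⟩
    · exact ⟨2, hz⟩
  have hprop : ∀ i, IsProper (((pullback.lift (W.ι ≫ e) bW wW).imageι ≫ pullback.snd r qQ) ∣_ Zs i) := by
    intro i
    fin_cases i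
    · refine isProper_graph_restrict_comap wW Q₀ (rfl : Q₀ ≫ c 0 ≫ (D 0).g = qQ) Z₀ π₀ hπ₀ q₀ hq₀
        ((bW ⁻¹ᵁ (Q₀ ⁻¹ᵁ Z₀)).ι ≫ X.homOfLE (hW 0) ≫ τ₀) ?_ ?_
      · simp only [Category.assoc]
        erw [hτq₀]
        rw [Scheme.homOfLE_ι_assoc]
      · rw [← cancel_mono Z₀.ι]
        simp only [Category.assoc, morphismRestrict_ι, morphismRestrict_ι_assoc, bW, Q₀,
          pullback.lift_fst]
        erw [reassoc_of% hτπ₀, hzU₀]
        simp only [v, Category.assoc]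
        rfl
    · refine isProper_graph_restrict_comap wW Q₁
        (pullback.condition.symm : Q₁ ≫ c 1 ≫ (D 1).g = qQ) Z₁ π₁ hπ₁ q₁ hq₁
        ((bW ⁻¹ᵁ (Q₁ ⁻¹ᵁ Z₁)).ι ≫ X.homOfLE (hW 1) ≫ τ₁) ?_ ?_
      · simp only [Category.assoc]
        erw [hτq₁]
        rw [Scheme.homOfLE_ι_assoc]
      · rw [← cancel_mono Z₁.ι]
        simp only [Category.assoc, morphismRestrict_ι, morphismRestrict_ι_assoc, bW, Q₁,
          pullback.lift_snd]
        erw [reassoc_of% hτπ₁, hzU₁]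
        simp only [v, Category.assoc]
        rfl
    · exact isProper_graph_restrict_empty wW _ fun x hx => hx (subset_closure ⟨x, rfl⟩)
  obtain ⟨R₂, ρ₂, hR₂, hsub₂⟩ := exists_proper_piece wW Zs hZs hprop
  haveI : IsProper (ρ₀ ≫ r) := hR₀
  haveI : IsProper (ρ₁ ≫ r) := hR₁
  haveI : IsProper (ρ₂ ≫ r) := hR₂
  let ρ := coprod.desc (coprod.desc ρ₀ ρ₁) ρ₂
  have hρ : IsProper (ρ ≫ r) := by
    have h : ρ ≫ r = coprod.desc (coprod.desc (ρ₀ ≫ r) (ρ₁ ≫ r)) (ρ₂ ≫ r) := by
      apply coprod.hom_ext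
      · rw [coprod.inl_desc, ← Category.assoc, coprod.inl_desc, coprod.desc_comp]
      · rw [coprod.inr_desc, ← Category.assoc, coprod.inr_desc]
    rw [h]
    haveI := HTopHyper.isProper_coprodDesc (ρ₀ ≫ r) (ρ₁ ≫ r)
    exact HTopHyper.isProper_coprodDesc _ _
  haveI : QuasiCompact e := quasiCompact_of_compactSpace e
  have hsub : Set.range e ⊆ Set.range ρ := by
    rintro _ ⟨x, rfl⟩
    obtain ⟨i, hi⟩ := hcov x
    have key : ∀ {R : Scheme.{u}} (k : R ⟶ (R₀ ⨿ R₁) ⨿ R₂) (σ : R ⟶ M), k ≫ ρ = σ →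
        Set.range σ ⊆ Set.range ρ := by
      rintro R k σ rfl _ ⟨y, rfl⟩
      exact ⟨k y, (Scheme.Hom.comp_apply _ _ _).symm⟩
    by_cases hW' : x ∈ W
    · exact key coprod.inr ρ₂ (coprod.inr_desc _ _)
        (hsub₂ ⟨⟨x, hW'⟩, Scheme.Hom.comp_apply _ _ _⟩)
    · rcases (show i = 0 ∨ i = 1 by omega) with rfl | rfl
      · exact key (coprod.inl ≫ coprod.inl) ρ₀
          (by rw [Category.assoc, coprod.inl_desc, coprod.inl_desc])
          (hsub₀ ⟨⟨x, hi⟩, fun h1 => hW' ⟨hi, h1⟩, Scheme.Hom.comp_apply _ _ _⟩)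
      · exact key (coprod.inr ≫ coprod.inl) ρ₁
          (by rw [Category.assoc, coprod.inl_desc, coprod.inr_desc])
          (hsub₁ ⟨⟨x, hi⟩, fun h0 => hW' ⟨h0, hi⟩, Scheme.Hom.comp_apply _ _ _⟩)
  haveI := isProper_image_of_covered e ρ hρ hsub
  refine ⟨e.image, e.toImage, e.imageι ≫ r, inferInstance, inferInstance, ?_⟩
  rw [Scheme.Hom.toImage_imageι_assoc, her]

/-- An affine scheme of finite type over `S` is compactifiable. -/
theorem hasCompactification_of_isAffine [CompactSpace S] [QuasiSeparatedSpace S] [IsAffine X]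
    (f : X ⟶ S) [LocallyOfFiniteType f] : HasCompactification f := by
  obtain ⟨m, e, he, hef⟩ := Chow.exists_immersion_projSpaceOver f
  haveI : IsProper (CohB1.ProjSpaceOver.toBase m S) := inferInstance
  haveI : QuasiSeparatedSpace (CohB1.ProjSpaceOver m S) :=
    quasiSeparatedSpace_of_quasiSeparated (CohB1.ProjSpaceOver.toBase m S)
  haveI : QuasiCompact e := quasiCompact_of_compactSpace e
  exact ⟨e.image, e.toImage, e.imageι ≫ CohB1.ProjSpaceOver.toBase m S, inferInstance, inferInstance,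
    by rw [Scheme.Hom.toImage_imageι_assoc, hef]⟩

/-- **Nagata compactification**. -/
theorem hasCompactification [CompactSpace S] [QuasiSeparatedSpace S] (f : X ⟶ S) [IsSeparated f]
    [LocallyOfFiniteType f] [QuasiCompact f] : HasCompactification f := by
  haveI : CompactSpace X := QuasiCompact.compactSpace_of_compactSpace f
  haveI : QuasiSeparatedSpace X := quasiSeparatedSpace_of_quasiSeparated f
  suffices h : ∀ O : X.Opens, IsCompact (O : Set X) → HasCompactification (O.ι ≫ f) by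
    have h1 := (h ⊤ isCompact_univ).comp_openImmersion (Scheme.topIso X).inv
    rwa [← Category.assoc, show (Scheme.topIso X).inv ≫ (⊤ : X.Opens).ι = 𝟙 _ from
      (Scheme.topIso X).inv_hom_id, Category.id_comp] at h1
  intro O hO
  refine compact_open_induction_on (P := fun O => HasCompactification (O.ι ≫ f)) O hO ?_ ?_
  ·
    haveI : IsEmpty ↥((⊥ : X.Opens) : Scheme.{u}) := ⟨fun x => x.2⟩
    exact ⟨_, 𝟙 _, (⊥ : X.Opens).ι ≫ f, inferInstance, inferInstance, Category.id_comp _⟩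
  · intro O hO A hP
    let T : X.Opens := O ⊔ A.1
    haveI : CompactSpace (T : Scheme.{u}) :=
      isCompact_iff_compactSpace.mp (hO.union A.2.isCompact)
    haveI : QuasiCompact T.ι := quasiCompact_of_compactSpace _
    have hc : ∀ V : X.Opens, IsCompact (V : Set X) → IsCompact ((T.ι ⁻¹ᵁ V) : Set T) :=
      fun V hV => T.ι.isCompact_preimage hV
    have hlift : ∀ V : X.Opens, HasCompactification (V.ι ≫ f) →
        HasCompactification ((T.ι ⁻¹ᵁ V).ι ≫ T.ι ≫ f) := by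
      intro V hV
      have := hV.comp_openImmersion (T.ι ∣_ V)
      rwa [← Category.assoc, morphismRestrict_ι, Category.assoc] at this
    haveI : IsAffine A.1.toScheme := A.2
    refine hasCompactification_of_two (T.ι ≫ f) ![T.ι ⁻¹ᵁ O, T.ι ⁻¹ᵁ A.1] ?_ ?_ ?_
    · exact Fin.forall_fin_two.mpr ⟨hc O hO, hc A.1 A.2.isCompact⟩
    · intro x
      rcases x.2 with hx | hx
      · exact ⟨0, hx⟩
      · exact ⟨1, hx⟩
    · exact Fin.forall_fin_two.mpr
        ⟨hlift O hP, hlift A.1 (hasCompactification_of_isAffine (A.1.ι ≫ f))⟩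

end Groth.NagComp
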