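import Groth.Agent.NagComp.Extends
import Groth.Agent.FlatMorOne.FTIdealExtend
import Groth.Agent.RefRank.AdmBlowUp
import Mathlib

/-!
# The affine case: making a birational affine morphism of finite type extend

If `G` is affine, `p : G ⟶ X` is of finite type with image in an affine open `B` and is an
isomorphism over `U ⊆ B`, then some ideal, trivial on any open `V` with `V ⊓ B ≤ U`, makes the
inverse of `p` extend as soon as it becomes invertible: if the generators `t` of the algebra of `G`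
satisfy `a ^ N * t = c` with `a` cutting out the complement of `U`, take `(a ^ N, c) * (a ^ N)`.
-/

universe u

open CategoryTheory Limits AlgebraicGeometry TopologicalSpace

namespace Groth.NagComp

/-- Splitting a principal product of two ideals near a prime. -/
theorem exists_local_split {A : Type*} [CommRing A] (p : Ideal A) [p.IsPrime] {I J : Ideal A}
    {e : A} (h : I * J = Ideal.span {e}) (he : e ∈ nonZeroDivisors A) :
    ∃ a ∈ I, ∃ b ∈ J, ∃ r : A, a * b = e * r ∧ r ∉ p ∧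
      (∀ y ∈ I, y * r ∈ Ideal.span {a}) ∧ ∀ y ∈ J, y * r ∈ Ideal.span {b} := by
  obtain ⟨a, ha, b, hb, r, hab, hr⟩ := Divisors.exists_split_of_mul_eq_span p h he
  refine ⟨a, ha, b, hb, r, hab, hr, fun y hy => ?_, fun y hy => ?_⟩
  · obtain ⟨c, hc⟩ := Ideal.mem_span_singleton'.mp (h ▸ Ideal.mul_mem_mul hy hb)
    refine Ideal.mem_span_singleton'.mpr ⟨c, (mul_cancel_left_mem_nonZeroDivisors he).mp ?_⟩
    calc e * (c * a) = a * (c * e) := by ring
      _ = y * (a * b) := by rw [hc]; ring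
      _ = e * (y * r) := by rw [hab]; ring
  · obtain ⟨c, hc⟩ := Ideal.mem_span_singleton'.mp (h ▸ Ideal.mul_mem_mul ha hy)
    refine Ideal.mem_span_singleton'.mpr ⟨c, (mul_cancel_left_mem_nonZeroDivisors he).mp ?_⟩
    calc e * (c * b) = b * (c * e) := by ring
      _ = y * (a * b) := by rw [hc]; ring
      _ = e * (y * r) := by rw [hab]; ring

variable {X G : Scheme.{u}}

/-- A finitely generated ideal on an affine open `B`, unit on `V ⊓ B`, extends to a finite type ideal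
unit on `V`. -/
theorem exists_admissible_extend [CompactSpace X] [QuasiSeparatedSpace X] (V : X.Opens)
    (hV : IsCompact (V : Set X)) (B : X.affineOpens) (q : Ideal Γ(X, B.1)) (hq : q.FG)
    (hd : ∀ x ∈ V, x ∈ B.1 → ∃ f ∈ q, x ∈ X.basicOpen f) :
    ∃ K : X.IdealSheafData, BlowUp.IsAdmissibleFor V K ∧ K.ideal B = q := by
  have := FlatMorOne.quasiCompact_ι B.2.isCompact
  obtain ⟨L, hL, hLext⟩ := FlatMorOne.exists_idealSheaf_of_ideal B q
  have hLs : (L.support : Set X) ⊆ (V : Set X)ᶜ := by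
    rw [← hLext]
    show (((L.comap B.1.ι).map B.1.ι).support : Set X) ⊆ _
    rw [Scheme.IdealSheafData.support_map, TopologicalSpace.Closeds.coe_closure]
    refine closure_minimal ?_ V.2.isClosed_compl
    rintro _ ⟨y, hy, rfl⟩ hyV
    rw [SetLike.mem_coe, Scheme.IdealSheafData.support_comap] at hy
    obtain ⟨f, hf, hyf⟩ := hd _ hyV y.2
    have hy' : B.1.ι y ∈ L.support := hy
    have hy'' := (Scheme.IdealSheafData.mem_support_iff_of_mem (I := L) (U := B)
      (x := B.1.ι y) y.2).mp hy'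
    rw [hL, Scheme.mem_zeroLocus_iff] at hy''
    exact hy'' f hf hyf
  let J := Scheme.IdealSheafData.vanishingIdeal ⟨(V : Set X)ᶜ, V.2.isClosed_compl⟩ * L
  have hJs : (J.support : Set X) = (V : Set X)ᶜ := by
    rw [Scheme.IdealSheafData.support_mul, TopologicalSpace.Closeds.coe_sup,
      Scheme.IdealSheafData.coe_support_vanishingIdeal]
    exact Set.union_eq_left.mpr hLs
  obtain ⟨E, hEJ, hE, hEs⟩ := FlatMorOne.exists_ftIdeal_le J (by rw [hJs, compl_compl]; exact hV)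
  obtain ⟨K₀, hK₀L, hK₀, hK₀B⟩ := FlatMorOne.exists_ftIdeal_eq L B q hq hL.ge
  refine ⟨K₀ ⊔ E, ⟨fun W => Submodule.FG.sup (hK₀ W) (hE W), ?_⟩, ?_⟩
  · rw [Set.disjoint_left]
    intro x hx
    have := Scheme.IdealSheafData.support_antitone (le_sup_right : E ≤ K₀ ⊔ E) hx
    rw [hEs, ← SetLike.mem_coe, hJs] at this
    exact this
  · rw [Scheme.IdealSheafData.ideal_sup, Pi.sup_apply, hK₀B, sup_eq_left]
    have h1 : E.ideal B ≤ L.ideal B := (hEJ B).trans (by
      show ((Scheme.IdealSheafData.vanishingIdeal _) * L).ideal B ≤ _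
      rw [Scheme.IdealSheafData.ideal_mul, Pi.mul_apply]
      exact Ideal.mul_le_right)
    exact hL ▸ h1

theorem isIso_of_comp_eqToHom {C : Type*} [Category C] {P Q R : C} (f : P ⟶ Q) (h : Q = R)
    (hf : IsIso (f ≫ eqToHom h)) : IsIso f := by
  subst h
  simpa using hf

/-- Finitely many basic opens of an affine open covering a quasi-compact open in it. -/
theorem exists_basicOpen_cover {B : X.Opens} (hB : IsAffineOpen B) {U : X.Opens}
    (hU : IsCompact (U : Set X)) (hUB : U ≤ B) :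
    ∃ s : Finset Γ(X, B), (∀ a ∈ s, X.basicOpen a ≤ U) ∧ ∀ x ∈ U, ∃ a ∈ s, x ∈ X.basicOpen a := by
  classical
  obtain ⟨t, ht⟩ := hU.elim_finite_subcover
    (fun a : {a : Γ(X, B) // X.basicOpen a ≤ U} => (X.basicOpen a.1 : Set X))
    (fun a => (X.basicOpen a.1).2) (fun x hx => by
      obtain ⟨f, hf, hxf⟩ := hB.exists_basicOpen_le ⟨x, hx⟩ (hUB hx)
      exact Set.mem_iUnion.mpr ⟨⟨f, hf⟩, hxf⟩)
  refine ⟨t.image Subtype.val, fun a ha => ?_, fun x hx => ?_⟩
  · obtain ⟨a, -, rfl⟩ := Finset.mem_image.mp ha; exact a.2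
  · obtain ⟨a, ha, hxa⟩ := Set.mem_iUnion₂.mp (ht hx)
    exact ⟨a.1, Finset.mem_image_of_mem _ ha, hxa⟩

/-- Where `p` is an isomorphism, functions on an affine `G` are fractions of functions on the base. -/
theorem exists_pow_mul_eq_app [IsAffine G] (p : G ⟶ X) {B : X.Opens} (hB : IsAffineOpen B)
    (hpB : ⊤ ≤ p ⁻¹ᵁ B) {U : X.Opens} [IsIso (p ∣_ U)] (a : Γ(X, B)) (ha : X.basicOpen a ≤ U)
    (t : Γ(G, ⊤)) :
    ∃ (n : ℕ) (c : Γ(X, B)),
      (p.appLE B ⊤ hpB).hom a ^ n * t = (p.appLE B ⊤ hpB).hom c := by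
  set φ := (p.appLE B ⊤ hpB).hom
  have hiso : IsIso (p.app (X.basicOpen a)) := by
    have h1 : IsIso ((p ∣_ U).app (U.ι ⁻¹ᵁ X.basicOpen a)) := inferInstance
    rw [morphismRestrict_app] at h1
    have h2 : IsIso (p.app (U.ι ''ᵁ (U.ι ⁻¹ᵁ X.basicOpen a))) := by
      rw [eqToHom_op, eqToHom_map] at h1
      exact isIso_of_comp_eqToHom _ _ h1
    have e : U.ι ''ᵁ (U.ι ⁻¹ᵁ X.basicOpen a) = X.basicOpen a := by
      rw [Scheme.Hom.image_preimage_eq_opensRange_inf, Scheme.Opens.opensRange_ι, inf_eq_right.mpr ha]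
    rwa [e] at h2
  have hpre : p ⁻¹ᵁ X.basicOpen a = G.basicOpen (φ a) := by
    rw [show G.basicOpen (φ a) = ⊤ ⊓ p ⁻¹ᵁ X.basicOpen a from
      Scheme.basicOpen_appLE p ⊤ B hpB a, top_inf_eq]
  have hle : G.basicOpen (φ a) ≤ p ⁻¹ᵁ X.basicOpen a := hpre.ge
  let e := p.appLE (X.basicOpen a) (G.basicOpen (φ a)) hle
  have heiso : IsIso e := by
    have : e = p.app (X.basicOpen a) ≫ G.presheaf.map (homOfLE hle).op := rfl
    rw [this]
    have : IsIso (homOfLE hle) := ⟨homOfLE hpre.le, Subsingleton.elim _ _, Subsingleton.elim _ _⟩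
    infer_instance
  obtain ⟨u, hu⟩ := (ConcreteCategory.bijective_of_isIso e).2
    ((G.presheaf.map (homOfLE (G.basicOpen_le (φ a))).op).hom t)
  haveI := hB.isLocalization_basicOpen a
  haveI := (isAffineOpen_top G).isLocalization_basicOpen (φ a)
  obtain ⟨⟨c, ⟨_, n, rfl⟩⟩, hc⟩ :=
    IsLocalization.surj (Submonoid.powers a) (u : Γ(X, X.basicOpen a))
  have hnat : ∀ x : Γ(X, B), e.hom ((X.presheaf.map (homOfLE (X.basicOpen_le a)).op).hom x) =
      (G.presheaf.map (homOfLE (G.basicOpen_le (φ a))).op).hom (φ x) := by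
    intro x
    rw [← RingHom.comp_apply, ← RingHom.comp_apply, ← CommRingCat.hom_comp,
      ← CommRingCat.hom_comp, Scheme.Hom.map_appLE, Scheme.Hom.appLE_map]
  have hu' : e.hom u = (G.presheaf.map (homOfLE (G.basicOpen_le (φ a))).op).hom t := hu
  have hc' : u * (X.presheaf.map (homOfLE (X.basicOpen_le a)).op).hom (a ^ n) =
      (X.presheaf.map (homOfLE (X.basicOpen_le a)).op).hom c := hc
  have h1 := congrArg e.hom hc'
  rw [map_mul, hnat, hnat, hu', ← map_mul] at h1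
  obtain ⟨⟨_, m, rfl⟩, hm⟩ :=
    (IsLocalization.eq_iff_exists (Submonoid.powers (φ a)) Γ(G, G.basicOpen (φ a))).mp h1
  refine ⟨m + n, a ^ m * c, ?_⟩
  simp only [map_pow] at hm ⊢
  rw [map_mul, map_pow, pow_add, mul_assoc, mul_comm (φ a ^ n)]
  exact hm

/-- The affine case. -/
theorem exists_good_affine [CompactSpace X] [QuasiSeparatedSpace X] [IsAffine G] (p : G ⟶ X)
    [LocallyOfFiniteType p] (B : X.affineOpens) (hpB : ⊤ ≤ p ⁻¹ᵁ B.1) (U V : X.Opens)
    (hU : IsCompact (U : Set X)) (hV : IsCompact (V : Set X)) (hUB : U ≤ B.1) (hVB : V ⊓ B.1 ≤ U)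
    [IsIso (p ∣_ U)] (s : (U : Scheme.{u}) ⟶ G) (hs : s ≫ p = U.ι) :
    ∃ K : X.IdealSheafData, BlowUp.IsAdmissibleFor V K ∧ Good p s hs K := by
  classical
  set φ := (p.appLE B.1 ⊤ hpB).hom with hφ
  obtain ⟨A, hA1, hA2⟩ := exists_basicOpen_cover B.2 hU hUB
  algebraize [φ]
  haveI hft : Algebra.FiniteType Γ(X, B.1) Γ(G, ⊤) :=
    p.finiteType_appLE B.2 (isAffineOpen_top G) hpB
  obtain ⟨τ, hτ⟩ := hft.out
  choose n c hnc using fun (a : A) (t : τ) => exists_pow_mul_eq_app p B.2 hpB a.1 (hA1 a.1 a.2) t.1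
  let N : ℕ := Finset.univ.sup fun x : A × τ => n x.1 x.2
  let αs : A → Γ(X, B.1) := fun a => a.1 ^ (N + 1)
  let cs : A × τ → Γ(X, B.1) := fun x => x.1.1 ^ (N + 1 - n x.1 x.2) * c x.1 x.2
  have hcs : ∀ x : A × τ, φ (αs x.1) * x.2.1 = φ (cs x) := by
    intro x
    have hle : n x.1 x.2 ≤ N + 1 :=
      (Finset.le_sup (f := fun x : A × τ => n x.1 x.2) (Finset.mem_univ x)).trans (Nat.le_succ N)
    simp only [αs, cs]
    rw [map_mul, ← hnc, map_pow, map_pow, ← mul_assoc, ← pow_add, Nat.sub_add_cancel hle]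
  let I₁ : Ideal Γ(X, B.1) := Ideal.span (Set.range αs) ⊔ Ideal.span (Set.range cs)
  let I₂ : Ideal Γ(X, B.1) := Ideal.span (Set.range αs)
  have hαU : ∀ a : A, X.basicOpen (αs a) ≤ U := fun a => by
    rw [show αs a = a.1 ^ (N + 1) from rfl, Scheme.basicOpen_pow _ _ (Nat.succ_pos N)]
    exact hA1 a.1 a.2
  have hcov : ∀ x ∈ U, ∃ a : A, x ∈ X.basicOpen (αs a) := fun x hx => by
    obtain ⟨a, ha, hxa⟩ := hA2 x hx
    refine ⟨⟨a, ha⟩, ?_⟩
    rw [show αs ⟨a, ha⟩ = a ^ (N + 1) from rfl, Scheme.basicOpen_pow _ _ (Nat.succ_pos N)]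
    exact hxa
  obtain ⟨K, hKV, hKB⟩ := exists_admissible_extend V hV B (I₁ * I₂)
    (((Submodule.fg_span (Set.finite_range _)).sup (Submodule.fg_span (Set.finite_range _))).mul
      (Submodule.fg_span (Set.finite_range _)))
    (fun x hxV hxB => by
      obtain ⟨a, hxa⟩ := hcov x (hVB ⟨hxV, hxB⟩)
      refine ⟨αs a * αs a, Ideal.mul_mem_mul (Ideal.mem_sup_left (Ideal.subset_span ⟨a, rfl⟩))
        (Ideal.subset_span ⟨a, rfl⟩), ?_⟩
      rw [Scheme.basicOpen_mul]
      exact ⟨hxa, hxa⟩)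
  refine ⟨K, hKV, fun T b hb z hz => ?_⟩
  set x := pullback.fst b p z with hx
  have hxB : x ∈ b ⁻¹ᵁ B.1 := by
    show b x ∈ B.1
    rw [hx, ← Scheme.Hom.comp_apply, pullback.condition, Scheme.Hom.comp_apply]
    exact hpB trivial
  obtain ⟨W₀, hxW₀, hW₀B, e, he, heI⟩ := Divisors.exists_generator hb x (b ⁻¹ᵁ B.1) hxB
  set ψ₀ := (b.appLE B.1 W₀.1 hW₀B).hom with hψ₀
  rw [Divisors.ideal_comap_affine K b B W₀ hW₀B, hKB, Ideal.map_mul] at heI
  obtain ⟨g₀, hg₀, d₀, hd₀, r, hgd, hr, hg₀I, hd₀I⟩ :=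
    exists_local_split (W₀.2.primeIdealOf ⟨x, hxW₀⟩).asIdeal heI he.mem_nonZeroDivisors
  let W₁ : T.affineOpens := T.affineBasicOpen r
  have hW₁ : W₁.1 ≤ W₀.1 := T.basicOpen_le r
  have hW₁B : W₁.1 ≤ b ⁻¹ᵁ B.1 := hW₁.trans hW₀B
  have hxW₁ : x ∈ W₁.1 := by
    show x ∈ T.basicOpen r
    rw [T.mem_basicOpen r x hxW₀]
    let _ := TopCat.Presheaf.algebra_section_stalk T.presheaf ⟨x, hxW₀⟩
    have := W₀.2.isLocalization_stalk ⟨x, hxW₀⟩
    exact IsLocalization.map_units (T.presheaf.stalk x)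
      (⟨r, hr⟩ : (W₀.2.primeIdealOf ⟨x, hxW₀⟩).asIdeal.primeCompl)
  set ρ := (T.presheaf.map (homOfLE hW₁).op).hom with hρ
  set ψ₁ := (b.appLE B.1 W₁.1 hW₁B).hom with hψ₁
  have hψ₀₁ : ∀ y, ρ (ψ₀ y) = ψ₁ y := fun y => by
    rw [hρ, hψ₀, ← RingHom.comp_apply, ← CommRingCat.hom_comp, Scheme.Hom.appLE_map]
  have hru : IsUnit (ρ r) := T.toRingedSpace.isUnit_res_basicOpen r
  set g := ρ g₀ with hg
  set d := ρ d₀ with hd
  have hgdn : Divisors.IsNzdSec (g * d) := by
    rw [hg, hd, ← map_mul, hgd, map_mul]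
    exact (he.res hW₁).mul fun y hy => (hru.map _).mem_nonZeroDivisors
  have hdn : Divisors.IsNzdSec d := fun y hy => by
    have := hgdn y hy
    rw [map_mul] at this
    exact (mul_mem_nonZeroDivisors.mp this).2
  have hgen : ∀ (I : Ideal Γ(X, B.1)) (g₀ : Γ(T, W₀.1)),
      (∀ y ∈ I.map ψ₀, y * r ∈ Ideal.span {g₀}) → g₀ ∈ I.map ψ₀ →
      I.map ψ₁ = Ideal.span {ρ g₀} := by
    intro I g₀ h1 h2
    have e1 : I.map ψ₁ = (I.map ψ₀).map ρ := by
      rw [Ideal.map_map]; exact congrArg (Ideal.map · I) (RingHom.ext fun y => (hψ₀₁ y).symm)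
    rw [e1]
    refine le_antisymm ?_ ((Ideal.span_singleton_le_iff_mem _).mpr (Ideal.mem_map_of_mem ρ h2))
    rw [Ideal.map_le_iff_le_comap]
    intro y hy
    obtain ⟨c, hc⟩ := Ideal.mem_span_singleton'.mp (h1 y hy)
    rw [Ideal.mem_comap]
    refine (Ideal.mul_unit_mem_iff_mem _ hru).mp ?_
    rw [← map_mul, ← hc, map_mul]
    exact Ideal.mul_mem_left _ _ (Ideal.mem_span_singleton_self _)
  have hI₁ : I₁.map ψ₁ = Ideal.span {g} := hgen I₁ g₀ hg₀I hg₀
  have hI₂ : I₂.map ψ₁ = Ideal.span {d} := hgen I₂ d₀ hd₀I hd₀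
  obtain ⟨q, hq⟩ : ∃ q, d = g * q := by
    have h1 : d ∈ I₁.map ψ₁ := Ideal.map_mono (le_sup_left : I₂ ≤ I₁) (hI₂.ge (Ideal.mem_span_singleton_self d))
    rw [hI₁] at h1
    obtain ⟨q, hq⟩ := Ideal.mem_span_singleton'.mp h1
    exact ⟨q, by rw [← hq, mul_comm]⟩
  -- the locus where `d` is a unit is `b ⁻¹ U`
  have hdU : T.basicOpen d ≤ b ⁻¹ᵁ U := by
    intro y hy
    by_contra hyU
    have hy1 := T.basicOpen_le d hy
    have hle : I₂.map ψ₁ ≤ (IsLocalRing.maximalIdeal _).comap (T.presheaf.germ W₁.1 y hy1).hom := by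
      rw [Ideal.map_le_iff_le_comap, Ideal.span_le]
      rintro _ ⟨a, rfl⟩
      show _ ∈ nonunits _
      intro hu
      have hy2 : y ∈ T.basicOpen (ψ₁ (αs a)) := (T.mem_basicOpen _ _ hy1).mpr hu
      rw [show T.basicOpen (ψ₁ (αs a)) = W₁.1 ⊓ b ⁻¹ᵁ X.basicOpen (αs a) from
        Scheme.basicOpen_appLE b W₁.1 B.1 hW₁B (αs a)] at hy2
      exact hyU (hαU a hy2.2)
    exact hle (hI₂.ge (Ideal.mem_span_singleton_self d)) ((T.mem_basicOpen _ _ hy1).mp hy)
  have hUd : ∀ y ∈ W₁.1, b y ∈ U → y ∈ T.basicOpen d := by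
    intro y hy1 hyU
    obtain ⟨a, ha⟩ := hcov _ hyU
    obtain ⟨w, hw⟩ := Ideal.mem_span_singleton'.mp
      (hI₂.le (Ideal.mem_map_of_mem ψ₁ (Ideal.subset_span ⟨a, rfl⟩)))
    have : y ∈ T.basicOpen (ψ₁ (αs a)) := by
      rw [show T.basicOpen (ψ₁ (αs a)) = W₁.1 ⊓ b ⁻¹ᵁ X.basicOpen (αs a) from
        Scheme.basicOpen_appLE b W₁.1 B.1 hW₁B (αs a)]
      exact ⟨hy1, ha⟩
    rw [← hw, Scheme.basicOpen_mul] at this
    exact this.2
  -- `q` is a unit at `x`
  have hxq : x ∈ T.basicOpen q := by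
    by_contra hxq
    obtain ⟨Q, hzQ, hQle⟩ := Divisors.exists_affine_le z (pullback.fst b p ⁻¹ᵁ W₁.1) hxW₁
    let α := ((pullback.fst b p).appLE W₁.1 Q.1 hQle).hom
    let β := ((pullback.snd b p).appLE ⊤ Q.1 (fun _ _ => trivial)).hom
    have hαβ : ∀ y, α (ψ₁ y) = β (φ y) := by
      intro y
      simp only [α, β, hψ₁, hφ]
      rw [← RingHom.comp_apply, ← RingHom.comp_apply, ← CommRingCat.hom_comp,
        ← CommRingCat.hom_comp, Scheme.Hom.appLE_comp_appLE, Scheme.Hom.appLE_comp_appLE]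
      congr 3
      exact pullback.condition
    have hmem : α g ∈ Ideal.span {α d} := by
      have h1 : α g ∈ (I₁.map ψ₁).map α :=
        Ideal.mem_map_of_mem _ (hI₁.ge (Ideal.mem_span_singleton_self g))
      refine (?_ : (I₁.map ψ₁).map α ≤ _) h1
      have h2 : (I₂.map ψ₁).map α = Ideal.span {α d} := by
        rw [hI₂, Ideal.map_span, Set.image_singleton]
      rw [← h2, Ideal.map_map, Ideal.map_map]
      rw [Ideal.map_le_iff_le_comap]
      refine sup_le (Ideal.map_le_iff_le_comap.mp le_rfl) (Ideal.span_le.mpr ?_)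
      rintro _ ⟨x, rfl⟩
      rw [SetLike.mem_coe, Ideal.mem_comap, RingHom.comp_apply, hαβ, ← hcs, map_mul, ← hαβ]
      exact Ideal.mul_mem_right _ _ (Ideal.mem_map_of_mem (α.comp ψ₁) (Ideal.subset_span ⟨x.1, rfl⟩))
    obtain ⟨v, hv⟩ := Ideal.mem_span_singleton'.mp hmem
    have h0 : (1 - v * α q) * α g = 0 := by
      rw [sub_mul, one_mul, mul_assoc, mul_comm (α q), ← map_mul, ← hq, hv, sub_self]
    have hzo : z ∈ (pullback b p).basicOpen (1 - v * α q) := by
      rw [(pullback b p).mem_basicOpen _ _ hzQ]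
      have hnu : ¬ IsUnit ((pullback b p).presheaf.germ Q.1 z hzQ (v * α q)) := by
        intro hu
        rw [map_mul] at hu
        have h1 : z ∈ (pullback b p).basicOpen (α q) :=
          ((pullback b p).mem_basicOpen _ _ hzQ).mpr (isUnit_of_mul_isUnit_right hu)
        rw [show (pullback b p).basicOpen (α q) = Q.1 ⊓ pullback.fst b p ⁻¹ᵁ T.basicOpen q from
          Scheme.basicOpen_appLE _ Q.1 W₁.1 hQle q] at h1
        exact hxq h1.2
      exact (IsLocalRing.isUnit_or_isUnit_of_add_one (show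
        (pullback b p).presheaf.germ Q.1 z hzQ (v * α q) +
          (pullback b p).presheaf.germ Q.1 z hzQ (1 - v * α q) = 1 by
          rw [← map_add, add_sub_cancel, map_one])).resolve_left hnu
    obtain ⟨_, hw1, w, rfl⟩ := mem_closure_iff.mp hz _ ((pullback b p).basicOpen (1 - v * α q)).2 hzo
    have hwQ : graph b p s hs w ∈ Q.1 := (pullback b p).basicOpen_le _ hw1
    have hwg : graph b p s hs w ∈ (pullback b p).basicOpen (α g) := by
      rw [show (pullback b p).basicOpen (α g) = Q.1 ⊓ pullback.fst b p ⁻¹ᵁ T.basicOpen g from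
        Scheme.basicOpen_appLE _ Q.1 W₁.1 hQle g]
      refine ⟨hwQ, ?_⟩
      have he1 : pullback.fst b p (graph b p s hs w) = w.1 := congr($(graph_fst b p s hs) w)
      show pullback.fst b p (graph b p s hs w) ∈ T.basicOpen g
      rw [he1]
      have : w.1 ∈ T.basicOpen d := hUd _ (he1 ▸ hQle hwQ) w.2
      rw [hq, Scheme.basicOpen_mul] at this
      exact this.1
    have : graph b p s hs w ∈ (pullback b p).basicOpen ((1 - v * α q) * α g) := by
      rw [Scheme.basicOpen_mul]; exact ⟨hw1, hwg⟩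
    rw [h0, Scheme.basicOpen_zero] at this
    exact this
  -- the extension on `W := D(q)`
  let W : T.Opens := T.basicOpen q
  have hW : W ≤ W₁.1 := T.basicOpen_le q
  have hWa : IsAffineOpen W := W₁.2.basicOpen q
  set res := (T.presheaf.map (homOfLE hW).op).hom with hres
  set ψ := (b.appLE B.1 W (hW.trans hW₁B)).hom with hψ
  have hψ₁W : ∀ y, res (ψ₁ y) = ψ y := fun y => by
    rw [hres, hψ₁, ← RingHom.comp_apply, ← CommRingCat.hom_comp, Scheme.Hom.appLE_map]
  have hqu : IsUnit (res q) := T.toRingedSpace.isUnit_res_basicOpen q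
  have hsd : SD (b ⁻¹ᵁ U) W := (SD.of_nzd hdn hdU).mono le_rfl hW
  have hz' : ∀ x : A × τ, ∃ w, ψ (cs x) = res d * w := by
    intro x
    obtain ⟨w, hw⟩ := Ideal.mem_span_singleton'.mp
      (hI₁.le (Ideal.mem_map_of_mem ψ₁ (Ideal.mem_sup_right (Ideal.subset_span ⟨x, rfl⟩))))
    refine ⟨res w * ↑hqu.unit⁻¹, ?_⟩
    rw [← hψ₁W, ← hw, map_mul, hq, map_mul]
    calc res w * res g = res g * res w * (res q * ↑hqu.unit⁻¹) := by rw [hqu.mul_val_inv]; ring
      _ = res g * res q * (res w * ↑hqu.unit⁻¹) := by ring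
  choose wz hwz using hz'
  obtain ⟨γ, hγ⟩ : ∃ γ : A → Γ(T, W₁.1), ∑ a, γ a * ψ₁ (αs a) = d := by
    have h1 := hI₂.ge (Ideal.mem_span_singleton_self d)
    rw [Ideal.map_span, ← Set.range_comp] at h1
    exact Submodule.mem_span_range_iff_exists_fun _ |>.mp h1
  let O : T.Opens := b ⁻¹ᵁ U ⊓ W
  let m : (O : Scheme.{u}) ⟶ G := T.homOfLE (inf_le_left : O ≤ b ⁻¹ᵁ U) ≫ (b ∣_ U) ≫ s
  have hm : m ≫ p = O.ι ≫ b := by
    simp only [m, Category.assoc, hs, morphismRestrict_ι, Scheme.homOfLE_ι_assoc]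
  set resO := (T.presheaf.map (homOfLE (inf_le_right : O ≤ W)).op).hom with hresO
  let η : Γ(G, ⊤) →+* Γ(T, O) := (m.appTop ≫ O.topIso.hom).hom
  have hηφ : ∀ y, η (φ y) = resO (ψ y) := by
    intro y
    have e1 : (p.appLE B.1 ⊤ hpB ≫ m.appTop ≫ O.topIso.hom) =
        b.appLE B.1 O ((inf_le_right : O ≤ W).trans (hW.trans hW₁B)) := by
      have e0 : m.appTop = m.appLE ⊤ ⊤ le_rfl := m.app_eq_appLE
      rw [e0, ← Category.assoc, Scheme.Hom.appLE_comp_appLE]
      simp only [hm]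
      rw [← Scheme.Hom.appLE_comp_appLE O.ι b B.1 O ⊤ ((inf_le_right : O ≤ W).trans (hW.trans hW₁B))
        (by simp), Category.assoc]
      rw [show O.ι.appLE O ⊤ (by simp) ≫ O.topIso.hom = 𝟙 _ from ?_, Category.comp_id]
      simp only [Scheme.Opens.topIso, Scheme.Hom.appLE, Scheme.Opens.ι_app, Functor.mapIso_hom,
        Category.assoc]
      show T.presheaf.map _ ≫ T.presheaf.map _ ≫ T.presheaf.map _ = _
      rw [← Functor.map_comp, ← Functor.map_comp]
      exact (congrArg T.presheaf.map (Subsingleton.elim _ (𝟙 _))).trans (T.presheaf.map_id _)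
    have e2 : b.appLE B.1 W (hW.trans hW₁B) ≫ T.presheaf.map (homOfLE (inf_le_right : O ≤ W)).op =
        b.appLE B.1 O ((inf_le_right : O ≤ W).trans (hW.trans hW₁B)) := Scheme.Hom.appLE_map ..
    have := congr(($(e1.trans e2.symm)).hom y)
    rw [hψ, hresO, hφ, ← RingHom.comp_apply, ← RingHom.comp_apply, ← CommRingCat.hom_comp,
      ← CommRingCat.hom_comp]
    exact this
  have hinj : Function.Injective resO := by
    refine (injective_iff_map_eq_zero _).mpr fun y hy => hsd W le_rfl y ?_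
    have := congrArg (T.presheaf.map (homOfLE (show W ⊓ b ⁻¹ᵁ U ≤ O from (inf_comm _ _).le)).op).hom hy
    rw [map_zero, hresO, ← RingHom.comp_apply, ← CommRingCat.hom_comp, ← Functor.map_comp] at this
    exact this
  have hdO : IsUnit (resO (res d)) := by
    have hle : O ≤ T.basicOpen d := fun y hy => hUd y (hW hy.2) hy.1
    have h1 : IsUnit ((T.presheaf.map (homOfLE (T.basicOpen_le d)).op).hom d) :=
      T.toRingedSpace.isUnit_res_basicOpen d
    have h2 := h1.map (T.presheaf.map (homOfLE hle).op).hom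
    rw [← RingHom.comp_apply, ← CommRingCat.hom_comp, ← Functor.map_comp] at h2
    rw [hres, hresO, ← RingHom.comp_apply, ← CommRingCat.hom_comp, ← Functor.map_comp]
    exact h2
  have hrange : ∀ y : Γ(G, ⊤), η y ∈ resO.range := by
    intro y
    have hy : y ∈ Algebra.adjoin Γ(X, B.1) (τ : Set Γ(G, ⊤)) := hτ ▸ Algebra.mem_top
    induction hy using Algebra.adjoin_induction with
    | mem t ht =>
      refine ⟨∑ a, res (γ a) * wz (a, ⟨t, ht⟩), hdO.mul_left_cancel ?_⟩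
      rw [← map_mul, Finset.mul_sum]
      have : ∀ a : A, res d * (res (γ a) * wz (a, ⟨t, ht⟩)) = res (γ a) * ψ (cs (a, ⟨t, ht⟩)) :=
        fun a => by rw [hwz]; ring
      rw [Finset.sum_congr rfl (fun a _ => this a), map_sum]
      have hsum : resO (res d) = ∑ a, resO (res (γ a)) * η (φ (αs a)) := by
        rw [← hγ, map_sum, map_sum]
        exact Finset.sum_congr rfl fun a _ => by rw [map_mul, map_mul, hψ₁W, hηφ]
      rw [hsum, Finset.sum_mul]
      refine Finset.sum_congr rfl fun a _ => ?_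
      rw [map_mul, ← hηφ, ← hcs (a, ⟨t, ht⟩), map_mul, mul_assoc]
    | algebraMap y => exact ⟨ψ y, (hηφ y).symm⟩
    | add y y' _ _ h h' => rw [map_add]; exact add_mem h h'
    | mul y y' _ _ h h' => rw [map_mul]; exact mul_mem h h'
  choose lift hlift using hrange
  let η' : Γ(G, ⊤) →+* Γ(T, W) :=
    { toFun := lift
      map_one' := hinj (by rw [hlift, map_one, map_one])
      map_mul' := fun y y' => hinj (by rw [map_mul, hlift, hlift, hlift, map_mul])
      map_zero' := hinj (by rw [hlift, map_zero, map_zero])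
      map_add' := fun y y' => hinj (by rw [map_add, hlift, hlift, hlift, map_add]) }
  let h : (W : Scheme.{u}) ⟶ G := W.toSpecΓ ≫ Spec.map (CommRingCat.ofHom η') ≫ G.isoSpec.inv
  have hOh : T.homOfLE (inf_le_right : O ≤ W) ≫ h = m := by
    have e1 : CommRingCat.ofHom η' ≫ T.presheaf.map (homOfLE (inf_le_right : O ≤ W)).op =
        m.appTop ≫ O.topIso.hom := by
      ext y
      exact hlift y
    simp only [h]
    rw [← reassoc_of% Scheme.Opens.toSpecΓ_SpecMap_presheaf_map O W inf_le_right,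
      ← Spec.map_comp_assoc, e1, Scheme.Opens.toSpecΓ, Category.assoc, ← Spec.map_comp_assoc,
      Category.assoc, Iso.hom_inv_id, Category.comp_id, ← Scheme.toSpecΓ_naturality_assoc,
      ← Scheme.isoSpec_hom, Iso.hom_inv_id, Category.comp_id]
  have hag : Agree b s W h := hOh
  have hhp : h ≫ p = W.ι ≫ b := by
    have r1 : Set.range (h ≫ p) ⊆ Set.range B.1.ι := by
      rintro _ ⟨y, rfl⟩
      rw [Scheme.Opens.range_ι, Scheme.Hom.comp_apply]
      exact hpB trivial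
    have r2 : Set.range (W.ι ≫ b) ⊆ Set.range B.1.ι := by
      rintro _ ⟨y, rfl⟩
      rw [Scheme.Opens.range_ι, Scheme.Hom.comp_apply]
      exact hW₁B (hW y.2)
    haveI : IsAffine B.1.toScheme := B.2
    rw [← IsOpenImmersion.lift_fac B.1.ι _ r1, ← IsOpenImmersion.lift_fac B.1.ι _ r2]
    congr 1
    refine hsd.hom_ext (terminal.from _) (Subsingleton.elim _ _) ?_
    rw [← cancel_mono B.1.ι]
    simp only [Category.assoc, IsOpenImmersion.lift_fac]
    rw [reassoc_of% hOh, hm, Scheme.homOfLE_ι_assoc]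
  exact ⟨W, hxq, h, hhp, hag, hsd⟩

end Groth.NagComp
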