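import Groth.Agent.Ega2Proj.QProjEmb
import Groth.Agent.Ega2Proj.AffineInVB
import Groth.Agent.Ega2Proj.RelProjAmple
import Groth.Agent.KTheory.LocFree
import Groth.Agent.Flatmor4.YTriv
import Groth.Agent.BlowUpBasics.StrictTransform
import Groth.Agent.S2355

/-!
# Projective completion of an affine morphism of finite type

An affine scheme of finite type over a quasi-compact quasi-separated base is the locus of a section
of a relatively ample module on a schematically dense completion.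
-/

universe u

open CategoryTheory CategoryTheory.Limits AlgebraicGeometry Opposite TopologicalSpace

set_option backward.isDefEq.respectTransparency.types false
set_option linter.style.haveILetI false

noncomputable section

namespace Groth.NagComp.AffComp

open Groth.PicAux Groth.PropsBasic.Ample Groth.Chow Groth.Ega2Proj Groth.RelTw

theorem isCoh_structure (X : Scheme.{u}) : Coh.IsCoh (Coh.structureModule X) :=
  KTheory.LocFree.isCoh (LocFree.isFinLocFree_unit X)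

/-- A relatively closed range. -/
theorem range_isClosed_inter {X P : Scheme.{u}} (r : X ⟶ P) {κ : Type*} (D : κ → P.Opens) {W : P.Opens}
    (hW : ∀ z ∈ W, ∃ i, z ∈ D i) (h : ∀ i, IsClosedImmersion (r ∣_ D i)) :
    closure (Set.range r) ∩ W ⊆ Set.range r := by
  rintro z ⟨hz, hzW⟩
  obtain ⟨i, hi⟩ := hW z hzW
  haveI := h i
  let z' : (D i : Scheme.{u}) := ⟨z, hi⟩
  have hz' : z' ∈ closure (Set.range (r ∣_ D i)) := by
    rw [mem_closure_iff]
    intro O hO hzO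
    obtain ⟨O', hO', rfl⟩ := isOpen_induced_iff.1 hO
    obtain ⟨_, ⟨hwO, hwD⟩, x, rfl⟩ := mem_closure_iff.1 hz (O' ∩ D i) (hO'.inter (D i).2) ⟨hzO, hi⟩
    exact ⟨(r ∣_ D i) ⟨x, hwD⟩, (show ((r ∣_ D i) ⟨x, hwD⟩).1 ∈ O' by rw [morphismRestrict_base_coe]; exact hwO), ⟨_, rfl⟩⟩
  rw [(r ∣_ D i).isClosedEmbedding.isClosed_range.closure_eq] at hz'
  obtain ⟨x, hx⟩ := hz'
  exact ⟨x.1, (morphismRestrict_base_coe r (D i) x).symm.trans (congrArg Subtype.val hx)⟩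

variable {U X : Scheme.{u}}

/-- The projective completion of an affine morphism of finite type. -/
theorem exists_completion [CompactSpace X] [QuasiSeparatedSpace X] (f : U ⟶ X) [IsAffineHom f]
    [LocallyOfFiniteType f] :
    ∃ (P : Scheme.{u}) (p : P ⟶ X) (L : P.Modules) (ψ : Γ(L, ⊤)) (j : U ⟶ P),
      IsProper p ∧ RelAmple.IsRelAmple p L ∧ IsOpenImmersion j ∧ QuasiCompact j ∧
      IsSchemeTheoreticallyDominant j ∧ j ≫ p = f ∧ (gloc ψ : Set P) = Set.range j := by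
  classical
  obtain ⟨c, hc⟩ := isCompact_univ.elim_finite_subcover (fun V : X.affineOpens => (V.1 : Set X))
    (fun V => V.1.2) (fun x _ => Set.mem_iUnion.2
      (by
        obtain ⟨_, ⟨V, hV, rfl⟩, hx, -⟩ :=
          X.isBasis_affineOpens.exists_subset_of_mem_open (Set.mem_univ x) isOpen_univ
        exact ⟨⟨V, hV⟩, hx⟩))
  have hgens : ∀ V : X.affineOpens, ∃ T : Finset Γ(U, f ⁻¹ᵁ V.1),
      Subring.closure (Set.range (f.app V.1) ∪ (T : Set Γ(U, f ⁻¹ᵁ V.1))) = ⊤ := by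
    intro V
    have hft := HasRingHomProperty.appLE @LocallyOfFiniteType f inferInstance V ⟨_, V.2.preimage f⟩
      (le_refl (f ⁻¹ᵁ V.1))
    rw [Scheme.Hom.appLE_eq_app] at hft
    let _alg := (f.app V.1).hom.toAlgebra
    obtain ⟨G, hG⟩ := (hft : Algebra.FiniteType Γ(X, V.1) Γ(U, f ⁻¹ᵁ V.1)).out
    exact ⟨G, top_le_iff.1 fun z _ => Algebra.mem_adjoin_iff.1 (hG.symm ▸ Algebra.mem_top)⟩
  choose T hT using hgens
  let F := (Scheme.Modules.pushforward f).obj (Coh.structureModule U)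
  have : (Coh.structureModule U).IsQuasicoherent := (isCoh_structure U).1
  have : F.IsQuasicoherent := Groth.QCohMod.isQCoh_pushforward (M := Coh.structureModule U) f
  let κ := Σ V : c, T V.1
  obtain ⟨E₁, k₁, hE₁, hE₁f, hk₁⟩ := QEmb.exists_ftSub (F := F) (fun i : κ => i.1.1.1)
    (fun i => i.1.1.2) (fun i => (i.2.1 : Γ(U, f ⁻¹ᵁ i.1.1.1)) • oneSec U (f ⁻¹ᵁ i.1.1.1))
  obtain ⟨E, k, a₁, a₀, -, hE, ha₁, ha₀⟩ := Groth.QCohMod.exists_sup k₁
    (homOfSection (M := F) (oneSec U ⊤ : Γ(Coh.structureModule U, ⊤)))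
    ((Groth.QCohMod.isCoh_iff E₁).2 ⟨hE₁, hE₁f⟩) (isCoh_structure X)
  have : E.IsQuasicoherent := hE.1
  have hEf := ((Groth.QCohMod.isCoh_iff E).1 hE).2
  let e₀ : Γ(E, ⊤) := a₀.app ⊤ (oneSec X ⊤)
  have he₀ : k.app ⊤ e₀ = (oneSec U ⊤ : Γ(Coh.structureModule U, ⊤)) :=
    (congr(($ha₀).app ⊤ (oneSec X ⊤))).trans (homOfSection_one _)
  let σ : LinData f E (Coh.structureModule U) :=
    { app := fun V => AddMonoidHom.mk' (fun e => (k.app V e : Γ(Coh.structureModule U, f ⁻¹ᵁ V)))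
        fun a b => map_add (k.app V).hom a b
      app_smul := fun V a e => k.app_smul a e
      app_res := fun V W h e => Groth.QCohMod.res_app k h e }
  let eB : ∀ B : X.Opens, Γ(E, B) := fun B => Groth.PicAux.res E le_top e₀
  have hσ : ∀ B : X.Opens, σ.app B (eB B) = oneSec U (f ⁻¹ᵁ B) := fun B =>
    ((σ.app_res ⊤ B le_top e₀).symm.trans (congrArg (Groth.PicAux.res _ _) he₀)).trans (res_oneSec _)
  have hloc : ∀ B : X.Opens, σ.genLoc B (eB B) = f ⁻¹ᵁ B := fun B =>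
    le_antisymm (σ.genLoc_le _ _) (σ.le_genLoc le_rfl (by
      rw [Groth.PicAux.res_self, hσ]; exact gen_oneSec _))
  let 𝒮 := Groth.SymAlg.symGr E
  have hj := Groth.SymAlg.isGrSymAlg_symGr (E := E)
  obtain ⟨P, p, chart, hP⟩ := Groth.Ega2P2.exists_isRelProj 𝒮
  have hO1 := Groth.RelTw.isRelTwist_relTwist hP 1
  obtain ⟨φ₁, hφ₁⟩ := exists_phi hj hP hO1
  have hgen := isGenDegOne_sym hj
  have hft1 := isFTDeg_one_sym hj hEf
  have hp : RelProj.IsProjective p :=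
    ⟨𝒮, P, p, chart, Iso.refl P, hgen, hft1, hP, Category.id_comp p⟩
  haveI : IsProper p := Groth.Chow.isProper_of_isProjective hp
  have hamp := isRelAmple_relTwist_one hgen hft1 hP hO1
  obtain ⟨r, hr⟩ := exists_fits σ hj hP hO1 hφ₁ fun z => by
    obtain ⟨_, ⟨B, hB, rfl⟩, hz, -⟩ :=
      X.isBasis_affineOpens.exists_subset_of_mem_open (Set.mem_univ (f z)) isOpen_univ
    exact ⟨B, hB, eB B, (hloc B).ge hz⟩
  let ψ : Γ(Groth.RelTw.relTwist hP 1, ⊤) := φ₁.app ⊤ e₀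
  let D : ∀ V : X.affineOpens, P.Opens := fun V => dPlus p chart (Groth.SymAlg.jSym E) V.1 V.2 (eB V.1)
  have hres : ∀ (B : X.Opens) (W : P.Opens) (h : W ≤ p ⁻¹ᵁ B),
      res _ (le_top : W ≤ ⊤) ψ = res _ h (phiSec φ₁ B (eB B)) := fun B W h => by
    have h1 : phiSec φ₁ B (eB B) = res _ (le_top : p ⁻¹ᵁ B ≤ ⊤) ψ :=
      (Groth.QCohMod.res_app φ₁ (le_top : B ≤ ⊤) e₀).symm
    rw [h1, Groth.PicAux.res_res]
  have hDle : ∀ V : X.affineOpens, D V ≤ gloc ψ := fun V => le_gloc (by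
    rw [hres V.1 (D V) (dPlus_le V.1 V.2 _)]
    exact gen_app hj hO1 hφ₁ V.1 V.2 _)
  have hleD : ∀ z ∈ gloc ψ, ∀ V : X.affineOpens, p z ∈ V.1 → z ∈ D V := fun z hz V hzV => by
    refine mem_dPlus_of_gen hj hO1 hφ₁ V.1 V.2 _ (V := gloc ψ ⊓ p ⁻¹ᵁ V.1) inf_le_right ?_ ⟨hz, hzV⟩
    rw [← hres]
    exact gen_gloc ψ inf_le_left
  have hclosed : ∀ V : c, IsClosedImmersion (r ∣_ D V.1) := by
    intro V
    have hpre : r ⁻¹ᵁ D V.1 = σ.genLoc V.1.1 (eB V.1.1) := hr.pre _ V.1.2 _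
    have haff : IsAffineOpen (σ.genLoc V.1.1 (eB V.1.1)) := (hloc _).symm ▸ V.1.2.preimage f
    refine QEmb.isClosedImmersion_restrict r (isAffineOpen_dPlus hj V.1.1 V.1.2 _) haff hpre ?_
    refine (congrArg (fun m => Function.Surjective (CommRingCat.Hom.hom m))
      (hr.fn V.1.1 V.1.2 (eB V.1.1) hpre.ge)).mpr ?_
    suffices h : Function.Surjective (σ.fracHom hj V.1.2 (eB V.1.1)) from
      h.comp (ConcreteCategory.bijective_of_isIso (coord hj chart V.1.1 V.1.2 (eB V.1.1)).inv).2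
    suffices hR : (σ.fracHom hj V.1.2 (eB V.1.1)).range = ⊤ from fun z => hR.ge (Subring.mem_top z)
    have key : ∀ (Z : U.Opens) (eZ : f ⁻¹ᵁ V.1.1 = Z) (hZ : Z ≤ f ⁻¹ᵁ V.1.1) (S : Subring Γ(U, Z)),
        (∀ a, (f.appLE V.1.1 Z hZ).hom a ∈ S) → (∀ g ∈ T V.1, resX U eZ.ge g ∈ S) → S = ⊤ := by
      rintro Z rfl hZ S h1 h2
      refine top_le_iff.1 ((hT V.1).ge.trans (Subring.closure_le.2 ?_))
      rintro g (⟨a, rfl⟩ | hg)
      · rw [Scheme.Hom.app_eq_appLE]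
        exact h1 a
      · have := h2 g hg
        rwa [resX_self] at this
    refine key _ (hloc _).symm (σ.genLoc_le _ _) _ (fun a => ?_) (fun g hg => ?_)
    · exact ⟨jfrac hj V.1.1 V.1.2 (eB V.1.1) 0 (𝒮.str_mem V.1.1 V.1.2 a),
        (σ.fracHom_jfrac hj V.1.2 (eB V.1.1) 0 (𝒮.str_mem V.1.1 V.1.2 a)).trans
          (σ.algHom_str hj V.1.2 (eB V.1.1) a)⟩
    · obtain ⟨e₁, he₁⟩ := hk₁ ⟨V, ⟨g, hg⟩⟩
      have he : σ.app V.1.1 (a₁.app V.1.1 e₁) = (g : Γ(U, f ⁻¹ᵁ V.1.1)) • oneSec U (f ⁻¹ᵁ V.1.1) :=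
        (congr(($ha₁).app V.1.1 e₁)).trans he₁
      refine ⟨jfrac hj V.1.1 V.1.2 (eB V.1.1) 1 (hj.2 V.1.1 V.1.2 (a₁.app V.1.1 e₁)),
        ((σ.fracHom_jfrac hj V.1.2 (eB V.1.1) 1 (hj.2 V.1.1 V.1.2 (a₁.app V.1.1 e₁))).trans
          (σ.algHom_j hj V.1.2 (eB V.1.1) _)).trans (σ.eq_ratio ?_).symm⟩
      rw [he, hσ, Groth.PicAux.res_smul]
  have hrψ : r ⁻¹ᵁ gloc ψ = ⊤ := top_unique fun z _ => by
    obtain ⟨_, ⟨B, hB, rfl⟩, hz, -⟩ :=
      X.isBasis_affineOpens.exists_subset_of_mem_open (Set.mem_univ (f z)) isOpen_univ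
    exact hDle ⟨B, hB⟩ ((hr.pre B hB (eB B)).ge ((hloc B).ge hz) : r z ∈ D ⟨B, hB⟩)
  have hcovX : ∀ y : X, ∃ V : c, y ∈ V.1.1 := fun y => by
    obtain ⟨V, hV, hy⟩ := Set.mem_iUnion₂.1 (hc (Set.mem_univ y))
    exact ⟨⟨V, hV⟩, hy⟩
  haveI : IsImmersion r := by
    refine Groth.Chow.isImmersion_of_pieces r (fun V : c => D V.1) (fun z => ?_) hclosed
    obtain ⟨V, hV⟩ := hcovX (f z)
    exact ⟨V, hleD _ ((congrArg (fun O : U.Opens => z ∈ O) hrψ).mpr trivial) V.1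
      (by rw [← Scheme.Hom.comp_apply, hr.comp]; exact hV)⟩
  haveI : QuasiCompact r := by
    haveI : QuasiCompact (r ≫ p) := hr.comp ▸ inferInstance
    exact QuasiCompact.of_comp r p
  have hqa : Mor2.IsQuasiAffine r.imageι :=
    ⟨inferInstance, fun V hV => by
      haveI : IsAffine (r.imageι ⁻¹ᵁ V : Scheme.{u}) := hV.preimage r.imageι
      infer_instance⟩
  have hLi := Groth.Ega2Proj.isInvertible_of_isRelAmple hamp
  refine ⟨r.image, r.imageι ≫ p, _, pullSec r.imageι _ ψ, r.toImage, inferInstance,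
    Groth.Agent.S2355.result p r.imageι hqa _ hamp, inferInstance, inferInstance,
    BlowUpBasics.isSchemeTheoreticallyDominant_toImage r, ?_, ?_⟩
  · rw [Scheme.Hom.toImage_imageι_assoc, hr.comp]
  · rw [gloc_pullSec r.imageι hLi]
    refine le_antisymm (fun z hz => ?_) ?_
    · have hzc : r.imageι z ∈ closure (Set.range r) := by
        rw [← r.support_ker, ← r.ker.range_subschemeι]
        exact ⟨z, rfl⟩
      obtain ⟨x, hx⟩ := range_isClosed_inter r (fun V : c => D V.1)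
        (fun w hw => (hcovX (p w)).imp fun V hV => hleD w hw V.1 hV) hclosed ⟨hzc, hz⟩
      exact ⟨x, r.imageι.isEmbedding.injective (by rw [← Scheme.Hom.comp_apply, r.toImage_imageι, hx])⟩
    · rintro _ ⟨x, rfl⟩
      show r.imageι (r.toImage x) ∈ gloc ψ
      rw [← Scheme.Hom.comp_apply, r.toImage_imageι]
      exact (congrArg (fun O : U.Opens => x ∈ O) hrψ).mpr trivial

end Groth.NagComp.AffComp
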