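import Groth.Agent.NagComp.BlowUp
import Groth.Agent.RefRank.AdmBlowUp

/-!
# A birational separated morphism becomes an open immersion after admissible blow-ups

`exists_openImmersion_blowUps`: for `f : X ⟶ Y` separated of finite type and an isomorphism over the
quasi-compact open `U`, there is a `U`-admissible centre `K` on `Y` with support `Uᶜ` such that the
blow-up of `X` in `K.comap f` is an open subscheme of the blow-up of `Y` in `K`.
-/

universe u

open CategoryTheory Limits AlgebraicGeometry TopologicalSpace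

set_option linter.style.haveILetI false

namespace Groth.NagComp

variable {X Y : Scheme.{u}}

theorem exists_openImmersion_blowUps [CompactSpace Y] [QuasiSeparatedSpace Y] (f : X ⟶ Y)
    [IsSeparated f] [QuasiCompact f] [LocallyOfFiniteType f] (U : Y.Opens)
    (hU : IsCompact (U : Set Y)) [IsIso (f ∣_ U)] :
    ∃ (K : Y.IdealSheafData) (X' Y' : Scheme.{u}) (b : X' ⟶ X) (c : Y' ⟶ Y) (j : X' ⟶ Y'),
      BlowUp.IsBlowUp b (K.comap f) ∧ BlowUp.IsAdmissibleFor (f ⁻¹ᵁ U) (K.comap f) ∧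
      BlowUp.IsBlowUp c K ∧ BlowUp.IsAdmissibleFor U K ∧ (K.support : Set Y) = (U : Set Y)ᶜ ∧
      IsOpenImmersion j ∧ j ≫ c = b ≫ f ∧ SD (c ⁻¹ᵁ U) ⊤ := by
  let s : (U : Scheme.{u}) ⟶ X := inv (f ∣_ U) ≫ (f ⁻¹ᵁ U).ι
  have hs : s ≫ f = U.ι := by
    rw [Category.assoc, ← morphismRestrict_ι, IsIso.inv_hom_id_assoc]
  obtain ⟨K, Y', c, hc, hK, -, hsd, hext, hKs⟩ := exists_blowUp_extension f U U le_rfl hU hU s hs
    (fun y hy hyU => mem_range_of_mem_closure f s hs hy hyU)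
  obtain ⟨W, hUW, h, w, hhs, -, hci, -⟩ := hext.exists_glue
  refine ⟨K, W.toScheme, Y', h, c, W.ι, ⟨?_, fun Z g hg => ?_⟩, RefRank.isAdmissibleFor_comap f hK, hc,
    hK, hKs, inferInstance, w, hsd⟩
  · rw [← Scheme.IdealSheafData.comap_comp, ← w, Scheme.IdealSheafData.comap_comp]
    exact BlowUpBasics.isEffCartierIdeal_comap_of_flat _ hc.1
  rw [← Scheme.IdealSheafData.comap_comp] at hg
  obtain ⟨t, ht, huniq⟩ := hc.2 Z (g ≫ f) hg
  let G := pullback.lift W.ι h w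
  let tg : Z ⟶ pullback c f := pullback.lift t g ht
  let Z₀ : Z.Opens := Divisors.complOpens (K.comap (g ≫ f))
  haveI : IsSchemeTheoreticallyDominant Z₀.ι := Divisors.compl_dominant hg
  have hfac : ∃ k : (Z₀ : Scheme.{u}) ⟶ W.toScheme, k ≫ G = Z₀.ι ≫ tg := by
    have hZ₀ : ∀ z : Z, z ∈ Z₀ → f (g z) ∈ U := by
      intro z hz
      by_contra hn
      apply hz
      rw [Scheme.IdealSheafData.support_comap]
      show (g ≫ f) z ∈ (K.support : Set Y)
      rw [hKs]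
      exact hn
    let t₀ : (Z₀ : Scheme.{u}) ⟶ (c ⁻¹ᵁ U : Y'.Opens) :=
      IsOpenImmersion.lift (c ⁻¹ᵁ U).ι (Z₀.ι ≫ t) (by
        rintro _ ⟨z, rfl⟩
        rw [Scheme.Opens.range_ι]
        show c (t z.1) ∈ U
        rw [← Scheme.Hom.comp_apply, ht]
        exact hZ₀ _ z.2)
    have ht₀ : t₀ ≫ (c ⁻¹ᵁ U).ι = Z₀.ι ≫ t := IsOpenImmersion.lift_fac _ _ _
    let g₀ : (Z₀ : Scheme.{u}) ⟶ (f ⁻¹ᵁ U : X.Opens) :=
      IsOpenImmersion.lift (f ⁻¹ᵁ U).ι (Z₀.ι ≫ g) (by
        rintro _ ⟨z, rfl⟩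
        rw [Scheme.Opens.range_ι]
        exact hZ₀ _ z.2)
    have hg₀ : g₀ ≫ (f ⁻¹ᵁ U).ι = Z₀.ι ≫ g := IsOpenImmersion.lift_fac _ _ _
    have e : g₀ = (t₀ ≫ (c ∣_ U)) ≫ inv (f ∣_ U) := by
      rw [IsIso.eq_comp_inv, ← cancel_mono U.ι]
      simp only [Category.assoc, morphismRestrict_ι, reassoc_of% hg₀, reassoc_of% ht₀, ht]
    refine ⟨t₀ ≫ Y'.homOfLE hUW, pullback.hom_ext ?_ ?_⟩
    · simp only [G, tg, Category.assoc, pullback.lift_fst, Scheme.homOfLE_ι, ht₀]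
    · simp only [G, tg, Category.assoc, pullback.lift_snd, hhs, s]
      rw [← hg₀, e]
      simp only [Category.assoc]
  obtain ⟨k, hk⟩ := hfac
  have hker : G.ker ≤ tg.ker := by
    have h1 : G.ker ≤ (Z₀.ι ≫ tg).ker := hk ▸ k.le_ker_comp G
    rwa [← Scheme.IdealSheafData.map_ker, Z₀.ι.ker_eq_bot,
      Scheme.IdealSheafData.map_bot] at h1
  haveI : IsClosedImmersion G := hci
  let m := IsClosedImmersion.lift G tg hker
  have hm : m ≫ G = tg := IsClosedImmersion.lift_fac _ _ _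
  refine ⟨m, ?_, fun m' hm' => ?_⟩
  · have := hm =≫ pullback.snd c f
    simpa only [G, tg, Category.assoc, pullback.lift_snd] using this
  · have h1 : m ≫ W.ι = t := by
      have := hm =≫ pullback.fst c f
      simpa only [G, tg, Category.assoc, pullback.lift_fst] using this
    rw [← cancel_mono W.ι, h1]
    exact huniq _ (by show (m' ≫ W.ι) ≫ c = g ≫ f; rw [Category.assoc, w, reassoc_of% hm'])

end Groth.NagComp
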