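import Groth.Agent.NagComp.Main
import Groth.Agent.FlatMorOne.FTIdeal

/-!
# The blow-up in which a section extends

`exists_blowUp_extension`: an admissible blow-up in which the section extends to a closed graph over
an open `W`, with the preimage of `V` scheme-theoretically dense.
-/

universe u

open CategoryTheory Limits AlgebraicGeometry TopologicalSpace

set_option linter.style.haveILetI false

namespace Groth.NagComp

variable {X P : Scheme.{u}}

/-- An open containing the complement of an effective Cartier divisor is scheme-theoretically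
dense. -/
theorem SD.of_compl {I : X.IdealSheafData} (hI : BlowUp.IsEffCartierIdeal I) {U : X.Opens}
    (hU : ∀ x : X, x ∉ I.support → x ∈ U) (W : X.Opens) : SD U W := by
  intro O _ s hs
  refine Divisors.eq_zero_of_off_support hI s fun x hx hns => ?_
  rw [← X.presheaf.germ_res_apply (homOfLE (inf_le_left : O ⊓ U ≤ O)) x ⟨hx, hU x hns⟩]
  show (X.presheaf.germ (O ⊓ U) x _).hom ((X.presheaf.map _).hom s) = 0
  rw [hs, map_zero]

theorem dense_of_SD_top {U : X.Opens} (h : SD U ⊤) : Dense (U : Set X) := by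
  rw [dense_iff_inter_open]
  intro o ho hne
  exact h.inter_nonempty (O := ⟨o, ho⟩) le_top hne

theorem dense_preimage_of_isIso {T : Scheme.{u}} (b : T ⟶ X) {U V : X.Opens} [IsIso (b ∣_ V)]
    (hUd : Dense (U : Set X)) (hVd : Dense ((b ⁻¹ᵁ V : T.Opens) : Set T)) :
    Dense ((b ⁻¹ᵁ U : T.Opens) : Set T) := by
  rw [dense_iff_inter_open]
  intro o ho hne
  obtain ⟨x, hxo, hxV⟩ := dense_iff_inter_open.mp hVd o ho hne
  let e := b ∣_ V
  have himg : IsOpen (V.ι '' (e '' ((b ⁻¹ᵁ V).ι ⁻¹' o))) :=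
    V.ι.isOpenEmbedding.isOpenMap _ (e.isOpenEmbedding.isOpenMap _
      (ho.preimage (b ⁻¹ᵁ V).ι.continuous))
  obtain ⟨_, ⟨_, ⟨y, hy, rfl⟩, rfl⟩, hyU⟩ :=
    dense_iff_inter_open.mp hUd _ himg ⟨_, _, ⟨⟨x, hxV⟩, hxo, rfl⟩, rfl⟩
  refine ⟨y.1, hy, ?_⟩
  rw [← Scheme.Hom.comp_apply, morphismRestrict_ι, Scheme.Hom.comp_apply] at hyU
  exact hyU

theorem exists_blowUp_extension [CompactSpace X] [QuasiSeparatedSpace X] (p : P ⟶ X) [IsSeparated p]
    [LocallyOfFiniteType p] [QuasiCompact p] (U V : X.Opens) (hUV : U ≤ V)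
    (hU : IsCompact (U : Set X)) (hV : IsCompact (V : Set X)) (s : (U : Scheme.{u}) ⟶ P)
    (hs : s ≫ p = U.ι) (hcl : ∀ y ∈ closure (Set.range s), p y ∈ V → y ∈ Set.range s) :
    ∃ (K : X.IdealSheafData) (T : Scheme.{u}) (b : T ⟶ X), BlowUp.IsBlowUp b K ∧
      BlowUp.IsAdmissibleFor V K ∧ IsProper b ∧ SD (b ⁻¹ᵁ V) ⊤ ∧ Extends b p s hs ∧
      (K.support : Set X) = (V : Set X)ᶜ := by
  obtain ⟨K₀, hK₀, hgood⟩ := exists_good p U V hUV hU hV s hs hcl
  obtain ⟨N, hN, hNs⟩ := FlatMorOne.exists_ftIdeal_support_eq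
    ⟨(V : Set X)ᶜ, V.2.isClosed_compl⟩ (by simpa using hV)
  have hNV : BlowUp.IsAdmissibleFor V N := ⟨hN, by rw [hNs]; exact disjoint_compl_left⟩
  have hKV : BlowUp.IsAdmissibleFor V (N * K₀) := RefRank.isAdmissibleFor_mul hNV hK₀
  have hsupp : ((N * K₀).support : Set X) = (V : Set X)ᶜ := by
    refine Set.Subset.antisymm ?_ ?_
    · intro x hx hxV
      exact Set.disjoint_left.mp hKV.2 hx hxV
    · rw [Scheme.IdealSheafData.support_mul]
      exact hNs.symm.le.trans Set.subset_union_left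
  obtain ⟨T, b, hb⟩ := BlowUpBasics.exists_isBlowUp X (N * K₀)
  refine ⟨N * K₀, T, b, hb, hKV, HTopHyper.isProper_of_isBlowUp hb hKV.1, ?_,
    hgood.mul_left N T b hb.1, hsupp⟩
  refine SD.of_compl hb.1 (fun x hx => ?_) ⊤
  by_contra h
  apply hx
  rw [Scheme.IdealSheafData.support_comap]
  show b x ∈ ((N * K₀).support : Set X)
  rw [hsupp]
  exact h

/-- The image of a section of a separated morphism is closed over its domain. -/
theorem mem_range_of_mem_closure (p : P ⟶ X) [IsSeparated p] {U : X.Opens}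
    (s : (U : Scheme.{u}) ⟶ P) (hs : s ≫ p = U.ι) {y : P} (hy : y ∈ closure (Set.range s))
    (hyU : p y ∈ U) : y ∈ Set.range s := by
  have hr : Set.range s ⊆ Set.range (p ⁻¹ᵁ U).ι := by
    rintro _ ⟨x, rfl⟩
    rw [Scheme.Opens.range_ι]
    show p (s x) ∈ U
    rw [← Scheme.Hom.comp_apply, hs]
    exact x.2
  let τ := IsOpenImmersion.lift (p ⁻¹ᵁ U).ι s hr
  have hτ : τ ≫ (p ⁻¹ᵁ U).ι = s := IsOpenImmersion.lift_fac _ _ _
  have h1 : τ ≫ (p ∣_ U) = 𝟙 _ := by
    rw [← cancel_mono U.ι, Category.assoc, morphismRestrict_ι, reassoc_of% hτ, hs, Category.id_comp]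
  haveI : IsClosedImmersion (τ ≫ (p ∣_ U)) := by rw [h1]; infer_instance
  haveI : IsClosedImmersion τ := IsClosedImmersion.of_comp τ (p ∣_ U)
  have hy' : (⟨y, hyU⟩ : ↥((p ⁻¹ᵁ U : P.Opens) : Scheme.{u})) ∈ closure (Set.range τ) := by
    have hrange : Set.range τ = (p ⁻¹ᵁ U).ι ⁻¹' Set.range s := by
      ext a
      constructor
      · rintro ⟨x, rfl⟩; exact ⟨x, congr($(hτ.symm) x)⟩
      · rintro ⟨x, hx⟩
        refine ⟨x, (p ⁻¹ᵁ U).ι.isOpenEmbedding.injective ?_⟩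
        rw [← Scheme.Hom.comp_apply, hτ]; exact hx
    rw [hrange, ← (p ⁻¹ᵁ U).ι.isOpenEmbedding.isOpenMap.preimage_closure_eq_closure_preimage
      (p ⁻¹ᵁ U).ι.continuous]
    exact hy
  rw [τ.isClosedEmbedding.isClosed_range.closure_eq] at hy'
  obtain ⟨x, hx⟩ := hy'
  exact ⟨x, by rw [← hτ, Scheme.Hom.comp_apply, hx]; rfl⟩

end Groth.NagComp
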