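import Groth.Agent.NagComp.BlowUp
import Groth.Agent.NagComp.CommonTargetFin
import Groth.Agent.S1279

/-!
# Charts for a compactification: an open of a proper scheme proper over `X`
-/

universe u

open CategoryTheory Limits AlgebraicGeometry TopologicalSpace

set_option linter.style.haveILetI false

namespace Groth.NagComp

/-- `f` factors as an open immersion followed by a proper morphism. -/
def HasCompactification {X S : Scheme.{u}} (f : X ⟶ S) : Prop :=
  ∃ (Xc : Scheme.{u}) (j : X ⟶ Xc) (g : Xc ⟶ S), IsOpenImmersion j ∧ IsProper g ∧ j ≫ g = f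

theorem HasCompactification.comp_openImmersion {X X' S : Scheme.{u}} {f : X ⟶ S}
    (h : HasCompactification f) (k : X' ⟶ X) [IsOpenImmersion k] : HasCompactification (k ≫ f) := by
  obtain ⟨Xc, j, g, hj, hg, hf⟩ := h
  exact ⟨Xc, k ≫ j, g, inferInstance, hg, by rw [Category.assoc, hf]⟩

/-- An open `Xi` of a proper `Y`, proper over `X`, containing the open `U` of `X`. -/
structure Chart {X S : Scheme.{u}} (f : X ⟶ S) (U : X.Opens) where
  Xi : Scheme.{u}
  Y : Scheme.{u}
  g : Y ⟶ S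
  o : Xi ⟶ Y
  h : Xi ⟶ X
  v : (U : Scheme.{u}) ⟶ Xi
  proper_g : IsProper g
  openImm_o : IsOpenImmersion o
  proper_h : IsProper h
  openImm_v : IsOpenImmersion v
  v_h : v ≫ h = U.ι
  h_f : h ≫ f = o ≫ g

attribute [instance] Chart.proper_g Chart.openImm_o Chart.proper_h Chart.openImm_v

variable {X S : Scheme.{u}} [CompactSpace S] [QuasiSeparatedSpace S] {f : X ⟶ S}

theorem exists_chart (f : X ⟶ S) [IsSeparated f] [LocallyOfFiniteType f] [QuasiCompact f]
    (U : X.Opens) (hU : IsCompact (U : Set X)) (hc : HasCompactification (U.ι ≫ f)) :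
    Nonempty (Chart f U) := by
  obtain ⟨Y, j, π, hj, hπ, hjπ⟩ := hc
  haveI : CompactSpace Y := QuasiCompact.compactSpace_of_compactSpace π
  haveI : QuasiSeparatedSpace Y := quasiSeparatedSpace_of_quasiSeparated π
  haveI : CompactSpace (U : Scheme.{u}) := isCompact_iff_compactSpace.mp hU
  let R : Y.Opens := j.opensRange
  have hR : IsCompact (R : Set Y) := isCompact_range j.continuous
  let k₀ : (R : Scheme.{u}) ⟶ (U : Scheme.{u}) := IsOpenImmersion.lift j R.ι
    (by rw [Scheme.Opens.range_ι]; exact subset_rfl)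
  have hk₀ : k₀ ≫ j = R.ι := IsOpenImmersion.lift_fac _ _ _
  let j' : (U : Scheme.{u}) ⟶ (R : Scheme.{u}) := IsOpenImmersion.lift R.ι j
    (by rw [Scheme.Opens.range_ι]; exact subset_rfl)
  have hj' : j' ≫ R.ι = j := IsOpenImmersion.lift_fac _ _ _
  haveI : IsOpenImmersion (j' ≫ R.ι) := hj'.symm ▸ hj
  haveI : IsOpenImmersion j' := IsOpenImmersion.of_comp j' R.ι
  have hjk : j' ≫ k₀ = 𝟙 _ := by
    rw [← cancel_mono j, Category.assoc, hk₀, hj', Category.id_comp]
  let s : (R : Scheme.{u}) ⟶ pullback π f := pullback.lift R.ι (k₀ ≫ U.ι) (by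
    rw [Category.assoc, ← hjπ, reassoc_of% hk₀])
  have hs : s ≫ pullback.fst π f = R.ι := pullback.lift_fst _ _ _
  obtain ⟨K, T, b, hb, hK, hbp, -, hext, -⟩ := exists_blowUp_extension
    (pullback.fst π f) R R le_rfl hR hR s hs
    (fun y hy hyV => mem_range_of_mem_closure _ s hs hy hyV)
  obtain ⟨W, hRW, h, w, hhs, -, hci, -⟩ := hext.exists_glue
  haveI : IsProper (h ≫ pullback.snd π f) := by
    rw [← pullback.lift_snd W.ι h w, Category.assoc]
    infer_instance
  haveI := BlowUpBasics.isIso_morphismRestrict hb R hK.2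
  refine ⟨⟨W.toScheme, T, b ≫ π, W.ι, h ≫ pullback.snd π f,
    (j' ≫ inv (b ∣_ R)) ≫ T.homOfLE hRW, inferInstance, inferInstance, inferInstance, inferInstance,
    ?_, ?_⟩⟩
  · simp only [Category.assoc, reassoc_of% hhs, IsIso.inv_hom_id_assoc, s, pullback.lift_snd,
      reassoc_of% hjk]
  · rw [Category.assoc, ← pullback.condition, reassoc_of% w]

/-- A blow-up missing the open lifts it isomorphically. -/
theorem exists_lift_of_blowUp {Xi Y Y' : Scheme.{u}} (o : Xi ⟶ Y) [IsOpenImmersion o] {c : Y' ⟶ Y}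
    {K : Y.IdealSheafData} (hc : BlowUp.IsBlowUp c K)
    (hK : BlowUp.IsAdmissibleFor o.opensRange K) :
    ∃ o' : Xi ⟶ Y', IsOpenImmersion o' ∧ o' ≫ c = o := by
  have htop : K.comap o = ⊤ := BlowUpBasics.comap_eq_top_of_range_subset _ _ (by
    rintro _ ⟨y, rfl⟩ hy
    exact Set.disjoint_left.mp hK.2 hy ⟨y, rfl⟩)
  obtain ⟨o', ho', -⟩ := hc.2 Xi o (htop ▸ Divisors.isEffCartierIdeal_top)
  haveI := BlowUpBasics.isIso_morphismRestrict hc o.opensRange hK.2
  exact ⟨o', isOpenImmersion_of_comp_blowUp c o' o ho', ho'⟩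

/-- Disjoint closed subsets of an open can be given disjoint closures by an admissible blow-up. -/
theorem exists_disjoint_closures {Xi Y : Scheme.{u}} [CompactSpace Y] [QuasiSeparatedSpace Y]
    (o : Xi ⟶ Y) [IsOpenImmersion o] [CompactSpace Xi] (A B : Set Xi) (hA : IsClosed A)
    (hB : IsClosed B) (hAc : IsCompact Aᶜ) (hBc : IsCompact Bᶜ) (hd : Disjoint A B) :
    ∃ (K : Y.IdealSheafData) (Y' : Scheme.{u}) (c : Y' ⟶ Y) (o' : Xi ⟶ Y'),
      BlowUp.IsBlowUp c K ∧ BlowUp.IsAdmissibleFor o.opensRange K ∧ IsProper c ∧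
      IsOpenImmersion o' ∧ o' ≫ c = o ∧
      Disjoint (closure ((fun x => o' x) '' A)) (closure ((fun x => o' x) '' B)) := by
  let U : Y.Opens := o.opensRange
  have hU : IsCompact (U : Set Y) := isCompact_range o.continuous
  haveI : QuasiSeparatedSpace ↥(U : Set Y) :=
    QuasiSeparatedSpace.of_isOpenEmbedding U.2.isOpenEmbedding_subtypeVal
  haveI : CompactSpace ↥(U : Set Y) := isCompact_iff_compactSpace.mp hU
  let φ : Xi → ↥(U : Set Y) := fun x => ⟨o x, x, rfl⟩
  have hφ : Function.Bijective φ := ⟨fun x y e => o.isOpenEmbedding.injective (congrArg Subtype.val e),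
    fun ⟨_, x, rfl⟩ => ⟨x, rfl⟩⟩
  have hφc : Continuous φ := o.continuous.subtype_mk _
  have hφo : IsOpenMap φ := by
    intro V hV
    have : φ '' V = Subtype.val ⁻¹' ((fun x => o x) '' V) := by
      ext ⟨_, x, rfl⟩
      constructor
      · rintro ⟨y, hy, e⟩; exact ⟨y, hy, congrArg Subtype.val e⟩
      · rintro ⟨y, hy, e⟩; exact ⟨y, hy, Subtype.ext e⟩
    rw [this]
    exact (o.isOpenEmbedding.isOpenMap V hV).preimage continuous_subtype_val
  have key : ∀ Z : Set Xi, IsClosed Z → IsCompact Zᶜ →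
      IsClosed (φ '' Z) ∧ Topology.IsConstructible (φ '' Z) := by
    intro Z hZ hZc
    have e : φ '' Z = (φ '' Zᶜ)ᶜ := by rw [Set.image_compl_eq hφ, compl_compl]
    rw [e]
    exact ⟨(hφo _ hZ.isOpen_compl).isClosed_compl,
      Topology.isConstructible_compl.mpr
        ((hZc.image hφc).isConstructible (hφo _ hZ.isOpen_compl))⟩
  obtain ⟨K, Y', c, hc, hK, hdisj⟩ := Groth.Agent.S1279.result U hU (φ '' A) (φ '' B)
    (key A hA hAc).1 (key B hB hBc).1 (key A hA hAc).2 (key B hB hBc).2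
    ((Set.disjoint_image_iff hφ.1).mpr hd)
  obtain ⟨o', ho', hoc⟩ := exists_lift_of_blowUp o hc hK
  have hsub : ∀ Z : Set Xi, (fun x => o' x) '' Z ⊆ c.base ⁻¹' (Subtype.val '' (φ '' Z)) := by
    rintro Z _ ⟨x, hx, rfl⟩
    exact ⟨φ x, ⟨x, hx, rfl⟩, congr($(hoc.symm) x)⟩
  exact ⟨K, Y', c, o', hc, hK, HTopHyper.isProper_of_isBlowUp hc hK.1, ho', hoc,
    hdisj.mono (closure_mono (hsub A)) (closure_mono (hsub B))⟩

/-- A quasi-compact open between a compact set and an open. -/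
theorem exists_compactOpen_between {Y : Scheme.{u}} (K : Set Y) (hK : IsCompact K) (O : Y.Opens)
    (hKO : K ⊆ O) : ∃ Z : Y.Opens, K ⊆ Z ∧ Z ≤ O ∧ IsCompact (Z : Set Y) := by
  choose B hB using fun y : K => Divisors.exists_affine_le y.1 O (hKO y.2)
  obtain ⟨t, ht⟩ := hK.elim_finite_subcover (fun y => ((B y).1 : Set Y)) (fun y => (B y).1.2)
    (fun y hy => Set.mem_iUnion.mpr ⟨⟨y, hy⟩, (hB ⟨y, hy⟩).1⟩)
  refine ⟨⨆ y ∈ t, (B y).1, fun y hy => ?_, iSup₂_le fun y _ => (hB y).2, ?_⟩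
  · obtain ⟨z, hz, hyz⟩ := Set.mem_iUnion₂.mp (ht hy)
    exact Opens.mem_iSup.mpr ⟨z, Opens.mem_iSup.mpr ⟨hz, hyz⟩⟩
  · simp only [Opens.coe_iSup]
    exact t.isCompact_biUnion fun y _ => (B y).2.isCompact

end Groth.NagComp
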