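import Groth.Agent.Divisors.EffCartier
import Groth.Agent.GrpschAbsch.SchDense
import Mathlib

/-!
# An open is scheme-theoretically dense in another, stated on sections
-/

universe u

open CategoryTheory Limits AlgebraicGeometry TopologicalSpace

namespace Groth.NagComp

variable {X : Scheme.{u}}

/-- `U` is scheme-theoretically dense in `W`: a section over an open below `W` vanishing on `U` is
zero. -/
def SD (U W : X.Opens) : Prop :=
  ∀ (O : X.Opens) (_ : O ≤ W) (s : Γ(X, O)),
    (X.presheaf.map (homOfLE (inf_le_left : O ⊓ U ≤ O)).op).hom s = 0 → s = 0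

theorem SD.mono {U U' W W' : X.Opens} (h : SD U W) (hU : U ≤ U') (hW : W' ≤ W) : SD U' W' := by
  intro O hO s hs
  refine h O (hO.trans hW) s ?_
  have := congrArg (X.presheaf.map (homOfLE (inf_le_inf_left O hU : O ⊓ U ≤ O ⊓ U')).op).hom hs
  rw [map_zero, ← RingHom.comp_apply, ← CommRingCat.hom_comp, ← Functor.map_comp] at this
  exact this

theorem SD.refl (U : X.Opens) : SD U U := by
  intro O hO s hs
  have e : O = O ⊓ U := (inf_eq_left.mpr hO).symm
  have := congrArg (X.presheaf.map (homOfLE e.le).op).hom hs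
  rw [map_zero, ← RingHom.comp_apply, ← CommRingCat.hom_comp, ← Functor.map_comp,
    show (homOfLE (inf_le_left : O ⊓ U ≤ O)).op ≫ (homOfLE e.le).op = 𝟙 _ from
      Subsingleton.elim _ _, X.presheaf.map_id] at this
  simpa using this

/-- Scheme-theoretic density gives topological density. -/
theorem SD.inter_nonempty {U W : X.Opens} (h : SD U W) {O : X.Opens} (hO : O ≤ W)
    (hne : (O : Set X).Nonempty) : ((O ⊓ U : X.Opens) : Set X).Nonempty := by
  by_contra hemp
  rw [Set.not_nonempty_iff_eq_empty] at hemp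
  obtain ⟨x, hx⟩ := hne
  have h1 : (1 : Γ(X, O)) = 0 := by
    refine h O hO 1 (Divisors.section_ext fun y hy => ?_)
    exact (Set.eq_empty_iff_forall_notMem.mp hemp y hy).elim
  have := congrArg (X.presheaf.germ O x hx).hom h1
  rw [map_one, map_zero] at this
  exact one_ne_zero this

theorem SD.injective {U W : X.Opens} (h : SD U W) {O : X.Opens} (hO : O ≤ W) :
    Function.Injective (X.presheaf.map (homOfLE (inf_le_left : O ⊓ U ≤ O)).op).hom :=
  (injective_iff_map_eq_zero _).mpr fun s hs => h O hO s hs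

/-- An open containing the locus where a regular section is invertible is scheme-theoretically
dense. -/
theorem SD.of_nzd {U W : X.Opens} {d : Γ(X, W)} (hd : Divisors.IsNzdSec d)
    (hU : X.basicOpen d ≤ U) : SD U W := by
  intro O hO s hs
  refine Divisors.section_ext fun x hx => ?_
  obtain ⟨N, hxN, hNO⟩ := Divisors.exists_affine_le x O hx
  rw [map_zero, ← X.presheaf.germ_res_apply (homOfLE hNO) x hxN]
  suffices (X.presheaf.map (homOfLE hNO).op).hom s = 0 by
    show (X.presheaf.germ N.1 x hxN).hom ((X.presheaf.map (homOfLE hNO).op).hom s) = 0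
    rw [this, map_zero]
  set t := (X.presheaf.map (homOfLE hNO).op).hom s with ht
  set e := (X.presheaf.map (homOfLE (hNO.trans hO)).op).hom d with he
  have hle : X.basicOpen e ≤ O ⊓ U := by
    refine le_inf ((X.basicOpen_le e).trans hNO) ?_
    rw [he, Scheme.basicOpen_res]
    exact inf_le_right.trans hU
  have h0 : (X.presheaf.map (homOfLE (X.basicOpen_le e)).op).hom t = 0 := by
    have := congrArg (X.presheaf.map (homOfLE hle).op).hom hs
    rw [map_zero, ← RingHom.comp_apply, ← CommRingCat.hom_comp, ← Functor.map_comp] at this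
    rw [ht, ← RingHom.comp_apply, ← CommRingCat.hom_comp, ← Functor.map_comp]
    exact this
  haveI := N.2.isLocalization_basicOpen e
  obtain ⟨⟨_, n, rfl⟩, hn⟩ := (IsLocalization.map_eq_zero_iff (Submonoid.powers e)
    Γ(X, X.basicOpen e) t).mp h0
  exact (pow_mem ((hd.res (hNO.trans hO)).mem_nonZeroDivisors) n).1 t hn

theorem SD.dominant {U W : X.Opens} (h : SD U W) :
    IsSchemeTheoreticallyDominant (W.ι ⁻¹ᵁ U).ι := by
  refine GrpschAbsch.isSchemeTheoreticallyDominant_ι _ fun V => ?_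
  refine (injective_iff_map_eq_zero _).mpr fun s hs => ?_
  refine h (W.ι ''ᵁ V) (W.ι_image_le V) s ?_
  have hle : W.ι ''ᵁ V ⊓ U ≤ W.ι ''ᵁ (V ⊓ W.ι ⁻¹ᵁ U) := by
    rintro _ ⟨⟨y, hy, rfl⟩, hyU⟩
    exact ⟨y, ⟨hy, hyU⟩, rfl⟩
  have := (congrArg (X.presheaf.map (homOfLE hle).op).hom hs).trans (map_zero _)
  rw [← this]
  show _ = (X.presheaf.map (homOfLE hle).op).hom ((X.presheaf.map
    (homOfLE (W.ι.image_mono (inf_le_left : V ⊓ W.ι ⁻¹ᵁ U ≤ V))).op).hom s)
  rw [← RingHom.comp_apply, ← CommRingCat.hom_comp, ← Functor.map_comp]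
  rfl

/-- Morphisms to a separated scheme agreeing on a scheme-theoretically dense open agree. -/
theorem SD.hom_ext {U W : X.Opens} (h : SD U W) {T Z : Scheme.{u}} (t : T ⟶ Z) [IsSeparated t]
    {f g : (W : Scheme.{u}) ⟶ T} (w : f ≫ t = g ≫ t)
    (hU : X.homOfLE (inf_le_right : U ⊓ W ≤ W) ≫ f = X.homOfLE (inf_le_right : U ⊓ W ≤ W) ≫ g) :
    f = g := by
  haveI := h.dominant
  refine GrpschAbsch.ext_of_isSchemeTheoreticallyDominant t w (W.ι ⁻¹ᵁ U).ι ?_
  have hr : Set.range ((W.ι ⁻¹ᵁ U).ι ≫ W.ι) ⊆ Set.range (U ⊓ W).ι := by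
    rintro _ ⟨⟨y, hy⟩, rfl⟩
    rw [Scheme.Opens.range_ι]
    exact ⟨hy, y.2⟩
  have hfac : IsOpenImmersion.lift (U ⊓ W).ι ((W.ι ⁻¹ᵁ U).ι ≫ W.ι) hr ≫
      X.homOfLE (inf_le_right : U ⊓ W ≤ W) = (W.ι ⁻¹ᵁ U).ι := by
    rw [← cancel_mono W.ι, Category.assoc, Scheme.homOfLE_ι, IsOpenImmersion.lift_fac]
  rw [← hfac, Category.assoc, Category.assoc, hU]

end Groth.NagComp
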