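import Groth.Agent.NagComp.Nagata
import Groth.Agent.NagComp.CommonTarget

/-!
# Schematically dense compactifications compatible with a map to a proper scheme
-/

universe u

open AlgebraicGeometry CategoryTheory Limits

set_option linter.style.haveILetI false

namespace Groth.NagComp

/-- If `s ≫ p` is an open immersion with `p` separated then `s` is an open immersion into its
scheme-theoretic image. -/
theorem isOpenImmersion_toImage {X U P : Scheme.{u}} (p : P ⟶ X) [IsSeparated p] (s : U ⟶ P)
    [QuasiCompact s] [IsOpenImmersion (s ≫ p)] : IsOpenImmersion s.toImage := by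
  haveI := isIso_image_restrict p s
  have hr : Set.range s.toImage ⊆
      Set.range ((s.imageι ≫ p) ⁻¹ᵁ (s ≫ p).opensRange).ι := by
    rw [Scheme.Opens.range_ι, range_toImage_eq p s]
  let τ := IsOpenImmersion.lift _ s.toImage hr
  have hτ : τ ≫ ((s.imageι ≫ p) ⁻¹ᵁ (s ≫ p).opensRange).ι = s.toImage :=
    IsOpenImmersion.lift_fac _ _ _
  haveI : IsOpenImmersion (τ ≫ ((s.imageι ≫ p) ∣_ (s ≫ p).opensRange) ≫ (s ≫ p).opensRange.ι) := by
    rw [morphismRestrict_ι, reassoc_of% hτ, Scheme.Hom.toImage_imageι_assoc]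
    infer_instance
  haveI : IsOpenImmersion τ := IsOpenImmersion.of_comp τ
    (((s.imageι ≫ p) ∣_ (s ≫ p).opensRange) ≫ (s ≫ p).opensRange.ι)
  rw [← hτ]
  infer_instance

/-- Nagata compactification, schematically dense, and compatible with a given map to a proper
scheme over the base. -/
theorem exists_compactification_over {C P S : Scheme.{u}} [CompactSpace S] [QuasiSeparatedSpace S]
    (f : C ⟶ S) [IsSeparated f] [LocallyOfFiniteType f] [QuasiCompact f]
    (π : P ⟶ S) [IsProper π] (m : C ⟶ P) (hm : m ≫ π = f) :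
    ∃ (Cb : Scheme.{u}) (j : C ⟶ Cb) (g : Cb ⟶ S) (φ : Cb ⟶ P),
      IsOpenImmersion j ∧ QuasiCompact j ∧ IsSchemeTheoreticallyDominant j ∧ IsDominant j ∧
      IsProper g ∧ j ≫ g = f ∧ φ ≫ π = g ∧ j ≫ φ = m := by
  obtain ⟨Xc, j₀, g₀, hj₀, hg₀, hf⟩ := hasCompactification f
  let s : C ⟶ pullback g₀ π := pullback.lift j₀ m (hf.trans hm.symm)
  haveI : CompactSpace C := QuasiCompact.compactSpace_of_compactSpace f
  haveI : QuasiSeparatedSpace (pullback g₀ π : Scheme.{u}) :=
    quasiSeparatedSpace_of_quasiSeparated (pullback.fst g₀ π ≫ g₀)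
  haveI : QuasiCompact s :=
    haveI : QuasiCompact (s ≫ pullback.fst g₀ π ≫ g₀) := by
      rw [pullback.lift_fst_assoc, hf]; infer_instance
    QuasiCompact.of_comp s (pullback.fst g₀ π ≫ g₀)
  haveI : IsOpenImmersion (s ≫ pullback.fst g₀ π) := by rw [pullback.lift_fst]; exact hj₀
  haveI := isOpenImmersion_toImage (pullback.fst g₀ π) s
  refine ⟨s.image, s.toImage, s.imageι ≫ pullback.fst g₀ π ≫ g₀, s.imageι ≫ pullback.snd g₀ π,
    inferInstance, inferInstance, BlowUpBasics.isSchemeTheoreticallyDominant_toImage s, inferInstance,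
    inferInstance, ?_, ?_, ?_⟩
  · rw [Scheme.Hom.toImage_imageι_assoc, pullback.lift_fst_assoc, hf]
  · rw [Category.assoc, ← pullback.condition]
  · rw [Scheme.Hom.toImage_imageι_assoc, pullback.lift_snd]

end Groth.NagComp
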