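import Groth.Agent.NagComp.Nagata
import Groth.Agent.NagComp.DenseComp

/-!
# Compactifications with divisor boundary
-/

universe u

open AlgebraicGeometry CategoryTheory Limits

set_option linter.style.haveILetI false

namespace Groth.NagComp

/-- A lift along a blow-up missing the open has image the whole preimage of the open. -/
theorem range_lift_of_blowUp {Xi Y Y' : Scheme.{u}} (o : Xi ⟶ Y) [IsOpenImmersion o] {c : Y' ⟶ Y}
    {K : Y.IdealSheafData} (hc : BlowUp.IsBlowUp c K) (hK : BlowUp.IsAdmissibleFor o.opensRange K)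
    (o' : Xi ⟶ Y') (ho : o' ≫ c = o) :
    Set.range o'.base = (c ⁻¹ᵁ o.opensRange : Set Y') := by
  haveI := BlowUpBasics.isIso_morphismRestrict hc o.opensRange hK.2
  refine Set.Subset.antisymm ?_ ?_
  · rintro _ ⟨x, rfl⟩
    show c (o' x) ∈ o.opensRange
    rw [← Scheme.Hom.comp_apply, ho]
    exact ⟨x, rfl⟩
  · rintro y ⟨x, hx⟩
    have hy' : c (o' x) ∈ o.opensRange := by
      rw [← Scheme.Hom.comp_apply, ho]
      exact ⟨x, rfl⟩
    refine ⟨x, congrArg Subtype.val ((c ∣_ o.opensRange).isOpenEmbedding.injective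
      (a₁ := ⟨o' x, hy'⟩) (a₂ := ⟨y, ⟨x, hx⟩⟩) (Subtype.ext ?_))⟩
    rw [morphismRestrict_base]
    show c (o' x) = c y
    rw [← Scheme.Hom.comp_apply, ho]
    exact hx

/-- After a blow-up the boundary of an open subscheme is an effective Cartier divisor. -/
theorem exists_divisorBoundary {X P : Scheme.{u}} [CompactSpace P] [QuasiSeparatedSpace P]
    [CompactSpace X] (j : X ⟶ P) [IsOpenImmersion j] :
    ∃ (P' : Scheme.{u}) (b : P' ⟶ P) (j' : X ⟶ P') (E : P'.IdealSheafData),
      IsProper b ∧ IsOpenImmersion j' ∧ j' ≫ b = j ∧ BlowUp.IsEffCartierIdeal E ∧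
      (E.support : Set P') = (Set.range j'.base)ᶜ := by
  obtain ⟨K, hK, hKs⟩ := FlatMorOne.exists_ftIdeal_support_eq
    ⟨(j.opensRange : Set P)ᶜ, j.opensRange.2.isClosed_compl⟩
    (show IsCompact ((j.opensRange : Set P)ᶜ)ᶜ by
      rw [compl_compl]
      exact isCompact_range j.continuous)
  have hadm : BlowUp.IsAdmissibleFor j.opensRange K := ⟨hK, by rw [hKs]; exact disjoint_compl_left⟩
  obtain ⟨P', b, hb⟩ := BlowUpBasics.exists_isBlowUp P K
  obtain ⟨j', hj', hjb⟩ := exists_lift_of_blowUp j hb hadm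
  refine ⟨P', b, j', K.comap b, HTopHyper.isProper_of_isBlowUp hb hK, hj', hjb, hb.1, ?_⟩
  rw [range_lift_of_blowUp j hb hadm j' hjb, Scheme.IdealSheafData.support_comap]
  show b.base ⁻¹' (K.support : Set P) = _
  rw [hKs]
  rfl

end Groth.NagComp
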