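import Groth.Agent.NagComp.Dense
import Groth.Agent.Divisors.EffCartierMore
import Groth.Prelude.Def_BlowUp2
import Mathlib

/-!
# Extending sections after a modification of the base

For `p : P ⟶ X` and a section `s` over an open `U`, and `b : T ⟶ X`: `Extends b p s` says that near
the first coordinate of every point of the closure of the graph of `s` in `T ×_X P` the pulled back
section extends to a morphism to `P`, with `b ⁻¹ U` scheme-theoretically dense there.
-/

universe u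

open CategoryTheory Limits AlgebraicGeometry TopologicalSpace

namespace Groth.NagComp

variable {X P T : Scheme.{u}}

/-- The graph over `b ⁻¹ U` of the pulled back section. -/
noncomputable def graph (b : T ⟶ X) (p : P ⟶ X) {U : X.Opens} (s : (U : Scheme.{u}) ⟶ P)
    (hs : s ≫ p = U.ι) : ((b ⁻¹ᵁ U : T.Opens) : Scheme.{u}) ⟶ pullback b p :=
  pullback.lift (b ⁻¹ᵁ U).ι ((b ∣_ U) ≫ s) (by rw [Category.assoc, hs, morphismRestrict_ι])

theorem graph_fst (b : T ⟶ X) (p : P ⟶ X) {U : X.Opens} (s : (U : Scheme.{u}) ⟶ P)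
    (hs : s ≫ p = U.ι) : graph b p s hs ≫ pullback.fst b p = (b ⁻¹ᵁ U).ι :=
  pullback.lift_fst _ _ _

theorem graph_snd (b : T ⟶ X) (p : P ⟶ X) {U : X.Opens} (s : (U : Scheme.{u}) ⟶ P)
    (hs : s ≫ p = U.ι) : graph b p s hs ≫ pullback.snd b p = (b ∣_ U) ≫ s :=
  pullback.lift_snd _ _ _

/-- `h : W ⟶ P` extends the pulled back section. -/
def Agree (b : T ⟶ X) {U : X.Opens} (s : (U : Scheme.{u}) ⟶ P) (W : T.Opens)
    (h : (W : Scheme.{u}) ⟶ P) : Prop :=
  T.homOfLE (inf_le_right : b ⁻¹ᵁ U ⊓ W ≤ W) ≫ h =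
    T.homOfLE (inf_le_left : b ⁻¹ᵁ U ⊓ W ≤ b ⁻¹ᵁ U) ≫ (b ∣_ U) ≫ s

/-- Extension near the first coordinate of `z`. -/
def ExtAt (b : T ⟶ X) (p : P ⟶ X) {U : X.Opens} (s : (U : Scheme.{u}) ⟶ P)
    (z : ↥(pullback b p)) : Prop :=
  ∃ W : T.Opens, pullback.fst b p z ∈ W ∧ ∃ h : (W : Scheme.{u}) ⟶ P,
    h ≫ p = W.ι ≫ b ∧ Agree b s W h ∧ SD (b ⁻¹ᵁ U) W

/-- The section extends to the closure of its graph. -/
def Extends (b : T ⟶ X) (p : P ⟶ X) {U : X.Opens} (s : (U : Scheme.{u}) ⟶ P)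
    (hs : s ≫ p = U.ι) : Prop :=
  ∀ z ∈ closure (Set.range (graph b p s hs)), ExtAt b p s z

/-- The ideal `K` makes the section extend after every modification in which it becomes invertible. -/
def Good (p : P ⟶ X) {U : X.Opens} (s : (U : Scheme.{u}) ⟶ P) (hs : s ≫ p = U.ι)
    (K : X.IdealSheafData) : Prop :=
  ∀ (T : Scheme.{u}) (b : T ⟶ X), BlowUp.IsEffCartierIdeal (K.comap b) → Extends b p s hs

theorem Good.mul_left {p : P ⟶ X} {U : X.Opens} {s : (U : Scheme.{u}) ⟶ P} {hs : s ≫ p = U.ι}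
    {K : X.IdealSheafData} (h : Good p s hs K) (M : X.IdealSheafData) : Good p s hs (M * K) :=
  fun T b hb => h T b (Divisors.isEffCartierIdeal_factors (Divisors.comap_mul M K b ▸ hb)).2

theorem Good.of_dvd {p : P ⟶ X} {U : X.Opens} {s : (U : Scheme.{u}) ⟶ P} {hs : s ≫ p = U.ι}
    {K L : X.IdealSheafData} (h : Good p s hs K) (hd : K ∣ L) : Good p s hs L := by
  obtain ⟨M, rfl⟩ := hd
  exact mul_comm M K ▸ h.mul_left M

/-- Passing to an open piece of the target. -/
theorem extAt_of_open (b : T ⟶ X) (p : P ⟶ X) [IsSeparated p] {U U' : X.Opens} (hU : U' ≤ U)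
    (s : (U : Scheme.{u}) ⟶ P) (hs : s ≫ p = U.ι) {P' : Scheme.{u}} (j : P' ⟶ P) [IsOpenImmersion j]
    (s' : (U' : Scheme.{u}) ⟶ P') (hs' : s' ≫ j ≫ p = U'.ι) (hss : s' ≫ j = X.homOfLE hU ≫ s)
    (hmem : ∀ u : U, s u ∈ Set.range j → (u : X) ∈ U')
    (hExt : Extends b (j ≫ p) s' hs') (z : ↥(pullback b p))
    (hz : z ∈ closure (Set.range (graph b p s hs))) (hzj : pullback.snd b p z ∈ Set.range j) :
    ExtAt b p s z := by
  let f := pullback.fst (pullback.snd b p) j
  obtain ⟨t, rfl⟩ : z ∈ Set.range f := by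
    rw [Scheme.Pullback.range_fst]; exact hzj
  let χ : pullback (pullback.snd b p) j ⟶ pullback b (j ≫ p) :=
    pullback.lift (f ≫ pullback.fst b p) (pullback.snd _ _) (by
      rw [Category.assoc, pullback.condition, ← pullback.condition_assoc])
  have hle : b ⁻¹ᵁ U' ≤ b ⁻¹ᵁ U := fun x hx => hU hx
  have hres : T.homOfLE hle ≫ (b ∣_ U) = (b ∣_ U') ≫ X.homOfLE hU := by
    rw [← cancel_mono U.ι]; simp
  let u0 : ((b ⁻¹ᵁ U' : T.Opens) : Scheme.{u}) ⟶ pullback (pullback.snd b p) j :=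
    pullback.lift (T.homOfLE hle ≫ graph b p s hs) ((b ∣_ U') ≫ s') (by
      rw [Category.assoc, graph_snd, Category.assoc, hss, reassoc_of% hres])
  have hu0 : u0 ≫ χ = graph b (j ≫ p) s' hs' := by
    apply pullback.hom_ext
    · rw [Category.assoc, pullback.lift_fst, pullback.lift_fst_assoc, Category.assoc, graph_fst,
        graph_fst, Scheme.homOfLE_ι]
    · rw [Category.assoc, pullback.lift_snd, pullback.lift_snd, graph_snd]
  have hu0f : u0 ≫ f = T.homOfLE hle ≫ graph b p s hs := pullback.lift_fst _ _ _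
  have hsub : f ⁻¹' Set.range (graph b p s hs) ⊆ Set.range u0 := by
    rintro a ⟨w, hw⟩
    have hwU' : b w.1 ∈ U' := by
      have hbw : ((b ∣_ U) w).1 = b w.1 := by rw [morphismRestrict_base]; rfl
      rw [← hbw]
      refine hmem _ ⟨pullback.snd (pullback.snd b p) j a, ?_⟩
      rw [← Scheme.Hom.comp_apply, ← pullback.condition, Scheme.Hom.comp_apply, ← hw,
        ← Scheme.Hom.comp_apply, graph_snd, Scheme.Hom.comp_apply]
    refine ⟨⟨w.1, hwU'⟩, f.isOpenEmbedding.injective ?_⟩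
    rw [← Scheme.Hom.comp_apply, hu0f, Scheme.Hom.comp_apply, ← hw]
    congr 1
    exact Subtype.ext (by rw [Scheme.homOfLE_apply])
  have ht : χ t ∈ closure (Set.range (graph b (j ≫ p) s' hs')) := by
    refine map_mem_closure χ.continuous
      (s := Set.range u0) ?_ (by rintro _ ⟨w, rfl⟩; exact ⟨w, congr($(hu0.symm) w)⟩)
    refine closure_mono hsub ?_
    rw [← f.isOpenEmbedding.isOpenMap.preimage_closure_eq_closure_preimage f.continuous]
    exact hz
  obtain ⟨W, hW, h', w', hag, hsd⟩ := hExt (χ t) ht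
  refine ⟨W, ?_, h' ≫ j, by rw [Category.assoc]; exact w', ?_, hsd.mono hle le_rfl⟩
  · have : (χ ≫ pullback.fst b (j ≫ p)) t = (f ≫ pullback.fst b p) t := by rw [pullback.lift_fst]
    rw [Scheme.Hom.comp_apply, Scheme.Hom.comp_apply] at this
    rw [← this]; exact hW
  · have hsd' : SD (b ⁻¹ᵁ U') (b ⁻¹ᵁ U ⊓ W) := hsd.mono le_rfl inf_le_right
    refine hsd'.hom_ext p ?_ ?_
    · simp only [Category.assoc, w', hs, morphismRestrict_ι, Scheme.homOfLE_ι_assoc]
    · have hle' : b ⁻¹ᵁ U' ⊓ (b ⁻¹ᵁ U ⊓ W) ≤ b ⁻¹ᵁ U' ⊓ W := inf_le_inf_left _ inf_le_right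
      unfold Agree at hag
      have := congrArg (fun k => T.homOfLE hle' ≫ k ≫ j) hag
      simp only [Category.assoc, Scheme.homOfLE_homOfLE_assoc, hss] at this
      simp only [Scheme.homOfLE_homOfLE_assoc]
      rw [this, ← reassoc_of% hres, Scheme.homOfLE_homOfLE_assoc]

/-- Composing modifications. -/
theorem extAt_comp {X₁ : Scheme.{u}} (g : T ⟶ X₁) (b₁ : X₁ ⟶ X) (p : P ⟶ X) {U : X.Opens}
    (s : (U : Scheme.{u}) ⟶ P) (hs : s ≫ p = U.ι)
    (z : ↥(pullback (g ≫ b₁) p))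
    (hz : z ∈ closure (Set.range (graph (g ≫ b₁) p s hs))) :
    ∃ z' ∈ closure (Set.range (graph g (pullback.fst b₁ p) (graph b₁ p s hs) (graph_fst _ _ _ _))),
      pullback.fst g (pullback.fst b₁ p) z' = pullback.fst (g ≫ b₁) p z ∧
      pullback.snd b₁ p (pullback.snd g (pullback.fst b₁ p) z') = pullback.snd (g ≫ b₁) p z ∧
      (ExtAt g (pullback.fst b₁ p) (graph b₁ p s hs) z' → ExtAt (g ≫ b₁) p s z) := by
  let inner : pullback (g ≫ b₁) p ⟶ pullback b₁ p :=
    pullback.lift (pullback.fst _ _ ≫ g) (pullback.snd _ _) (by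
      rw [Category.assoc, pullback.condition])
  let Ψ : pullback (g ≫ b₁) p ⟶ pullback g (pullback.fst b₁ p) :=
    pullback.lift (pullback.fst _ _) inner (pullback.lift_fst _ _ _).symm
  have hΨ : graph (g ≫ b₁) p s hs ≫ Ψ =
      graph g (pullback.fst b₁ p) (graph b₁ p s hs) (graph_fst _ _ _ _) := by
    apply pullback.hom_ext
    · rw [Category.assoc, pullback.lift_fst, graph_fst]
      exact (graph_fst g _ (graph b₁ p s hs) (graph_fst _ _ _ _)).symm
    · rw [Category.assoc, pullback.lift_snd]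
      refine Eq.trans ?_ (graph_snd g _ (graph b₁ p s hs) (graph_fst _ _ _ _)).symm
      apply pullback.hom_ext
      · rw [Category.assoc, pullback.lift_fst, ← Category.assoc, graph_fst]
        exact ((Category.assoc _ _ _).trans ((congrArg (_ ≫ ·) (graph_fst b₁ p s hs)).trans
          (morphismRestrict_ι g _))).symm
      · rw [Category.assoc, pullback.lift_snd, graph_snd, morphismRestrict_comp]
        exact ((Category.assoc _ _ _).trans ((congrArg (_ ≫ ·) (graph_snd b₁ p s hs)).trans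
          (Category.assoc _ _ _).symm)).symm
  refine ⟨Ψ z, map_mem_closure Ψ.continuous hz
    (by rintro _ ⟨w, rfl⟩; exact ⟨w, congr($(hΨ.symm) w)⟩), ?_, ?_, ?_⟩
  · rw [← Scheme.Hom.comp_apply, pullback.lift_fst]
  · rw [← Scheme.Hom.comp_apply, ← Scheme.Hom.comp_apply,
      show Ψ ≫ pullback.snd g (pullback.fst b₁ p) ≫ pullback.snd b₁ p = pullback.snd (g ≫ b₁) p from by
        rw [pullback.lift_snd_assoc, pullback.lift_snd]]
  · rintro ⟨W, hW, h₁, w₁, hag, hsd⟩
    refine ⟨W, ?_, h₁ ≫ pullback.snd b₁ p, ?_, ?_, hsd⟩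
    · rw [← Scheme.Hom.comp_apply, pullback.lift_fst] at hW
      exact hW
    · rw [Category.assoc, ← pullback.condition, reassoc_of% w₁]
    · unfold Agree at hag ⊢
      have := congrArg (fun k => k ≫ pullback.snd b₁ p) hag
      simp only [Category.assoc, graph_snd] at this
      rw [morphismRestrict_comp]
      exact this.trans (congrArg (_ ≫ ·) (Category.assoc _ _ _).symm)

/-- The extensions glue to one morphism with closed graph. -/
theorem Extends.exists_glue {b : T ⟶ X} {p : P ⟶ X} [IsSeparated p] {U : X.Opens}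
    {s : (U : Scheme.{u}) ⟶ P} {hs : s ≫ p = U.ι} (hE : Extends b p s hs) :
    ∃ (W : T.Opens) (hUW : b ⁻¹ᵁ U ≤ W) (h : (W : Scheme.{u}) ⟶ P) (w : W.ι ≫ b = h ≫ p),
      T.homOfLE hUW ≫ h = (b ∣_ U) ≫ s ∧ SD (b ⁻¹ᵁ U) W ∧
      IsClosedImmersion (pullback.lift W.ι h w) ∧
      Set.range (pullback.lift W.ι h w) = closure (Set.range (graph b p s hs)) := by
  choose V hV k hk hag hsd using fun z : closure (Set.range (graph b p s hs)) => hE z.1 z.2
  let W : T.Opens := ⨆ z, V z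
  have hagree : ∀ z z', T.homOfLE (inf_le_left : V z ⊓ V z' ≤ V z) ≫ k z =
      T.homOfLE (inf_le_right : V z ⊓ V z' ≤ V z') ≫ k z' := by
    intro z z'
    refine ((hsd z).mono le_rfl (inf_le_left : V z ⊓ V z' ≤ V z)).hom_ext p
      (by simp only [Category.assoc, hk, Scheme.homOfLE_ι_assoc]) ?_
    have h1 := hag z
    have h2 := hag z'
    unfold Agree at h1 h2
    have e1 := congrArg (fun q => T.homOfLE (show b ⁻¹ᵁ U ⊓ (V z ⊓ V z') ≤ b ⁻¹ᵁ U ⊓ V z from
      inf_le_inf_left _ inf_le_left) ≫ q) h1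
    have e2 := congrArg (fun q => T.homOfLE (show b ⁻¹ᵁ U ⊓ (V z ⊓ V z') ≤ b ⁻¹ᵁ U ⊓ V z' from
      inf_le_inf_left _ inf_le_right) ≫ q) h2
    simp only [Scheme.homOfLE_homOfLE_assoc] at e1 e2 ⊢
    rw [e1, e2]
  let h : (W : Scheme.{u}) ⟶ P := (Scheme.Opens.iSupOpenCover V).glueMorphisms k fun z z' => by
    let e := IsOpenImmersion.lift (V z ⊓ V z').ι
      (pullback.fst ((Scheme.Opens.iSupOpenCover V).f z) ((Scheme.Opens.iSupOpenCover V).f z') ≫
        (V z).ι) (by
      rintro _ ⟨a, rfl⟩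
      rw [Scheme.Opens.range_ι]
      refine ⟨(pullback.fst ((Scheme.Opens.iSupOpenCover V).f z) _ a).2, ?_⟩
      have hc : pullback.fst (T.homOfLE (le_iSup V z)) (T.homOfLE (le_iSup V z')) ≫ (V z).ι =
          pullback.snd (T.homOfLE (le_iSup V z)) (T.homOfLE (le_iSup V z')) ≫ (V z').ι := by
        rw [← T.homOfLE_ι (le_iSup V z), ← T.homOfLE_ι (le_iSup V z'), pullback.condition_assoc]
      rw [show (pullback.fst ((Scheme.Opens.iSupOpenCover V).f z)
        ((Scheme.Opens.iSupOpenCover V).f z') ≫ (V z).ι) a =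
        (pullback.snd (T.homOfLE (le_iSup V z)) (T.homOfLE (le_iSup V z')) ≫ (V z').ι) a from
          congr($hc a)]
      exact (pullback.snd (T.homOfLE (le_iSup V z)) (T.homOfLE (le_iSup V z')) a).2)
    have e1 : e ≫ T.homOfLE inf_le_left = pullback.fst _ _ := by
      rw [← cancel_mono (V z).ι, Category.assoc, Scheme.homOfLE_ι, IsOpenImmersion.lift_fac]
      rfl
    have e2 : e ≫ T.homOfLE inf_le_right = pullback.snd _ _ := by
      rw [← cancel_mono (V z').ι, Category.assoc, Scheme.homOfLE_ι, IsOpenImmersion.lift_fac]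
      show pullback.fst (T.homOfLE (le_iSup V z)) (T.homOfLE (le_iSup V z')) ≫ (V z).ι = _
      rw [← T.homOfLE_ι (le_iSup V z), ← T.homOfLE_ι (le_iSup V z'), pullback.condition_assoc]
      rfl
    rw [← e1, ← e2]
    exact (Category.assoc e _ _).trans ((congrArg (e ≫ ·) (hagree z z')).trans
      (Category.assoc e _ _).symm)
  have hhk : ∀ z, T.homOfLE (le_iSup V z) ≫ h = k z := fun z =>
    (Scheme.Opens.iSupOpenCover V).ι_glueMorphisms k _ z
  have hUW : b ⁻¹ᵁ U ≤ W := by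
    intro y hy
    let z : closure (Set.range (graph b p s hs)) :=
      ⟨graph b p s hs ⟨y, hy⟩, subset_closure ⟨_, rfl⟩⟩
    refine Opens.mem_iSup.mpr ⟨z, ?_⟩
    have e : pullback.fst b p z.1 = y := congr($(graph_fst b p s hs) ⟨y, hy⟩)
    rw [← e]
    exact hV z
  have w : W.ι ≫ b = h ≫ p := by
    refine Scheme.Cover.hom_ext (Scheme.Opens.iSupOpenCover V) _ _ fun z => ?_
    show T.homOfLE (le_iSup V z) ≫ W.ι ≫ b = T.homOfLE (le_iSup V z) ≫ h ≫ p
    rw [Scheme.homOfLE_ι_assoc, reassoc_of% hhk z, hk z]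
  have hsdW : SD (b ⁻¹ᵁ U) W := by
    intro O hO a ha
    refine Divisors.section_ext fun x hx => ?_
    obtain ⟨z, hxz⟩ := Opens.mem_iSup.mp (hO hx)
    rw [map_zero, ← T.presheaf.germ_res_apply (homOfLE (inf_le_left : O ⊓ V z ≤ O)) x ⟨hx, hxz⟩]
    suffices (T.presheaf.map (homOfLE (inf_le_left : O ⊓ V z ≤ O)).op).hom a = 0 by
      show (T.presheaf.germ _ x _).hom ((T.presheaf.map _).hom a) = 0
      rw [this, map_zero]
    refine hsd z _ inf_le_right _ ?_
    have := congrArg (T.presheaf.map (homOfLE (inf_le_inf_right (b ⁻¹ᵁ U)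
      (inf_le_left : O ⊓ V z ≤ O))).op).hom ha
    rw [map_zero, ← RingHom.comp_apply, ← CommRingCat.hom_comp, ← Functor.map_comp] at this
    rw [← RingHom.comp_apply, ← CommRingCat.hom_comp, ← Functor.map_comp]
    exact this
  have hhs : T.homOfLE hUW ≫ h = (b ∣_ U) ≫ s := by
    refine Scheme.Cover.hom_ext (((b ⁻¹ᵁ U : T.Opens) : Scheme.{u}).openCoverOfIsOpenCover
      (fun z => (b ⁻¹ᵁ U).ι ⁻¹ᵁ V z) ?_) _ _ fun z => ?_
    · refine IsOpenCover.mk (top_le_iff.mp fun y _ => ?_)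
      obtain ⟨z, hz⟩ := Opens.mem_iSup.mp (hUW y.2)
      exact Opens.mem_iSup.mpr ⟨z, hz⟩
    show ((b ⁻¹ᵁ U).ι ⁻¹ᵁ V z).ι ≫ T.homOfLE hUW ≫ h = ((b ⁻¹ᵁ U).ι ⁻¹ᵁ V z).ι ≫ (b ∣_ U) ≫ s
    let e := IsOpenImmersion.lift (b ⁻¹ᵁ U ⊓ V z).ι (((b ⁻¹ᵁ U).ι ⁻¹ᵁ V z).ι ≫ (b ⁻¹ᵁ U).ι) (by
      rintro _ ⟨a, rfl⟩
      rw [Scheme.Opens.range_ι]
      exact ⟨a.1.2, a.2⟩)
    have e1 : e ≫ T.homOfLE inf_le_left = ((b ⁻¹ᵁ U).ι ⁻¹ᵁ V z).ι := by
      rw [← cancel_mono (b ⁻¹ᵁ U).ι, Category.assoc, Scheme.homOfLE_ι, IsOpenImmersion.lift_fac]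
    have h1 := hag z
    unfold Agree at h1
    rw [← hhk z, Scheme.homOfLE_homOfLE_assoc] at h1
    rw [← e1, Category.assoc, Category.assoc, Scheme.homOfLE_homOfLE_assoc, h1]
  have hrange : Set.range (pullback.lift W.ι h w) = closure (Set.range (graph b p s hs)) := by
    have hfac : T.homOfLE hUW ≫ pullback.lift W.ι h w = graph b p s hs := by
      apply pullback.hom_ext
      · rw [Category.assoc, pullback.lift_fst, graph_fst, Scheme.homOfLE_ι]
      · rw [Category.assoc, pullback.lift_snd, graph_snd, hhs]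
    refine Set.Subset.antisymm ?_ ?_
    · rintro _ ⟨x, rfl⟩
      refine map_mem_closure (pullback.lift W.ι h w).continuous (s := Set.range (T.homOfLE hUW)) ?_
        (by rintro _ ⟨a, rfl⟩; exact ⟨a, congr($(hfac.symm) a)⟩)
      rw [mem_closure_iff]
      intro O hO hxO
      obtain ⟨_, ⟨y, hy, rfl⟩, hyU⟩ := hsdW.inter_nonempty (W.ι_image_le ⟨O, hO⟩)
        ⟨W.ι x, x, hxO, rfl⟩
      refine ⟨y, hy, ⟨y.1, hyU⟩, ?_⟩
      exact Subtype.ext (by rw [Scheme.homOfLE_apply])
    · intro z hz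
      let zz : closure (Set.range (graph b p s hs)) := ⟨z, hz⟩
      let O : (pullback b p).Opens := pullback.fst b p ⁻¹ᵁ V zz
      let γ : ((V zz : T.Opens) : Scheme.{u}) ⟶ (O : Scheme.{u}) :=
        IsOpenImmersion.lift O.ι (pullback.lift (V zz).ι (k zz) (hk zz).symm) (by
          rintro _ ⟨a, rfl⟩
          rw [Scheme.Opens.range_ι]
          show pullback.fst b p (pullback.lift (V zz).ι (k zz) (hk zz).symm a) ∈ V zz
          rw [← Scheme.Hom.comp_apply, pullback.lift_fst]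
          exact a.2)
      have hγ : γ ≫ (pullback.fst b p ∣_ V zz) = 𝟙 _ := by
        rw [← cancel_mono (V zz).ι, Category.assoc, morphismRestrict_ι, IsOpenImmersion.lift_fac_assoc,
          pullback.lift_fst, Category.id_comp]
      haveI : IsClosedImmersion (γ ≫ (pullback.fst b p ∣_ V zz)) := by rw [hγ]; infer_instance
      haveI : IsClosedImmersion γ := IsClosedImmersion.of_comp γ (pullback.fst b p ∣_ V zz)
      have hcl : IsClosed (Set.range γ) := γ.isClosedEmbedding.isClosed_range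
      let zO : ↥(O : Scheme.{u}) := ⟨z, hV zz⟩
      have hz' : zO ∈ closure (Set.range γ) := by
        rw [mem_closure_iff]
        intro o ho hzo
        obtain ⟨_, ⟨y, hy, rfl⟩, a, ha⟩ :=
          mem_closure_iff.mp hz _ (O.ι.isOpenEmbedding.isOpenMap o ho) ⟨zO, hzo, rfl⟩
        refine ⟨y, hy, ⟨⟨a.1, ?_⟩, ?_⟩⟩
        · have : pullback.fst b p (graph b p s hs a) = a.1 := congr($(graph_fst b p s hs) a)
          rw [← this, ha]; exact y.2
        · apply O.ι.isOpenEmbedding.injective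
          rw [← Scheme.Hom.comp_apply, IsOpenImmersion.lift_fac]
          have hm : a.1 ∈ b ⁻¹ᵁ U ⊓ V zz := ⟨a.2, by
            have : pullback.fst b p (graph b p s hs a) = a.1 := congr($(graph_fst b p s hs) a)
            rw [← this, ha]; exact y.2⟩
          have h1 := hag zz
          unfold Agree at h1
          have hq : T.homOfLE (inf_le_right : b ⁻¹ᵁ U ⊓ V zz ≤ V zz) ≫
              pullback.lift (V zz).ι (k zz) (hk zz).symm =
              T.homOfLE (inf_le_left : b ⁻¹ᵁ U ⊓ V zz ≤ b ⁻¹ᵁ U) ≫ graph b p s hs := by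
            apply pullback.hom_ext
            · simp only [Category.assoc, pullback.lift_fst, graph_fst, Scheme.homOfLE_ι]
            · simp only [Category.assoc, pullback.lift_snd, graph_snd, h1]
          refine Eq.trans ?_ ha
          have h2 := congr($hq ⟨a.1, hm⟩)
          rw [Scheme.Hom.comp_apply, Scheme.Hom.comp_apply] at h2
          rw [show T.homOfLE (inf_le_right : b ⁻¹ᵁ U ⊓ V zz ≤ V zz) ⟨a.1, hm⟩ =
            (⟨a.1, hm.2⟩ : ↥((V zz : T.Opens) : Scheme.{u})) from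
            Subtype.ext (by rw [Scheme.homOfLE_apply]),
            show T.homOfLE (inf_le_left : b ⁻¹ᵁ U ⊓ V zz ≤ b ⁻¹ᵁ U) ⟨a.1, hm⟩ = a from
            Subtype.ext (by rw [Scheme.homOfLE_apply])] at h2
          exact h2
      rw [hcl.closure_eq] at hz'
      obtain ⟨a, ha⟩ := hz'
      refine ⟨⟨a.1, le_iSup V zz a.2⟩, ?_⟩
      have hq : T.homOfLE (le_iSup V zz) ≫ pullback.lift W.ι h w =
          γ ≫ O.ι := by
        rw [IsOpenImmersion.lift_fac]
        apply pullback.hom_ext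
        · rw [Category.assoc, pullback.lift_fst, pullback.lift_fst, Scheme.homOfLE_ι]
        · simp only [Category.assoc, pullback.lift_snd]; exact hhk zz
      have := congr($hq a)
      rw [Scheme.Hom.comp_apply, Scheme.Hom.comp_apply, ha] at this
      have e : T.homOfLE (le_iSup V zz) a = ⟨a.1, le_iSup V zz a.2⟩ :=
        Subtype.ext (by rw [Scheme.homOfLE_apply])
      rw [e] at this
      exact this
  haveI : IsImmersion (pullback.lift W.ι h w ≫ pullback.fst b p) := by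
    rw [pullback.lift_fst]; infer_instance
  haveI : IsImmersion (pullback.lift W.ι h w) := IsImmersion.of_comp _ (pullback.fst b p)
  exact ⟨W, hUW, h, w, hhs, hsdW,
    IsClosedImmersion.of_isPreimmersion _ (hrange ▸ isClosed_closure), hrange⟩

end Groth.NagComp
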