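import Groth.Agent.NagComp.AffineCompletion
import Groth.Agent.LocFree.AffineHom

/-!
# Pairs of a function and a section of an invertible module agreeing on an open
-/

universe u

open CategoryTheory CategoryTheory.Limits AlgebraicGeometry Opposite TopologicalSpace

set_option backward.isDefEq.respectTransparency.types false
set_option linter.style.haveILetI false

noncomputable section

namespace Groth.NagComp.FibreSec

open Groth.PicAux Groth.PropsBasic.Ample Groth.RelTw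

/-- Linear data from a homomorphism to a direct image. -/
def linOfHom {Y S : Scheme.{u}} (f : Y ⟶ S) {E : S.Modules} {L : Y.Modules}
    (k : E ⟶ (Scheme.Modules.pushforward f).obj L) : LinData f E L where
  app U := AddMonoidHom.mk' (fun e => (k.app U e : Γ(L, f ⁻¹ᵁ U))) fun a b => map_add (k.app U).hom a b
  app_smul _ a e := k.app_smul a e
  app_res _ _ h e := Groth.QCohMod.res_app k h e

theorem surjective_appLE {W Y : Scheme.{u}} (j : W ⟶ Y) [IsOpenImmersion j] {O : Y.Opens}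
    (hO : O ≤ j.opensRange) {O' : W.Opens} (e : j ⁻¹ᵁ O = O') :
    Function.Surjective (j.appLE O O' e.ge) := by
  subst e
  haveI := j.isIso_app O hO
  rw [Scheme.Hom.appLE_eq_app]
  exact (ConcreteCategory.bijective_of_isIso (j.app O)).2

variable {W Z Y X : Scheme.{u}}

/-- Pairs of a function on `Y` and a section of `L'` on `Z` agreeing on `W`. -/
theorem exists_fibreSections (f : Y ⟶ X) [IsAffineHom f] (gg : Z ⟶ X) [QuasiCompact gg]
    [QuasiSeparated gg] (w : W ⟶ Z) [IsAffineHom w] (j : W ⟶ Y) [IsOpenImmersion j]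
    (hc : w ≫ gg = j ≫ f) {L' : Z.Modules} (hL' : PicF.IsInvertible L') (s' : Γ(L', ⊤))
    (hs : w ⁻¹ᵁ gloc s' = ⊤) :
    ∃ (H : X.Modules) (_ : H.IsQuasicoherent)
      (fst : H ⟶ (Scheme.Modules.pushforward f).obj (Coh.structureModule Y))
      (snd : H ⟶ (Scheme.Modules.pushforward gg).obj L') (h₀ : Γ(H, ⊤)),
      fst.app ⊤ h₀ = (oneSec Y ⊤ : Γ(Coh.structureModule Y, ⊤)) ∧ snd.app ⊤ h₀ = s' ∧
      (∀ (B : X.Opens), IsAffineOpen B → ∀ (e : Γ(H, B))
        (hle : w ⁻¹ᵁ (gg ⁻¹ᵁ B) ≤ j ⁻¹ᵁ (f ⁻¹ᵁ B)),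
        pullSec w L' (U := gg ⁻¹ᵁ B) (snd.app B e) =
          (j.appLE (f ⁻¹ᵁ B) (w ⁻¹ᵁ (gg ⁻¹ᵁ B)) hle).hom (toFun (fst.app B e : Γ(Coh.structureModule Y, f ⁻¹ᵁ B))) •
            res _ (le_top : w ⁻¹ᵁ (gg ⁻¹ᵁ B) ≤ ⊤) (pullSec w L' s')) ∧
      ∀ B : X.Opens, IsAffineOpen B → f ⁻¹ᵁ B ≤ j.opensRange →
        Function.Surjective (snd.app B) := by
  let L₂ := (Scheme.Modules.pullback w).obj L'
  have hL₂ : PicF.IsInvertible L₂ := isInvertible_pullback w hL'
  have : L'.IsQuasicoherent := isQCoh_of_isInvertible hL'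
  have : L₂.IsQuasicoherent := isQCoh_of_isInvertible hL₂
  have : (Coh.structureModule Y).IsQuasicoherent := (AffComp.isCoh_structure Y).1
  let t : Γ(L₂, w ⁻¹ᵁ ⊤) := pullSec w L' s'
  have ht : Gen L₂ ⊤ (res L₂ le_top t) :=
    gen_gloc (pullSec w L' s') ((gloc_pullSec w hL' s').trans hs).ge
  let G := (Scheme.Modules.pushforward f).obj (Coh.structureModule Y)
  let F := (Scheme.Modules.pushforward gg).obj L'
  let K₀ := (Scheme.Modules.pushforward w).obj L₂
  let K := (Scheme.Modules.pushforward gg).obj K₀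
  have : K₀.IsQuasicoherent := Groth.QCohMod.isQCoh_pushforward (M := L₂) w
  have : G.IsQuasicoherent := Groth.QCohMod.isQCoh_pushforward (M := Coh.structureModule Y) f
  have : F.IsQuasicoherent := Groth.QCohMod.isQCoh_pushforward (M := L') gg
  have : K.IsQuasicoherent := Groth.QCohMod.isQCoh_pushforward (M := K₀) gg
  let c : F ⟶ K :=
    (Scheme.Modules.pushforward gg).map ((Scheme.Modules.pullbackPushforwardAdjunction w).unit.app L')
  have hc' : ∀ (B : X.Opens) (l : Γ(F, B)),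
      c.app B l = (pullSec w L' (U := gg ⁻¹ᵁ B) l : Γ(L₂, w ⁻¹ᵁ (gg ⁻¹ᵁ B))) := fun B l => rfl
  have heq : ∀ B : X.Opens, j ⁻¹ᵁ (f ⁻¹ᵁ B) = w ⁻¹ᵁ (gg ⁻¹ᵁ B) := fun B =>
    (congrArg (fun q : W ⟶ X => q ⁻¹ᵁ B) hc).symm
  let av' : ∀ B : X.Opens, Γ(Coh.structureModule Y, f ⁻¹ᵁ B) → Γ(L₂, w ⁻¹ᵁ (gg ⁻¹ᵁ B)) := fun B y =>
    (j.appLE (f ⁻¹ᵁ B) (w ⁻¹ᵁ (gg ⁻¹ᵁ B)) (heq B).ge).hom (toFun y) •
      res L₂ (le_top : w ⁻¹ᵁ (gg ⁻¹ᵁ B) ≤ ⊤) t
  let av : ∀ B : X.Opens, Γ(G, B) → Γ(K, B) := fun B y => av' B y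
  have havadd : ∀ B x y, av' B (x + y) = av' B x + av' B y := fun B x y => by
    simp only [av']
    rw [← add_smul, ← map_add]
    rfl
  have havsmul : ∀ B (r : Γ(X, B)) y,
      av' B ((f.app B).hom r • y) = (w.app (gg ⁻¹ᵁ B)).hom ((gg.app B).hom r) • av' B y := fun B r y => by
    have h1 : (j.appLE (f ⁻¹ᵁ B) (w ⁻¹ᵁ (gg ⁻¹ᵁ B)) (heq B).ge).hom ((f.app B).hom r) =
        (w.app (gg ⁻¹ᵁ B)).hom ((gg.app B).hom r) := by
      rw [Scheme.Hom.app_eq_appLE w, Scheme.Hom.app_eq_appLE gg, Scheme.Hom.app_eq_appLE f,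
        ← CommRingCat.comp_apply, ← CommRingCat.comp_apply, Scheme.Hom.appLE_comp_appLE,
        Scheme.Hom.appLE_comp_appLE]
      simp only [hc]
    simp only [av']
    rw [toFun_smul, map_mul, mul_smul, h1]
  obtain ⟨a, ha⟩ := Groth.LocFree.exists_hom_of_affine (L := G) (M := K)
    (fun B _ => { toFun := av B, map_add' := fun x y => havadd B x y, map_smul' := fun r y => havsmul B r y })
    fun B B' _ _ h y => by
      show res L₂ (w.preimage_mono (gg.preimage_mono h)) (av B y) = av B' (res G h y)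
      simp only [av, av']
      rw [Groth.PicAux.res_smul, Groth.PicAux.res_res]
      congr 1
      show resX W _ _ = (j.appLE (f ⁻¹ᵁ B') _ _).hom (resX Y (f.preimage_mono h) (toFun _))
      rw [resX, resX, ← CommRingCat.comp_apply, ← CommRingCat.comp_apply,
        Scheme.Hom.appLE_map, Scheme.Hom.map_appLE]
  let D : G ⊞ F ⟶ K := biprod.fst ≫ a - biprod.snd ≫ c
  have : (G ⊞ F).IsQuasicoherent := Groth.QCohMod.isQCoh_biprod G F
  let fst : kernel D ⟶ G := kernel.ι D ≫ biprod.fst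
  let snd : kernel D ⟶ F := kernel.ι D ≫ biprod.snd
  have hcond : ∀ (B : X.Opens) (x : Γ(G ⊞ F, B)),
      D.app B x = a.app B ((biprod.fst : G ⊞ F ⟶ G).app B x) - c.app B ((biprod.snd : G ⊞ F ⟶ F).app B x) :=
    fun B x => rfl
  have hmk : ∀ (B : X.Opens) (y : Γ(G, B)) (l : Γ(F, B)), a.app B y = c.app B l →
      ∃ e : Γ(kernel D, B), fst.app B e = y ∧ snd.app B e = l := by
    intro B y l h
    let x := (biprod.inl : G ⟶ G ⊞ F).app B y + (biprod.inr : F ⟶ G ⊞ F).app B l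
    have h1 : (biprod.fst : G ⊞ F ⟶ G).app B x = y := by
      simp only [x, map_add]
      have e1 := congr(($((biprod.inl_fst : (biprod.inl : G ⟶ G ⊞ F) ≫ biprod.fst = _))).app B y)
      have e2 := congr(($((biprod.inr_fst : (biprod.inr : F ⟶ G ⊞ F) ≫ biprod.fst = _))).app B l)
      refine (congrArg₂ (· + ·) e1 e2).trans ?_
      exact add_zero y
    have h2 : (biprod.snd : G ⊞ F ⟶ F).app B x = l := by
      simp only [x, map_add]
      have e1 := congr(($((biprod.inl_snd : (biprod.inl : G ⟶ G ⊞ F) ≫ biprod.snd = _))).app B y)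
      have e2 := congr(($((biprod.inr_snd : (biprod.inr : F ⟶ G ⊞ F) ≫ biprod.snd = _))).app B l)
      refine (congrArg₂ (· + ·) e1 e2).trans ?_
      exact zero_add l
    have hx : D.app B x = 0 := by rw [hcond, h1, h2, h, sub_self]
    refine ⟨OmegaSh.kerLift D B x hx, ?_, ?_⟩
    · exact (congrArg ((biprod.fst : G ⊞ F ⟶ G).app B) (OmegaSh.ι_kerLift D B x hx)).trans h1
    · exact (congrArg ((biprod.snd : G ⊞ F ⟶ F).app B) (OmegaSh.ι_kerLift D B x hx)).trans h2
  have hker : ∀ (B : X.Opens) (e : Γ(kernel D, B)), a.app B (fst.app B e) = c.app B (snd.app B e) := by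
    intro B e
    have h := congr(($(kernel.condition D)).app B e)
    exact sub_eq_zero.1 ((hcond B _).symm.trans h)
  -- the pair `(1, s')`
  let one₀ : Coh.structureModule X ⟶ G := homOfSection (M := G) (oneSec Y ⊤ : Γ(Coh.structureModule Y, ⊤))
  let sec₀ : Coh.structureModule X ⟶ F := homOfSection (M := F) (s' : Γ(L', ⊤))
  have h₀cond : biprod.lift one₀ sec₀ ≫ D = 0 := by
    have hagree : a.app ⊤ (oneSec Y ⊤ : Γ(Coh.structureModule Y, ⊤)) = c.app ⊤ (s' : Γ(L', ⊤)) := by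
      choose B hxB _ using fun x : X => Divisors.exists_affine_le x ⊤ trivial
      refine res_ext (M := K) (fun x => (B x).1) (fun x => le_top)
        (fun x _ => Opens.mem_iSup.2 ⟨x, hxB x⟩) fun x => ?_
      rw [← app_res a, ← app_res c, ha _ (B x).2, hc']
      show av (B x).1 _ = pullSec w L' (res L' (gg.preimage_mono le_top) s')
      rw [← res_pullSec]
      simp only [av, av']
      show (j.appLE _ _ _).hom (resX Y _ 1) • _ = res L₂ _ t
      rw [resX, map_one, map_one, one_smul]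
      rfl
    rw [Preadditive.comp_sub, biprod.lift_fst_assoc, biprod.lift_snd_assoc, sub_eq_zero]
    refine hom_structure_ext ?_
    show a.app ⊤ (one₀.app ⊤ (oneSec X ⊤)) = c.app ⊤ (sec₀.app ⊤ (oneSec X ⊤))
    simp only [one₀, sec₀, homOfSection_one]
    exact hagree
  refine ⟨kernel D, inferInstance, fst, snd, (kernel.lift D _ h₀cond).app ⊤ (oneSec X ⊤), ?_, ?_, ?_, ?_⟩
  · refine Eq.trans (congr(($(show kernel.lift D _ h₀cond ≫ fst = one₀ from by
      simp [fst])).app ⊤ (oneSec X ⊤))) ?_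
    exact homOfSection_one _
  · refine Eq.trans (congr(($(show kernel.lift D _ h₀cond ≫ snd = sec₀ from by
      simp [snd])).app ⊤ (oneSec X ⊤))) ?_
    exact homOfSection_one _
  · intro B hB e hle
    exact ((hker B e).symm.trans (ha B hB _))
  · intro B hB hBV l
    obtain ⟨r, hr⟩ := ht.exists_coeff (le_top : w ⁻¹ᵁ (gg ⁻¹ᵁ B) ≤ ⊤)
      (pullSec w L' (U := gg ⁻¹ᵁ B) (l : Γ(L', gg ⁻¹ᵁ B)))
    obtain ⟨y, rfl⟩ := surjective_appLE j hBV (heq B) r
    obtain ⟨e, -, he⟩ := hmk B (y : Γ(Coh.structureModule Y, f ⁻¹ᵁ B)) l (by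
      rw [ha B hB, hc']
      refine Eq.trans ?_ hr.symm
      simp only [Groth.PicAux.res_res]
      rfl)
    exact ⟨e, he⟩

end Groth.NagComp.FibreSec
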