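import Groth.Agent.HTopHyper.PhGlue
import Mathlib

/-!
# Properness of the closure of a piece

For `a : A ⟶ M` and `b : A ⟶ Q` with `Q` proper, the closure `Γ` of the graph is proper over `Q` once
this is so over an open cover of `Q`, e.g. over opens to which a proper scheme over them with a map to
`M` extends `(a, b)`.
-/

universe u

open CategoryTheory Limits AlgebraicGeometry TopologicalSpace

set_option linter.style.haveILetI false

namespace Groth.NagComp

variable {M Q A S : Scheme.{u}} {r : M ⟶ S} {q : Q ⟶ S} {a : A ⟶ M} {b : A ⟶ Q}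

theorem isProper_graph_restrict [IsSeparated r] [LocallyOfFiniteType r] (w : a ≫ r = b ≫ q)
    [QuasiCompact (pullback.lift a b w)] (Z : Q.Opens) {Z' : Scheme.{u}}
    (π : Z' ⟶ (Z : Scheme.{u})) [IsProper π] (o : Z' ⟶ M) (ho : o ≫ r = (π ≫ Z.ι) ≫ q)
    (t : ((b ⁻¹ᵁ Z : A.Opens) : Scheme.{u}) ⟶ Z') (hto : t ≫ o = (b ⁻¹ᵁ Z).ι ≫ a)
    (htπ : t ≫ π = b ∣_ Z) :
    IsProper (((pullback.lift a b w).imageι ≫ pullback.snd r q) ∣_ Z) := by
  let s := pullback.lift a b w
  let O := pullback.snd r q ⁻¹ᵁ Z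
  let L₀ : Z' ⟶ pullback r q := pullback.lift o (π ≫ Z.ι) ho
  let L : Z' ⟶ (O : Scheme.{u}) := IsOpenImmersion.lift O.ι L₀ (by
    rintro _ ⟨x, rfl⟩
    rw [Scheme.Opens.range_ι]
    show pullback.snd r q (L₀ x) ∈ Z
    rw [← Scheme.Hom.comp_apply, pullback.lift_snd]
    exact (π x).2)
  have hL : L ≫ O.ι = L₀ := IsOpenImmersion.lift_fac _ _ _
  have hLπ : L ≫ (pullback.snd r q ∣_ Z) = π := by
    rw [← cancel_mono Z.ι, Category.assoc, morphismRestrict_ι, reassoc_of% hL, pullback.lift_snd]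
  haveI : IsProper (L ≫ (pullback.snd r q ∣_ Z)) := hLπ.symm ▸ inferInstance
  haveI : IsProper L := IsProper.of_comp L (pullback.snd r q ∣_ Z)
  have hsub : ∀ x, (s.imageι ∣_ O) x ∈ Set.range L := by
    intro x
    have hz : O.ι ((s.imageι ∣_ O) x) ∈ closure (Set.range s) := by
      rw [← Scheme.Hom.comp_apply, morphismRestrict_ι, Scheme.Hom.comp_apply]
      have h : Set.range s.imageι = closure (Set.range s) := by
        rw [Scheme.IdealSheafData.range_subschemeι, Scheme.Hom.support_ker]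
      exact h ▸ ⟨_, rfl⟩
    have h1 : O.ι ⁻¹' Set.range s ⊆ Set.range L := by
      rintro y ⟨c, hc⟩
      have hc' : c ∈ b ⁻¹ᵁ Z := by
        have e : b c = pullback.snd r q (O.ι y) := by
          rw [← hc, ← Scheme.Hom.comp_apply, pullback.lift_snd]
        show b c ∈ Z
        rw [e]
        exact y.2
      have e1 : t ≫ L₀ = (b ⁻¹ᵁ Z).ι ≫ s := by
        apply pullback.hom_ext
        · simp only [L₀, s, Category.assoc, pullback.lift_fst, hto]
        · simp only [L₀, s, Category.assoc, pullback.lift_snd, reassoc_of% htπ, morphismRestrict_ι]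
      refine ⟨t ⟨c, hc'⟩, O.ι.isOpenEmbedding.injective ?_⟩
      rw [← Scheme.Hom.comp_apply, hL, ← Scheme.Hom.comp_apply, e1]
      exact hc
    refine closure_minimal h1 L.isClosedMap.isClosed_range ?_
    rw [← O.ι.isOpenEmbedding.isOpenMap.preimage_closure_eq_closure_preimage O.ι.continuous]
    exact hz
  haveI : Surjective (pullback.snd L (s.imageι ∣_ O)) := ⟨fun x => by
    have : x ∈ Set.range (pullback.snd L (s.imageι ∣_ O)) := by
      rw [Scheme.Pullback.range_snd]; exact hsub x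
    exact this⟩
  rw [morphismRestrict_comp]
  show IsProper ((s.imageι ∣_ O) ≫ (pullback.snd r q ∣_ Z))
  haveI : UniversallyClosed
      (pullback.snd L (s.imageι ∣_ O) ≫ (s.imageι ∣_ O) ≫ (pullback.snd r q ∣_ Z)) := by
    rw [← pullback.condition_assoc, hLπ]
    infer_instance
  haveI : UniversallyClosed ((s.imageι ∣_ O) ≫ (pullback.snd r q ∣_ Z)) :=
    UniversallyClosed.of_comp_surjective (pullback.snd L (s.imageι ∣_ O)) _
  exact {}

theorem isProper_graph_restrict_comap [IsSeparated r] [LocallyOfFiniteType r] (w : a ≫ r = b ≫ q)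
    [QuasiCompact (pullback.lift a b w)] {Y : Scheme.{u}} {g : Y ⟶ S} (φ : Q ⟶ Y) (hφ : φ ≫ g = q)
    (Z₁ : Y.Opens) {Z' : Scheme.{u}} (π : Z' ⟶ (Z₁ : Scheme.{u})) (hπ : IsProper π) (o : Z' ⟶ M)
    (ho : o ≫ r = (π ≫ Z₁.ι) ≫ g)
    (t : ((b ⁻¹ᵁ (φ ⁻¹ᵁ Z₁) : A.Opens) : Scheme.{u}) ⟶ Z')
    (hto : t ≫ o = (b ⁻¹ᵁ (φ ⁻¹ᵁ Z₁)).ι ≫ a) (htπ : t ≫ π = (b ∣_ (φ ⁻¹ᵁ Z₁)) ≫ (φ ∣_ Z₁)) :
    IsProper (((pullback.lift a b w).imageι ≫ pullback.snd r q) ∣_ (φ ⁻¹ᵁ Z₁)) := by
  refine isProper_graph_restrict w (φ ⁻¹ᵁ Z₁) (pullback.snd π (φ ∣_ Z₁))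
    (pullback.fst π (φ ∣_ Z₁) ≫ o) ?_ (pullback.lift t (b ∣_ (φ ⁻¹ᵁ Z₁)) htπ) ?_
    (pullback.lift_snd _ _ _)
  · subst hφ
    simp only [Category.assoc, ho, pullback.condition_assoc, morphismRestrict_ι_assoc]
  · rw [pullback.lift_fst_assoc, hto]

theorem isProper_graph_restrict_empty [IsSeparated r] [LocallyOfFiniteType r] (w : a ≫ r = b ≫ q)
    [QuasiCompact (pullback.lift a b w)] (Z : Q.Opens) (hZ : ∀ x, b x ∉ Z) :
    IsProper (((pullback.lift a b w).imageι ≫ pullback.snd r q) ∣_ Z) := by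
  haveI : IsEmpty ↥((b ⁻¹ᵁ Z : A.Opens) : Scheme.{u}) := ⟨fun x => hZ x.1 x.2⟩
  have hI := isInitialOfIsEmpty (X := ((b ⁻¹ᵁ Z : A.Opens) : Scheme.{u}))
  exact isProper_graph_restrict w Z (initial.to (Z : Scheme.{u})) (initial.to M)
    (initialIsInitial.hom_ext _ _) (hI.to _) (hI.hom_ext _ _) (hI.hom_ext _ _)

/-- If the closed graph is proper over `Q` locally on `Q`, the piece is covered by something proper. -/
theorem exists_proper_piece [IsProper q] (w : a ≫ r = b ≫ q)
    [QuasiCompact (pullback.lift a b w)] {ι : Type*} (Z : ι → Q.Opens) (hcov : ∀ x, ∃ i, x ∈ Z i)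
    (h : ∀ i, IsProper (((pullback.lift a b w).imageι ≫ pullback.snd r q) ∣_ Z i)) :
    ∃ (R : Scheme.{u}) (ρ : R ⟶ M), IsProper (ρ ≫ r) ∧ Set.range a ⊆ Set.range ρ := by
  let s := pullback.lift a b w
  haveI : IsProper (s.imageι ≫ pullback.snd r q) :=
    IsZariskiLocalAtTarget.of_iSup_eq_top Z
      (top_le_iff.mp fun x _ => Opens.mem_iSup.mpr (hcov x)) h
  refine ⟨s.image, s.imageι ≫ pullback.fst r q, ?_, ?_⟩
  · rw [Category.assoc, pullback.condition, ← Category.assoc]
    infer_instance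
  · rintro _ ⟨x, rfl⟩
    exact ⟨s.toImage x, by
      rw [← Scheme.Hom.comp_apply, Scheme.Hom.toImage_imageι_assoc, pullback.lift_fst]⟩

/-- The scheme-theoretic image is proper if its points are covered by something proper. -/
theorem isProper_image_of_covered {X R : Scheme.{u}} (e : X ⟶ M) [QuasiCompact e] [IsSeparated r]
    [LocallyOfFiniteType r] (ρ : R ⟶ M) (hρ : IsProper (ρ ≫ r))
    (hsub : Set.range e ⊆ Set.range ρ) : IsProper (e.imageι ≫ r) := by
  haveI : IsProper ρ := IsProper.of_comp ρ r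
  haveI : Surjective (pullback.snd ρ e.imageι) := ⟨fun x => by
    have hx : e.imageι x ∈ closure (Set.range e) := by
      have h : Set.range e.imageι = closure (Set.range e) := by
        rw [Scheme.IdealSheafData.range_subschemeι, Scheme.Hom.support_ker]
      exact h ▸ ⟨_, rfl⟩
    have : x ∈ Set.range (pullback.snd ρ e.imageι) := by
      rw [Scheme.Pullback.range_snd]
      exact closure_minimal hsub ρ.isClosedMap.isClosed_range hx
    exact this⟩
  haveI : UniversallyClosed (pullback.snd ρ e.imageι ≫ e.imageι ≫ r) := by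
    rw [← pullback.condition_assoc]
    infer_instance
  haveI : UniversallyClosed (e.imageι ≫ r) :=
    UniversallyClosed.of_comp_surjective (pullback.snd ρ e.imageι) _
  exact {}

end Groth.NagComp
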