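import Groth.Agent.NagComp.Chart
import Groth.Agent.NagComp.ProperPiece

/-!
# Gluing an open piece of a chart to `X`, and the proper pieces this gives
-/

universe u

open CategoryTheory Limits AlgebraicGeometry TopologicalSpace

set_option linter.style.haveILetI false

namespace Groth.NagComp

variable {X S : Scheme.{u}} {f : X ⟶ S}

/-- Replace the proper scheme of a chart by a modification isomorphic over the open. -/
def Chart.modify {U : X.Opens} (D : Chart f U) {Y' : Scheme.{u}} (c : Y' ⟶ D.Y) [IsProper c]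
    (o' : D.Xi ⟶ Y') (ho' : IsOpenImmersion o') (hoc : o' ≫ c = D.o) : Chart f U where
  Xi := D.Xi
  Y := Y'
  g := c ≫ D.g
  o := o'
  h := D.h
  v := D.v
  proper_g := inferInstance
  openImm_o := ho'
  proper_h := D.proper_h
  openImm_v := D.openImm_v
  v_h := D.v_h
  h_f := by rw [reassoc_of% hoc]; exact D.h_f

/-- An open `Z` of a chart avoiding the closure of the part outside `U` glues to `X`. -/
theorem exists_gluedChart [CompactSpace S] [QuasiSeparatedSpace S] [IsSeparated f]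
    [LocallyOfFiniteType f] [QuasiCompact f] {U : X.Opens} (D : Chart f U) (Z : D.Y.Opens)
    (hZc : IsCompact (Z : Set D.Y)) (hZv : Set.range (D.v ≫ D.o) ⊆ Z)
    (hZ : ∀ a, D.o a ∈ Z → a ∈ Set.range D.v) :
    ∃ (G : Scheme.{u}) (gG : G ⟶ S) (jG : X ⟶ G) (ζ : (Z : Scheme.{u}) ⟶ G)
      (zU : (U : Scheme.{u}) ⟶ Z),
      IsSeparated gG ∧ LocallyOfFiniteType gG ∧ QuasiCompact gG ∧ IsOpenImmersion jG ∧
      jG ≫ gG = f ∧ ζ ≫ gG = Z.ι ≫ D.g ∧ zU ≫ Z.ι = D.v ≫ D.o ∧ U.ι ≫ jG = zU ≫ ζ := by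
  let zU : (U : Scheme.{u}) ⟶ Z := IsOpenImmersion.lift Z.ι (D.v ≫ D.o)
    (by rw [Scheme.Opens.range_ι]; exact hZv)
  have hzU : zU ≫ Z.ι = D.v ≫ D.o := IsOpenImmersion.lift_fac _ _ _
  haveI : IsOpenImmersion (zU ≫ Z.ι) := hzU.symm ▸ inferInstance
  haveI : IsOpenImmersion zU := IsOpenImmersion.of_comp zU Z.ι
  have hc : U.ι ≫ f = zU ≫ Z.ι ≫ D.g := by
    rw [reassoc_of% hzU, ← D.v_h, Category.assoc, D.h_f]
  have hcl : IsClosed (Set.range (pullback.lift U.ι zU hc)) := by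
    let γ : D.Xi ⟶ pullback f D.g := pullback.lift D.h D.o D.h_f
    haveI : IsProper (γ ≫ pullback.fst f D.g) := by rw [pullback.lift_fst]; infer_instance
    haveI : IsProper γ := IsProper.of_comp γ (pullback.fst f D.g)
    let m : pullback f (Z.ι ≫ D.g) ⟶ pullback f D.g :=
      pullback.map _ _ _ _ (𝟙 X) Z.ι (𝟙 S) (by simp) (by simp)
    have hm : pullback.lift U.ι zU hc ≫ m = D.v ≫ γ := by
      apply pullback.hom_ext
      · simp only [m, γ, Category.assoc, pullback.lift_fst, pullback.lift_fst_assoc, Category.comp_id,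
          D.v_h]
      · simp only [m, γ, Category.assoc, pullback.lift_snd, pullback.lift_snd_assoc, hzU]
    refine isClosed_of_closure_subset fun z hz => ?_
    have hmz : m z ∈ Set.range γ := by
      refine closure_minimal ?_ γ.isClosedMap.isClosed_range
        (map_mem_closure m.continuous hz (t := Set.range γ) ?_)
      · exact subset_rfl
      · rintro _ ⟨x, rfl⟩
        exact ⟨D.v x, congr($(hm.symm) x)⟩
    obtain ⟨a, ha⟩ := hmz
    have hoa : D.o a = Z.ι (pullback.snd f (Z.ι ≫ D.g) z) := by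
      have e := congrArg (pullback.snd f D.g) ha
      rw [← Scheme.Hom.comp_apply, ← Scheme.Hom.comp_apply, pullback.lift_snd,
        show m ≫ pullback.snd f D.g = pullback.snd f (Z.ι ≫ D.g) ≫ Z.ι from pullback.lift_snd _ _ _,
        Scheme.Hom.comp_apply] at e
      exact e
    obtain ⟨x, rfl⟩ := hZ a (hoa ▸ (pullback.snd f (Z.ι ≫ D.g) z).2)
    refine ⟨x, m.isOpenEmbedding.injective ?_⟩
    rw [← Scheme.Hom.comp_apply, hm]
    exact ha
  let gG := pushout.desc f (Z.ι ≫ D.g) hc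
  haveI : CompactSpace X := QuasiCompact.compactSpace_of_compactSpace f
  haveI : CompactSpace (Z : Scheme.{u}) := isCompact_iff_compactSpace.mp hZc
  haveI : QuasiSeparatedSpace D.Y := quasiSeparatedSpace_of_quasiSeparated D.g
  haveI : IsSeparated gG := LocImmersion.isSeparated_pushout U.ι zU _ _ hc hcl
  have hcov := LocImmersion.mem_range_inl_or_inr U.ι zU
  haveI : LocallyOfFiniteType gG := by
    refine IsZariskiLocalAtSource.of_openCover (LocImmersion.coverTwo (pushout.inl U.ι zU)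
      (pushout.inr U.ι zU) hcov) fun i => ?_
    rcases i with ⟨_ | _⟩
    · show LocallyOfFiniteType (pushout.inr U.ι zU ≫ gG)
      rw [pushout.inr_desc]; infer_instance
    · show LocallyOfFiniteType (pushout.inl U.ι zU ≫ gG)
      rw [pushout.inl_desc]; infer_instance
  haveI : CompactSpace ↥(pushout U.ι zU) := by
    refine ⟨?_⟩
    rw [show (Set.univ : Set ↥(pushout U.ι zU)) =
        Set.range (pushout.inl U.ι zU) ∪ Set.range (pushout.inr U.ι zU) from
      (Set.eq_univ_of_forall hcov).symm]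
    exact (isCompact_range (pushout.inl U.ι zU).continuous).union
      (isCompact_range (pushout.inr U.ι zU).continuous)
  exact ⟨pushout U.ι zU, gG, pushout.inl _ _, pushout.inr _ _, zU, inferInstance, inferInstance,
    quasiCompact_of_compactSpace gG, inferInstance, pushout.inl_desc _ _ _, pushout.inr_desc _ _ _,
    hzU, pushout.condition⟩

/-- The proper scheme over `Z` mapping to `M` obtained from a modification of the glued chart. -/
theorem exists_cover_piece {U : X.Opens} {D : Chart f U} {Z : D.Y.Opens} {G G' M : Scheme.{u}}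
    {gG : G ⟶ S} {jG : X ⟶ G} {ζ : (Z : Scheme.{u}) ⟶ G} {zU : (U : Scheme.{u}) ⟶ Z}
    (hζ : ζ ≫ gG = Z.ι ≫ D.g) (hzζ : U.ι ≫ jG = zU ≫ ζ) {r : M ⟶ S} {b : G' ⟶ G} [IsProper b]
    {o : G' ⟶ M} {u : X ⟶ G'} {e : X ⟶ M} (hor : o ≫ r = b ≫ gG) (hub : u ≫ b = jG)
    (huo : u ≫ o = e) :
    ∃ (Z' : Scheme.{u}) (π : Z' ⟶ (Z : Scheme.{u})) (o' : Z' ⟶ M) (τ : (U : Scheme.{u}) ⟶ Z'),
      IsProper π ∧ o' ≫ r = (π ≫ Z.ι) ≫ D.g ∧ τ ≫ o' = U.ι ≫ e ∧ τ ≫ π = zU := by
  refine ⟨pullback ζ b, pullback.fst ζ b, pullback.snd ζ b ≫ o,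
    pullback.lift zU (U.ι ≫ u) (by rw [← hzζ, Category.assoc, hub]), inferInstance, ?_,
    by rw [pullback.lift_snd_assoc, Category.assoc, huo], pullback.lift_fst _ _ _⟩
  rw [Category.assoc, hor, ← pullback.condition_assoc, hζ, Category.assoc]

/-- The closed set `T` of `U` gives a proper piece. -/
theorem exists_proper_piece_closed [CompactSpace S] [QuasiSeparatedSpace S] {U : X.Opens}
    (hU : IsCompact (U : Set X)) {D : Chart f U} {Z : D.Y.Opens} {zU : (U : Scheme.{u}) ⟶ Z}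
    (hzU : zU ≫ Z.ι = D.v ≫ D.o) {M : Scheme.{u}} {r : M ⟶ S} [IsSeparated r]
    [LocallyOfFiniteType r] {e : X ⟶ M} (her : e ≫ r = f) {Z' : Scheme.{u}}
    (π : Z' ⟶ (Z : Scheme.{u})) [IsProper π] (o' : Z' ⟶ M) (τ : (U : Scheme.{u}) ⟶ Z')
    (ho' : o' ≫ r = (π ≫ Z.ι) ≫ D.g) (hτo : τ ≫ o' = U.ι ≫ e) (hτπ : τ ≫ π = zU)
    (T : Set (U : Scheme.{u})) (hT : IsClosed T)
    (hTZ : closure ((fun x => (D.v ≫ D.o) x) '' T) ⊆ Z) :
    ∃ (R : Scheme.{u}) (ρ : R ⟶ M), IsProper (ρ ≫ r) ∧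
      (fun x => (U.ι ≫ e) x) '' T ⊆ Set.range ρ := by
  let I := Scheme.IdealSheafData.vanishingIdeal (X := (U : Scheme.{u})) ⟨T, hT⟩
  have hI : Set.range I.subschemeι = T := by
    rw [Scheme.IdealSheafData.range_subschemeι]
    exact Scheme.IdealSheafData.coe_support_vanishingIdeal _
  let a : I.subscheme ⟶ M := I.subschemeι ≫ U.ι ≫ e
  let b : I.subscheme ⟶ D.Y := I.subschemeι ≫ D.v ≫ D.o
  have w : a ≫ r = b ≫ D.g := by
    simp only [a, b, Category.assoc, her, ← D.h_f, reassoc_of% D.v_h]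
  haveI : CompactSpace (U : Scheme.{u}) := isCompact_iff_compactSpace.mp hU
  haveI : CompactSpace I.subscheme := QuasiCompact.compactSpace_of_compactSpace I.subschemeι
  haveI : QuasiSeparatedSpace M := quasiSeparatedSpace_of_quasiSeparated r
  haveI : QuasiSeparatedSpace ↥(pullback r D.g) :=
    quasiSeparatedSpace_of_quasiSeparated (pullback.fst r D.g)
  haveI : QuasiCompact (pullback.lift a b w) := quasiCompact_of_compactSpace _
  let Zs : Bool → D.Y.Opens := fun i =>
    if i then Z else ⟨(closure (Set.range b))ᶜ, isClosed_closure.isOpen_compl⟩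
  have hcovZ : ∀ y : D.Y, ∃ i, y ∈ Zs i := by
    intro y
    by_cases hy : y ∈ closure (Set.range b)
    · refine ⟨true, hTZ (closure_mono ?_ hy)⟩
      rintro _ ⟨x, rfl⟩
      exact ⟨I.subschemeι x, hI.le ⟨x, rfl⟩, (Scheme.Hom.comp_apply _ _ _).symm⟩
    · exact ⟨false, hy⟩
  have hprop : ∀ i, IsProper (((pullback.lift a b w).imageι ≫ pullback.snd r D.g) ∣_ Zs i) := by
    intro i
    cases i
    · exact isProper_graph_restrict_empty w _ fun x hx => hx (subset_closure ⟨x, rfl⟩)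
    · refine isProper_graph_restrict w Z π o' ho' ((b ⁻¹ᵁ Z).ι ≫ I.subschemeι ≫ τ) ?_ ?_
      · simp only [a, Category.assoc, hτo]
      · rw [← cancel_mono Z.ι]
        simp only [Category.assoc, morphismRestrict_ι, reassoc_of% hτπ, hzU]
        rfl
  obtain ⟨R, ρ, hR, hsub⟩ := exists_proper_piece w Zs hcovZ hprop
  refine ⟨R, ρ, hR, ?_⟩
  rintro _ ⟨x, hx, rfl⟩
  obtain ⟨x', rfl⟩ := hI.ge hx
  exact hsub ⟨x', Scheme.Hom.comp_apply _ _ _⟩

end Groth.NagComp
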