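import Groth.Agent.BlowUpBasics.StrictTransform
import Mathlib.AlgebraicGeometry.Morphisms.SchemeTheoreticallyDominant

/-!
# The scheme-theoretic image over an open
-/

universe u

open CategoryTheory Limits AlgebraicGeometry TopologicalSpace

set_option linter.style.haveILetI false

namespace Groth.NagComp

/-- Over an open `O`, the image of `r` is any closed subscheme through which `r` factors
scheme-theoretically dominantly. -/
theorem exists_image_restrict {Y P Z W : Scheme.{u}} (r : Y ⟶ P) [QuasiCompact r] (O : P.Opens)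
    (k : Z ⟶ O) [IsClosedImmersion k] (j : W ⟶ Y) [IsOpenImmersion j]
    (hj : j.opensRange = r ⁻¹ᵁ O) (w : W ⟶ Z) [IsSchemeTheoreticallyDominant w]
    (h : j ≫ r = w ≫ k ≫ O.ι) :
    ∃ ρ : Z ⟶ r.image, IsOpenImmersion ρ ∧ Set.range ρ = (r.imageι ⁻¹ᵁ O : Set r.image) ∧
      ρ ≫ r.imageι = k ≫ O.ι ∧ w ≫ ρ = j ≫ r.toImage := by
  haveI : IsSchemeTheoreticallyDominant r.toImage :=
    BlowUpBasics.isSchemeTheoreticallyDominant_toImage r
  let Q := r.imageι ⁻¹ᵁ O
  have hpre : r.toImage ⁻¹ᵁ Q = r ⁻¹ᵁ O := by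
    rw [← Scheme.Hom.comp_preimage, r.toImage_imageι]
  let τ : W ⟶ (Q : Scheme.{u}) := IsOpenImmersion.lift Q.ι (j ≫ r.toImage) (by
    rintro _ ⟨x, rfl⟩
    rw [Scheme.Opens.range_ι]
    show j x ∈ r.toImage ⁻¹ᵁ Q
    rw [hpre, ← hj]
    exact ⟨x, rfl⟩)
  have hτ : τ ≫ Q.ι = j ≫ r.toImage := IsOpenImmersion.lift_fac _ _ _
  have H : IsPullback τ j Q.ι r.toImage :=
    IsOpenImmersion.isPullback τ j Q.ι r.toImage hτ.symm (by
      rw [Scheme.Opens.opensRange_ι, hpre, hj])
  haveI : IsSchemeTheoreticallyDominant τ := IsSchemeTheoreticallyDominant.of_isPullback H.flip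
  let q : (Q : Scheme.{u}) ⟶ (O : Scheme.{u}) := r.imageι ∣_ O
  have hτq : τ ≫ q = w ≫ k := by
    rw [← cancel_mono O.ι, Category.assoc, morphismRestrict_ι, reassoc_of% hτ,
      r.toImage_imageι, h, Category.assoc]
  haveI : IsClosedImmersion q := IsZariskiLocalAtTarget.restrict (inferInstance : IsClosedImmersion r.imageι) O
  have hker : q.ker = k.ker := by
    calc q.ker = (τ ≫ q).ker := by rw [Scheme.Hom.ker_comp, τ.ker_eq_bot, Scheme.IdealSheafData.map_bot]
      _ = k.ker := by rw [hτq, Scheme.Hom.ker_comp, w.ker_eq_bot, Scheme.IdealSheafData.map_bot]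
  haveI := IsClosedImmersion.isIso_lift q k hker
  let l : Z ⟶ (Q : Scheme.{u}) := IsClosedImmersion.lift q k hker.le
  have hl : l ≫ q = k := IsClosedImmersion.lift_fac _ _ _
  refine ⟨l ≫ Q.ι, inferInstance, ?_, ?_, ?_⟩
  · rw [Scheme.Hom.comp_base, TopCat.coe_comp, Set.range_comp,
      (show Function.Surjective l from l.surjective).range_eq, Set.image_univ, Scheme.Opens.range_ι]
  · rw [Category.assoc, ← morphismRestrict_ι, reassoc_of% hl]
  · rw [← Category.assoc, show w ≫ l = τ from by rw [← cancel_mono q, Category.assoc, hl, hτq], hτ]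

end Groth.NagComp
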