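import Groth.Agent.NagComp.DenseComp
import Groth.Agent.NagComp.GlueChart

/-!
# Compactifications which are isomorphic to the base over a given open
-/

universe u

open AlgebraicGeometry CategoryTheory Limits TopologicalSpace

set_option linter.style.haveILetI false

namespace Groth.NagComp

/-- If `p : Y ⟶ B` is an open immersion over the quasi-compact open `U` then it has a compactification
which is an isomorphism over `U`. -/
theorem exists_compactification_iso_over {Y B : Scheme.{u}} [CompactSpace B] [QuasiSeparatedSpace B]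
    (p : Y ⟶ B) [IsSeparated p] [LocallyOfFiniteType p] [QuasiCompact p] (U : B.Opens)
    (hU : IsCompact (U : Set B)) [IsOpenImmersion (p ∣_ U)] :
    ∃ (Yb : Scheme.{u}) (π : Yb ⟶ B) (e : Y ⟶ Yb),
      IsProper π ∧ IsOpenImmersion e ∧ e ≫ π = p ∧ IsIso (π ∣_ U) := by
  let H : IsPullback (p ⁻¹ᵁ U).ι (p ∣_ U) p U.ι := (isPullback_morphismRestrict p U).flip
  haveI : CompactSpace (U : Scheme.{u}) := isCompact_iff_compactSpace.mp hU
  have hcl : IsClosed (Set.range (pullback.lift (p ⁻¹ᵁ U).ι (p ∣_ U) H.w)) := by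
    have : pullback.lift (p ⁻¹ᵁ U).ι (p ∣_ U) H.w = H.isoPullback.hom := by
      apply pullback.hom_ext
      · exact (pullback.lift_fst _ _ _).trans H.isoPullback_hom_fst.symm
      · exact (pullback.lift_snd _ _ _).trans H.isoPullback_hom_snd.symm
    rw [this, Set.range_eq_univ.mpr H.isoPullback.hom.surjective]
    exact isClosed_univ
  let gZ := pushout.desc p U.ι H.w
  haveI : CompactSpace Y := QuasiCompact.compactSpace_of_compactSpace p
  haveI : IsSeparated gZ :=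
    LocImmersion.isSeparated_pushout (p ⁻¹ᵁ U).ι (p ∣_ U) p U.ι H.w hcl
  have hcov := LocImmersion.mem_range_inl_or_inr (p ⁻¹ᵁ U).ι (p ∣_ U)
  haveI : LocallyOfFiniteType gZ := by
    refine IsZariskiLocalAtSource.of_openCover
      (LocImmersion.coverTwo (pushout.inl (p ⁻¹ᵁ U).ι (p ∣_ U)) (pushout.inr _ _) hcov) fun i => ?_
    rcases i with ⟨_ | _⟩
    · show LocallyOfFiniteType (pushout.inr (p ⁻¹ᵁ U).ι (p ∣_ U) ≫ gZ)
      rw [pushout.inr_desc]; infer_instance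
    · show LocallyOfFiniteType (pushout.inl (p ⁻¹ᵁ U).ι (p ∣_ U) ≫ gZ)
      rw [pushout.inl_desc]; infer_instance
  haveI : CompactSpace ↥(pushout (p ⁻¹ᵁ U).ι (p ∣_ U)) := by
    refine ⟨?_⟩
    rw [show (Set.univ : Set ↥(pushout (p ⁻¹ᵁ U).ι (p ∣_ U))) =
        Set.range (pushout.inl (p ⁻¹ᵁ U).ι (p ∣_ U)) ∪ Set.range (pushout.inr (p ⁻¹ᵁ U).ι (p ∣_ U)) from
      (Set.eq_univ_of_forall hcov).symm]
    exact (isCompact_range (pushout.inl (p ⁻¹ᵁ U).ι (p ∣_ U)).continuous).union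
      (isCompact_range (pushout.inr (p ⁻¹ᵁ U).ι (p ∣_ U)).continuous)
  haveI : QuasiCompact gZ := quasiCompact_of_compactSpace gZ
  obtain ⟨Yb, j, g, -, hj, -, -, hd, hg, hjg, -, -⟩ :=
    exists_compactification_over gZ (𝟙 B) gZ (Category.comp_id gZ)
  let iU : (U : Scheme.{u}) ⟶ Yb := pushout.inr (p ⁻¹ᵁ U).ι (p ∣_ U) ≫ j
  have hiU : iU ≫ g = U.ι := by rw [Category.assoc, hjg, pushout.inr_desc]
  let τ : (U : Scheme.{u}) ⟶ (g ⁻¹ᵁ U : Yb.Opens) := IsOpenImmersion.lift (g ⁻¹ᵁ U).ι iU (by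
    rintro _ ⟨x, rfl⟩
    rw [Scheme.Opens.range_ι]
    show g (iU x) ∈ U
    rw [← Scheme.Hom.comp_apply, hiU]
    exact x.2)
  have hτ : τ ≫ (g ⁻¹ᵁ U).ι = iU := IsOpenImmersion.lift_fac _ _ _
  have hτg : τ ≫ (g ∣_ U) = 𝟙 _ := by
    rw [← cancel_mono U.ι, Category.assoc, morphismRestrict_ι, reassoc_of% hτ, hiU, Category.id_comp]
  haveI : IsOpenImmersion (τ ≫ (g ⁻¹ᵁ U).ι) := hτ.symm ▸ inferInstance
  haveI : IsOpenImmersion τ := IsOpenImmersion.of_comp τ (g ⁻¹ᵁ U).ι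
  haveI : IsClosedImmersion (τ ≫ (g ∣_ U)) := by rw [hτg]; infer_instance
  haveI : IsClosedImmersion τ := IsClosedImmersion.of_comp τ (g ∣_ U)
  haveI : Surjective τ := ⟨fun y => by
    by_contra hy
    have hO : IsOpen ((g ⁻¹ᵁ U).ι '' (Set.range τ)ᶜ) :=
      (g ⁻¹ᵁ U).ι.isOpenEmbedding.isOpenMap _ τ.isClosedEmbedding.isClosed_range.isOpen_compl
    obtain ⟨z, ⟨w, hw, hwz⟩⟩ := hd.denseRange.exists_mem_open hO ⟨_, y, hy, rfl⟩
    have hzU : gZ z ∈ U := by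
      rw [← hjg, Scheme.Hom.comp_apply, ← hwz]
      exact w.2
    obtain ⟨v, rfl⟩ : z ∈ Set.range (pushout.inr (p ⁻¹ᵁ U).ι (p ∣_ U)) := by
      rcases hcov z with ⟨a, rfl⟩ | h
      · rw [← Scheme.Hom.comp_apply, pushout.inl_desc] at hzU
        refine ⟨(p ∣_ U) ⟨a, hzU⟩, ?_⟩
        exact (congr($(pushout.condition (f := (p ⁻¹ᵁ U).ι) (g := (p ∣_ U))) ⟨a, hzU⟩)).symm
      · exact h
    refine hw ⟨v, (g ⁻¹ᵁ U).ι.isOpenEmbedding.injective ?_⟩
    rw [← Scheme.Hom.comp_apply, hτ, hwz]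
    rfl⟩
  haveI : IsIso τ := (isIso_iff_isOpenImmersion_and_epi_base _).mpr
    ⟨inferInstance, (TopCat.epi_iff_surjective _).mpr τ.surjective⟩
  haveI : IsIso (τ ≫ (g ∣_ U)) := by rw [hτg]; infer_instance
  exact ⟨Yb, g, pushout.inl _ _ ≫ j, hg, inferInstance, by rw [Category.assoc, hjg, pushout.inl_desc],
    IsIso.of_isIso_comp_left τ (g ∣_ U)⟩

end Groth.NagComp
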