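import Groth.Agent.NagComp.LocFreeExtend
import Groth.Agent.NagComp.DivisorBoundary
import Groth.Agent.S13987
import Groth.Agent.LocFree.Basic

/-!
# Locally free modules on compactifications
-/

set_option autoImplicit false
set_option linter.style.haveILetI false
universe u v

open CategoryTheory CategoryTheory.Limits AlgebraicGeometry TopologicalSpace

namespace Groth.NagComp.LocFreeExt

variable {X P : Scheme.{u}}

theorem preservesFiniteLimits_pullback (j : X ⟶ P) [IsOpenImmersion j] :
    PreservesFiniteLimits (Scheme.Modules.pullback j) :=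
  haveI := Groth.CohBase.preservesFiniteLimits_restrictFunctor j
  preservesFiniteLimits_of_natIso (Scheme.Modules.restrictFunctorIsoPullback j)

/-- Vanishing of a pulled back map only depends on the range of the open immersion. -/
theorem restrict_map_eq_zero (j : X ⟶ P) [IsOpenImmersion j] {A B : P.Modules} (φ : A ⟶ B)
    (h : (Scheme.Modules.pullback j).map φ = 0) :
    (Scheme.Modules.restrictFunctor j.opensRange.ι).map φ = 0 := by
  let F := Scheme.Modules.pullback j ⋙ Scheme.Modules.pullback j.isoOpensRange.inv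
  let e : F ≅ Scheme.Modules.restrictFunctor j.opensRange.ι :=
    Scheme.Modules.pullbackComp j.isoOpensRange.inv j ≪≫
      Scheme.Modules.pullbackCongr j.isoOpensRange_inv_comp ≪≫
      (Scheme.Modules.restrictFunctorIsoPullback j.opensRange.ι).symm
  have h0 : F.map φ = 0 := by
    simp only [F, Functor.comp_map, h, Functor.map_zero]
  rw [← cancel_epi (e.hom.app A), ← e.hom.naturality, h0, Limits.zero_comp, Limits.comp_zero]

theorem isIso_pullback_map (j : X ⟶ P) [IsOpenImmersion j] (O : P.Opens) (hO : Set.range j ⊆ O)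
    {A B : P.Modules} (φ : A ⟶ B) [IsIso ((Scheme.Modules.restrictFunctor O.ι).map φ)] :
    IsIso ((Scheme.Modules.pullback j).map φ) := by
  have hl : Set.range j ⊆ Set.range O.ι := by rwa [Scheme.Opens.range_ι]
  haveI : IsIso ((Scheme.Modules.pullback O.ι).map φ) :=
    (NatIso.isIso_map_iff (Scheme.Modules.restrictFunctorIsoPullback O.ι) φ).mp inferInstance
  haveI : IsIso ((Scheme.Modules.pullback O.ι ⋙
      Scheme.Modules.pullback (IsOpenImmersion.lift O.ι j hl)).map φ) :=
    Functor.map_isIso (Scheme.Modules.pullback (IsOpenImmersion.lift O.ι j hl))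
      ((Scheme.Modules.pullback O.ι).map φ)
  exact (NatIso.isIso_map_iff (Scheme.Modules.pullbackComp (IsOpenImmersion.lift O.ι j hl) O.ι ≪≫
    Scheme.Modules.pullbackCongr (IsOpenImmersion.lift_fac O.ι j hl)) φ).mp inferInstance

/-- A module which pulls back to a locally free one is locally free on the range. -/
theorem isFinLocFree_restrict_range (j : X ⟶ P) [IsOpenImmersion j] (M : P.Modules)
    (h : FlatMod.IsFinLocFree ((Scheme.Modules.pullback j).obj M)) :
    FlatMod.IsFinLocFree (M.restrict j.opensRange.ι) :=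
  Groth.KTheory.LocFree.isFinLocFree_of_iso
    ((Scheme.Modules.pullbackComp j.isoOpensRange.inv j).app M ≪≫
      (Scheme.Modules.pullbackCongr j.isoOpensRange_inv_comp).app M ≪≫
      ((Scheme.Modules.restrictFunctorIsoPullback j.opensRange.ι).app M).symm)
    (Groth.LocFree.isFinLocFree_pullback j.isoOpensRange.inv h)

/-- A locally free module on an open extends to a coherent module. -/
theorem exists_coh_extension [AlgebraicGeometry.IsNoetherian P] (j : X ⟶ P) [IsOpenImmersion j]
    (E : X.Modules) (hE : FlatMod.IsFinLocFree E) :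
    ∃ M : P.Modules, Coh.IsCoh M ∧ Nonempty ((Scheme.Modules.pullback j).obj M ≅ E) := by
  obtain ⟨M, hM, ⟨e⟩⟩ := Groth.Agent.S13987.exists_ext j.opensRange
    ((Scheme.Modules.pullback j.isoOpensRange.inv).obj E)
    (Groth.KTheory.LocFree.isCoh (Groth.LocFree.isFinLocFree_pullback _ hE))
  refine ⟨M, hM, ⟨(Scheme.Modules.pullbackCongr j.isoOpensRange_hom_ι).symm.app M ≪≫
    ((Scheme.Modules.pullbackComp j.isoOpensRange.hom j.opensRange.ι).app M).symm ≪≫
    (Scheme.Modules.pullback j.isoOpensRange.hom).mapIso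
      (((Scheme.Modules.restrictFunctorIsoPullback j.opensRange.ι).app M).symm ≪≫ e) ≪≫
    (Scheme.Modules.pullbackComp j.isoOpensRange.hom j.isoOpensRange.inv).app E ≪≫
    (Scheme.Modules.pullbackCongr j.isoOpensRange.hom_inv_id).app E ≪≫
    (Scheme.Modules.pullbackId X).app E⟩⟩

/-- Schematic density of an open with divisor boundary. -/
theorem isSchemeTheoreticallyDominant_of_boundary (j : X ⟶ P) [IsOpenImmersion j]
    {E : P.IdealSheafData} (hE : BlowUp.IsEffCartierIdeal E)
    (hs : (E.support : Set P) = (Set.range j.base)ᶜ) : IsSchemeTheoreticallyDominant j := by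
  have e : j.opensRange = Divisors.complOpens E := TopologicalSpace.Opens.ext (by
    show Set.range j.base = (E.support : Set P)ᶜ
    rw [hs, compl_compl])
  haveI : IsSchemeTheoreticallyDominant j.opensRange.ι := e ▸ Divisors.compl_dominant hE
  rw [← j.isoOpensRange_hom_ι]
  infer_instance

/-- A map to a locally free module vanishing away from a divisor is zero. -/
theorem eq_zero_of_pullback_eq_zero [AlgebraicGeometry.IsNoetherian P] (j : X ⟶ P) [IsOpenImmersion j]
    {E : P.IdealSheafData} (hE : BlowUp.IsEffCartierIdeal E)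
    (hs : (E.support : Set P) = (Set.range j.base)ᶜ) {A B : P.Modules} (hB : FlatMod.IsFinLocFree B)
    (φ : A ⟶ B) (h : (Scheme.Modules.pullback j).map φ = 0) : φ = 0 := by
  haveI := mono_unit hE (U' := j.opensRange) hs B hB
  have hnat : φ ≫ unitMap j.opensRange B = unitMap j.opensRange A ≫
      (Scheme.Modules.pushforward j.opensRange.ι).map
        ((Scheme.Modules.restrictFunctor j.opensRange.ι).map φ) :=
    (Scheme.Modules.restrictAdjunction j.opensRange.ι).unit.naturality φ
  rw [restrict_map_eq_zero j φ h, Functor.map_zero, Limits.comp_zero] at hnat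
  exact Limits.zero_of_comp_mono (unitMap j.opensRange B) hnat

/-- One admissible blow-up makes finitely many modules, locally free on `X`, locally free, and the
boundary a divisor. -/
theorem exists_blowUp_locFree [AlgebraicGeometry.IsNoetherian P] (j : X ⟶ P) [IsOpenImmersion j]
    {ι : Type v} [Finite ι] (M : ι → P.Modules) (hM : ∀ i, Coh.IsCoh (M i))
    (hfree : ∀ i, FlatMod.IsFinLocFree ((Scheme.Modules.pullback j).obj (M i))) :
    ∃ (P' : Scheme.{u}) (b : P' ⟶ P) (j' : X ⟶ P') (E : P'.IdealSheafData),
      IsProper b ∧ AlgebraicGeometry.IsNoetherian P' ∧ IsOpenImmersion j' ∧ j' ≫ b = j ∧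
      BlowUp.IsEffCartierIdeal E ∧ (E.support : Set P') = (Set.range j'.base)ᶜ ∧
      Set.range j'.base = (b ⁻¹ᵁ j.opensRange : Set P') ∧ IsIso (b ∣_ j.opensRange) ∧
      (∃ K : P.IdealSheafData, BlowUp.IsBlowUp b K ∧ BlowUp.IsAdmissibleFor j.opensRange K) ∧
      ∀ i, ∃ (G : P'.Modules) (π : (Scheme.Modules.pullback b).obj (M i) ⟶ G),
        FlatMod.IsFinLocFree G ∧ Epi π ∧ IsIso ((Scheme.Modules.pullback j').map π) := by
  classical
  haveI := Fintype.ofFinite ι
  let U := j.opensRange
  have hfree' := fun i => isFinLocFree_restrict_range j (M i) (hfree i)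
  choose s hs using fun i => exists_ranks (U := U) (hfree' i)
  have hadm : ∀ i, BlowUp.IsAdmissibleFor U (centre U (M i) (s i)) := fun i =>
    haveI := (hM i).1
    isAdmissibleFor_centre (hM i).2 (s i) (hs i)
  obtain ⟨N, hN, hNs⟩ := FlatMorOne.exists_ftIdeal_support_eq
    ⟨(U : Set P)ᶜ, U.2.isClosed_compl⟩ (TopologicalSpace.NoetherianSpace.isCompact _)
  let K := N * ∏ i, centre U (M i) (s i)
  have hK : BlowUp.IsAdmissibleFor U K := RefRank.isAdmissibleFor_mul
    ⟨hN, by rw [hNs]; exact disjoint_compl_left⟩ (RefRank.isAdmissibleFor_prod _ _ fun i _ => hadm i)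
  have hKs : (K.support : Set P) = (U : Set P)ᶜ := by
    refine Set.Subset.antisymm (fun x hx hxU => Set.disjoint_left.mp hK.2 hx hxU) ?_
    rw [Scheme.IdealSheafData.support_mul]
    exact hNs.symm.le.trans Set.subset_union_left
  obtain ⟨P', b, hb⟩ := BlowUpBasics.exists_isBlowUp P K
  haveI : IsProper b := HTopHyper.isProper_of_isBlowUp hb hK.1
  haveI : IsLocallyNoetherian P' := LocallyOfFiniteType.isLocallyNoetherian b
  haveI : CompactSpace P' := QuasiCompact.compactSpace_of_compactSpace b
  haveI : AlgebraicGeometry.IsNoetherian P' := ⟨⟩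
  obtain ⟨j', hj', hjb⟩ := exists_lift_of_blowUp j hb hK
  have hr : Set.range j'.base = (b ⁻¹ᵁ U : Set P') := range_lift_of_blowUp j hb hK j' hjb
  refine ⟨P', b, j', K.comap b, inferInstance, inferInstance, hj', hjb, hb.1, ?_, hr,
    BlowUpBasics.isIso_morphismRestrict hb U hK.2, ⟨K, hb, hK⟩, fun i => ?_⟩
  · rw [hr, Scheme.IdealSheafData.support_comap]
    show b.base ⁻¹' (K.support : Set P) = _
    rw [hKs]
    rfl
  · have hsplit : K = (N * ∏ k ∈ Finset.univ.erase i, centre U (M k) (s k)) * centre U (M i) (s i) := by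
      rw [mul_assoc]
      exact congrArg (N * ·) (Finset.prod_erase_mul _ _ (Finset.mem_univ i)).symm
    have hle : K ≤ centre U (M i) (s i) := by
      rw [hsplit]
      intro V
      rw [Scheme.IdealSheafData.ideal_mul, Pi.mul_apply]
      exact Ideal.mul_le.mpr fun a _ c hc => Ideal.mul_mem_left _ a hc
    have hC : BlowUp.IsEffCartierIdeal ((centre U (M i) (s i)).comap b) := by
      have h := hb.1
      rw [hsplit, Divisors.comap_mul] at h
      exact (Divisors.isEffCartierIdeal_factors h).2
    obtain ⟨G, π, hG, hπ, hiso⟩ :=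
      exists_locFree_quotient b (hM i) (hfree' i) (s i) K hKs hle hb.1 hC
    haveI := hiso
    exact ⟨G, π, hG, hπ, isIso_pullback_map j' (b ⁻¹ᵁ U) hr.le π⟩

end Groth.NagComp.LocFreeExt
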