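import Groth.Agent.RefRank.StrictSheaf
import Groth.Agent.Misc15.RankLe
import Groth.Agent.QCohMod.QCQS
import Groth.Agent.QCohMod.Category
import Groth.Agent.LocFree.AffineHom
import Groth.Agent.Divisors.EffCartierMore
import Mathlib.AlgebraicGeometry.Noetherian

/-!
# Locally free quotients after a blow-up

`M` coherent on a Noetherian `P`, locally free (of varying rank) on an open `U`. If `b : P' ⟶ P` makes
an ideal `K` with support `Uᶜ` and `centre U M s` effective Cartier (`K ≤ centre U M s`), then the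
quotient of `b^*M` by the sections vanishing on `b⁻¹U` is locally free.
-/

set_option autoImplicit false
set_option linter.style.haveILetI false
universe u

open CategoryTheory CategoryTheory.Limits AlgebraicGeometry TopologicalSpace Groth.QCohMod
open scoped TensorProduct

namespace Groth.NagComp.LocFreeExt

section Algebra

/-- One factor of a principal sum of products is invertible away from a prime. -/
theorem exists_split_sup {A : Type*} [CommRing A] (p : Ideal A) [p.IsPrime] {ι : Type*} (s : Finset ι)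
    (F G : ι → Ideal A) {k : A} (hk : k ∈ nonZeroDivisors A)
    (h : (s.sup fun i => F i * G i) = Ideal.span {k}) :
    ∃ i ∈ s, ∃ a ∈ F i, ∃ b ∈ G i, ∃ r : A, a * b = k * r ∧ r ∉ p := by
  by_contra hne
  simp only [not_exists, not_and, not_not] at hne
  have key : (s.sup fun i => F i * G i) ≤ Ideal.span {k} * p :=
    Finset.sup_le fun i hi => Ideal.mul_le.mpr fun a ha b hb => by
      have hab : a * b ∈ Ideal.span {k} :=
        h ▸ Finset.le_sup (f := fun i => F i * G i) hi (Ideal.mul_mem_mul ha hb)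
      obtain ⟨r, hr⟩ := Ideal.mem_span_singleton'.mp hab
      rw [← hr, mul_comm r k]
      exact Ideal.mul_mem_mul (Ideal.mem_span_singleton_self k)
        (hne i hi a ha b hb r (by rw [← hr, mul_comm]))
  obtain ⟨c, hc, hck⟩ :=
    Ideal.mem_span_singleton_mul.mp (key (h ▸ Ideal.mem_span_singleton_self k))
  have : c - 1 = 0 := (mem_nonZeroDivisors_iff.mp hk).1 _ (by rw [mul_sub, hck, mul_one, sub_self])
  exact Ideal.IsPrime.ne_top' ((Ideal.eq_top_iff_one _).mpr (sub_eq_zero.mp this ▸ hc))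

theorem principal_of_split {A : Type*} [CommRing A] {F G : Ideal A} {a b k r : A}
    (hk : k ∈ nonZeroDivisors A) (hr : IsUnit r) (hab : a * b = k * r) (ha : a ∈ F) (hb : b ∈ G)
    (h : F * G ≤ Ideal.span {k}) :
    a ∈ nonZeroDivisors A ∧ b ∈ nonZeroDivisors A ∧ a ∣ k ∧ F = Ideal.span {a} := by
  have hmem : a * b ∈ nonZeroDivisors A := hab ▸ mul_mem hk hr.mem_nonZeroDivisors
  obtain ⟨ha', hb'⟩ := mul_mem_nonZeroDivisors.mp hmem
  have hak : a ∣ k := by
    rw [← hr.dvd_mul_right, ← hab]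
    exact dvd_mul_right a b
  refine ⟨ha', hb', hak, le_antisymm (fun f hf => ?_) ((Ideal.span_singleton_le_iff_mem F).2 ha)⟩
  obtain ⟨c, hc⟩ := Ideal.mem_span_singleton'.mp (h (Ideal.mul_mem_mul hf hb))
  obtain ⟨r', hr'⟩ := hr.exists_right_inv
  refine Ideal.mem_span_singleton'.mpr ⟨c * r', ?_⟩
  have h0 : (c * r' * a - f) * b = 0 := by
    have : c * r' * a * b = c * k * (r * r') := by rw [mul_assoc _ a b, hab]; ring
    rw [sub_mul, this, hr', mul_one, hc, sub_self]
  exact sub_eq_zero.mp ((mem_nonZeroDivisors_iff.mp hb').2 _ h0)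

end Algebra

variable {P P' : Scheme.{u}}

theorem ideal_finset_sup {α : Type*} (s : Finset α) (A : α → P.IdealSheafData) (W : P.affineOpens) :
    (s.sup A).ideal W = s.sup fun i => (A i).ideal W := by
  classical
  induction s using Finset.induction with
  | empty => simp [Scheme.IdealSheafData.ideal_bot]
  | insert a t _ ih =>
    rw [Finset.sup_insert, Finset.sup_insert, Scheme.IdealSheafData.ideal_sup, Pi.sup_apply, ih]

theorem comap_finset_sup {α : Type*} (s : Finset α) (A : α → P.IdealSheafData) (b : P' ⟶ P) :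
    (s.sup A).comap b = s.sup fun i => (A i).comap b := by
  classical
  induction s using Finset.induction with
  | empty => simp [(Scheme.IdealSheafData.map_gc b).l_bot]
  | insert a t _ ih => rw [Finset.sup_insert, Finset.sup_insert, Scheme.IdealSheafData.comap_sup, ih]

variable (U : P.Opens) (M : P.Modules)

theorem exists_free_open (h : FlatMod.IsFinLocFree (M.restrict U.ι)) {z : P} (hz : z ∈ U) :
    ∃ (W : P.Opens) (r : ℕ), z ∈ W ∧ W ≤ U ∧ Nonempty (M.restrict W.ι ≅ FlatMod.freeMod (↑W) r) := by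
  obtain ⟨W', r, hz', ⟨e⟩⟩ := h ⟨z, hz⟩
  refine ⟨U.ι ''ᵁ W', r, ⟨⟨z, hz⟩, hz', rfl⟩, by rintro _ ⟨y, -, rfl⟩; exact y.2, ⟨?_⟩⟩
  exact ((Scheme.Modules.restrictFunctorCongr (U.ι.isoImage_inv_ι W')).app M).symm ≪≫
    (Scheme.Modules.restrictFunctorComp (U.ι.isoImage W').inv (W'.ι ≫ U.ι)).app M ≪≫
    (Scheme.Modules.restrictFunctor (U.ι.isoImage W').inv).mapIso
      ((Scheme.Modules.restrictFunctorComp W'.ι U.ι).app M ≪≫ e) ≪≫
    Misc15.restrictFreeIso (U.ι.isoImage W').inv r

/-- The opens of `U` over which `M` is free of rank `r`. -/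
noncomputable def rankOpen (r : ℕ) : P.Opens :=
  sSup {W : P.Opens | W ≤ U ∧ Nonempty (M.restrict W.ι ≅ FlatMod.freeMod (↑W) r)}

theorem mem_rankOpen {r : ℕ} {z : P} : z ∈ rankOpen U M r ↔
    ∃ W : P.Opens, z ∈ W ∧ W ≤ U ∧ Nonempty (M.restrict W.ι ≅ FlatMod.freeMod (↑W) r) := by
  simp only [rankOpen, TopologicalSpace.Opens.mem_sSup, Set.mem_ofPred_eq]
  exact ⟨fun ⟨W, ⟨h1, h2⟩, h3⟩ => ⟨W, h3, h1, h2⟩, fun ⟨W, h3, h1, h2⟩ => ⟨W, ⟨h1, h2⟩, h3⟩⟩

variable {M} in
theorem rank_unique [M.IsQuasicoherent] {r r' : ℕ} {z : P}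
    (h : z ∈ rankOpen U M r) (h' : z ∈ rankOpen U M r') : r = r' := by
  obtain ⟨W, hzW, -, ⟨e⟩⟩ := (mem_rankOpen U M).1 h
  obtain ⟨W', hzW', -, ⟨e'⟩⟩ := (mem_rankOpen U M).1 h'
  obtain ⟨D, hzD, hD⟩ := Divisors.exists_affine_le z (W ⊓ W') ⟨hzW, hzW'⟩
  obtain ⟨B⟩ := RefRank.FittSheaf.exists_basis_sections M e D.2 (hD.trans inf_le_left)
  obtain ⟨B'⟩ := RefRank.FittSheaf.exists_basis_sections M e' D.2 (hD.trans inf_le_right)
  haveI : Nontrivial Γ(P, D.1) := (P.presheaf.germ D.1 z hzD).hom.domain_nontrivial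
  simpa using Fintype.card_congr (B.indexEquiv B')

/-- The ideal of the closure of the part of `U` where the rank is not `r`. -/
noncomputable def otherRanks (r : ℕ) : P.IdealSheafData :=
  (⨆ (i : {i : ℕ // i ≠ r}), rankOpen U M i.1).ι.ker

/-- The centre to blow up. -/
noncomputable def centre (s : Finset ℕ) : P.IdealSheafData :=
  s.sup fun r => Fitt.sheafIdeal M r * otherRanks U M r

variable {U M}

theorem fitt_of_mem [M.IsQuasicoherent] (hM : CohB1.IsFT M) {r : ℕ} {z : P} (hz : z ∈ rankOpen U M r) :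
    ∃ D : P.affineOpens, z ∈ D.1 ∧
      ∀ j, (Fitt.sheafIdeal M j).ideal D = if r ≤ j then ⊤ else ⊥ := by
  obtain ⟨W, hzW, -, ⟨e⟩⟩ := (mem_rankOpen U M).1 hz
  obtain ⟨D, hzD, hDW⟩ := Divisors.exists_affine_le z W hzW
  obtain ⟨B⟩ := RefRank.FittSheaf.exists_basis_sections M e D.2 hDW
  haveI : Nontrivial Γ(P, D.1) := (P.presheaf.germ D.1 z hzD).hom.domain_nontrivial
  exact ⟨D, hzD, fun j => by
    rw [RefRank.FittSheaf.sheafIdeal_ideal M hM, Misc3Fitt.ideal_of_basis B]⟩

variable [IsNoetherian P]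

/-- The product of a lower Fitting ideal with `otherRanks` vanishes on `U`. -/
theorem germ_eq_zero [M.IsQuasicoherent] (hM : CohB1.IsFT M)
    (hfree : FlatMod.IsFinLocFree (M.restrict U.ι)) {j r : ℕ} (hj : j < r) {V : P.affineOpens}
    {a c : Γ(P, V.1)} (ha : a ∈ (Fitt.sheafIdeal M j).ideal V) (hc : c ∈ (otherRanks U M r).ideal V)
    {z : P} (hz : z ∈ V.1) (hzU : z ∈ U) : P.presheaf.germ V.1 z hz (a * c) = 0 := by
  obtain ⟨W, i, hzW, hWU, hi⟩ := exists_free_open U M hfree hzU
  have hzi : z ∈ rankOpen U M i := (mem_rankOpen U M).2 ⟨W, hzW, hWU, hi⟩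
  rw [map_mul]
  rcases eq_or_ne i r with rfl | hne
  · suffices P.presheaf.germ V.1 z hz a = 0 by rw [this, zero_mul]
    obtain ⟨D, hzD, hD⟩ := fitt_of_mem hM hzi
    obtain ⟨D', hzD', hD'⟩ := Divisors.exists_affine_le z (V.1 ⊓ D.1) ⟨hz, hzD⟩
    have h0 : (Fitt.sheafIdeal M j).ideal D' = ⊥ := by
      rw [← (Fitt.sheafIdeal M j).map_ideal (U := D') (V := D) (hD'.trans inf_le_right), hD,
        if_neg (not_le.2 hj), Ideal.map_bot]
    have h1 := Scheme.IdealSheafData.ideal_le_comap_ideal (Fitt.sheafIdeal M j) (U := D') (V := V)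
      (hD'.trans inf_le_left) ha
    rw [Ideal.mem_comap, h0, Ideal.mem_bot] at h1
    rw [← P.presheaf.germ_res_apply (homOfLE (hD'.trans inf_le_left)) z hzD' a]
    erw [h1]
    exact map_zero _
  · suffices P.presheaf.germ V.1 z hz c = 0 by rw [this, mul_zero]
    let O : P.Opens := ⨆ (k : {k : ℕ // k ≠ r}), rankOpen U M k.1
    have hzO : z ∈ O := TopologicalSpace.Opens.mem_iSup.2 ⟨⟨i, hne⟩, hzi⟩
    have hc' : c ∈ O.ι.ker.ideal V := hc
    rw [Scheme.Hom.ker_apply, RingHom.mem_ker, Scheme.Opens.ι_app] at hc'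
    rw [← P.presheaf.germ_res_apply (homOfLE (O.ι.image_preimage_le V.1)) z ⟨⟨z, hzO⟩, hz, rfl⟩ c]
    erw [hc']
    exact map_zero _

/-- The centre is admissible for `U` when `s` contains all the ranks. -/
theorem isAdmissibleFor_centre [M.IsQuasicoherent] (hM : CohB1.IsFT M) (s : Finset ℕ)
    (hs : ∀ z ∈ U, ∃ r ∈ s, z ∈ rankOpen U M r) : BlowUp.IsAdmissibleFor U (centre U M s) := by
  refine ⟨fun V => haveI := IsLocallyNoetherian.component_noetherian V; IsNoetherian.noetherian _, Set.disjoint_left.2 fun z hz hzU => ?_⟩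
  obtain ⟨r, hr, hzr⟩ := hs z hzU
  have h1 : z ∈ ((Fitt.sheafIdeal M r * otherRanks U M r).support : Set P) :=
    Scheme.IdealSheafData.support_antitone
      (Finset.le_sup (f := fun r => Fitt.sheafIdeal M r * otherRanks U M r) hr) hz
  rw [Scheme.IdealSheafData.support_mul] at h1
  rcases h1 with h1 | h1
  · obtain ⟨D, hzD, hD⟩ := fitt_of_mem hM hzr
    refine (RefRank.EffCartierLocal.mem_support_iff_map_germ_ne_top _ hzD).1 h1 ?_
    rw [hD, if_pos le_rfl, Ideal.map_top]
  · let O : P.Opens := ⨆ (k : {k : ℕ // k ≠ r}), rankOpen U M k.1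
    have h1' : z ∈ (O.ι.ker.support : Set P) := h1
    rw [Scheme.Hom.support_ker] at h1'
    obtain ⟨y, hyr, w, rfl⟩ := mem_closure_iff.1 h1' _ (rankOpen U M r).2 hzr
    obtain ⟨⟨k, hk⟩, hwk⟩ := TopologicalSpace.Opens.mem_iSup.1 w.2
    exact hk (rank_unique U hwk hyr)

theorem exists_ranks (hfree : FlatMod.IsFinLocFree (M.restrict U.ι)) :
    ∃ s : Finset ℕ, ∀ z ∈ U, ∃ r ∈ s, z ∈ rankOpen U M r := by
  obtain ⟨s, hs⟩ := (TopologicalSpace.NoetherianSpace.isCompact (U : Set P)).elim_finite_subcover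
    (fun r => (rankOpen U M r : Set P)) (fun r => (rankOpen U M r).2) (fun z hz => by
      obtain ⟨W, r, hzW, hWU, hr⟩ := exists_free_open U M hfree hz
      exact Set.mem_iUnion.2 ⟨r, (mem_rankOpen U M).2 ⟨W, hzW, hWU, hr⟩⟩)
  exact ⟨s, fun z hz => by
    obtain ⟨r, hr, hzr⟩ := Set.mem_iUnion₂.1 (hs hz)
    exact ⟨r, hr, hzr⟩⟩

section Unit

/-- The map to the sections away from the complement of `U'`. -/
noncomputable abbrev unitMap (U' : P'.Opens) (N : P'.Modules) :
    N ⟶ (Scheme.Modules.pushforward U'.ι).obj ((Scheme.Modules.restrictFunctor U'.ι).obj N) :=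
  (Scheme.Modules.restrictAdjunction U'.ι).unit.app N

variable [IsNoetherian P'] {E : P'.IdealSheafData} {U' : P'.Opens}

omit [AlgebraicGeometry.IsNoetherian P] [AlgebraicGeometry.IsNoetherian P'] in
/-- Vanishing on the complement of a divisor is torsion for its equation. -/
theorem unit_app_eq_zero_iff (hU' : (E.support : Set P') = (U' : Set P')ᶜ) (N : P'.Modules)
    [N.IsQuasicoherent] (W : P'.affineOpens) {t : Γ(P', W.1)} (hI : E.ideal W = Ideal.span {t})
    (m : Γ(N, W.1)) :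
    (unitMap U' N).app W.1 m = 0 ↔ ∃ n : ℕ, t ^ n • m = 0 := by
  have hopen : U'.ι ''ᵁ U'.ι ⁻¹ᵁ W.1 = P'.basicOpen t := by
    rw [Scheme.Hom.image_preimage_eq_opensRange_inf, Scheme.Opens.opensRange_ι]
    ext y
    have hiff : ∀ hy : y ∈ W.1, y ∈ (E.support : Set P') ↔ y ∉ P'.basicOpen t := fun hy => by
      rw [SetLike.mem_coe, Scheme.IdealSheafData.mem_support_iff_of_mem hy, hI, Scheme.zeroLocus_span,
        Scheme.zeroLocus_singleton]
      rfl
    constructor
    · rintro ⟨hyU, hyW⟩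
      by_contra h
      have := (hiff hyW).2 h
      rw [hU'] at this
      exact this hyU
    · intro hy
      have hyW : y ∈ W.1 := P'.basicOpen_le t hy
      refine ⟨?_, hyW⟩
      by_contra h
      exact (hiff hyW).1 (hU' ▸ h) hy
  have key : ∀ (V : P'.Opens) (h : V ≤ W.1), V = P'.basicOpen t →
      (res N h m = 0 ↔ ∃ n : ℕ, t ^ n • m = 0) := by
    rintro V h rfl
    refine ⟨fun h0 => exists_pow_smul_eq_zero N W.2 t m h0, fun ⟨n, hn⟩ => ?_⟩
    have h1 := congrArg (res N h) hn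
    rw [res_smul, map_zero, map_pow] at h1
    have hu : IsUnit (resFun P' h t ^ n) :=
      IsUnit.pow n (show IsUnit (resFun P' h t) from P'.toRingedSpace.isUnit_res_basicOpen t)
    exact hu.smul_eq_zero.mp h1
  exact key _ (U'.ι.image_preimage_le W.1) hopen

omit [AlgebraicGeometry.IsNoetherian P] in
theorem isQCoh_coimage_unit (N : P'.Modules) [N.IsQuasicoherent] :
    (Abelian.coimage (unitMap U' N)).IsQuasicoherent := by
  haveI : ((Scheme.Modules.restrictFunctor U'.ι).obj N).IsQuasicoherent :=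
    haveI := isQCoh_pullback_obj U'.ι N
    (isQCoh_iff_of_iso ((Scheme.Modules.restrictFunctorIsoPullback U'.ι).app N)).mpr inferInstance
  haveI : ((Scheme.Modules.pushforward U'.ι).obj
      ((Scheme.Modules.restrictFunctor U'.ι).obj N)).IsQuasicoherent := isQCoh_pushforward _ U'.ι
  haveI := Groth.QCohMod.isQCoh_kernel (unitMap U' N)
  exact isQCoh_cokernel _

omit [AlgebraicGeometry.IsNoetherian P] [AlgebraicGeometry.IsNoetherian P'] in
theorem coimage_app_eq_zero_iff (N : P'.Modules) (W : P'.Opens) (m : Γ(N, W)) :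
    (Abelian.coimage.π (unitMap U' N)).app W m = 0 ↔
      (unitMap U' N).app W m = 0 := by
  have h := congr(($(Abelian.coimage.fac (unitMap U' N))).app W m)
  refine ⟨fun h0 => ?_, fun h0 => ?_⟩
  · rw [← h]
    exact (congrArg ((Abelian.factorThruCoimage (unitMap U' N)).app W) h0).trans
      (map_zero ((Abelian.factorThruCoimage (unitMap U' N)).app W).hom)
  · exact Groth.QCohMod.app_injective_of_mono (Abelian.factorThruCoimage _) W
      ((h.trans h0).trans (map_zero _).symm)

omit [AlgebraicGeometry.IsNoetherian P] in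
/-- A locally free module has no sections supported on a divisor. -/
theorem mono_unit (hE : BlowUp.IsEffCartierIdeal E) (hU' : (E.support : Set P') = (U' : Set P')ᶜ)
    (N : P'.Modules) (hN : FlatMod.IsFinLocFree N) :
    Mono (unitMap U' N) := by
  haveI : N.IsQuasicoherent := Groth.PropsBasic.LocFree.isQuasicoherent_of_isFinLocFree N hN
  haveI := isQCoh_coimage_unit (U' := U') N
  haveI : IsIso (Abelian.coimage.π (unitMap U' N)) := by
    refine Groth.LocFree.isIso_of_small_affine _ fun x W hxW => ?_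
    obtain ⟨O, n, hxO, ⟨e⟩⟩ := hN x
    obtain ⟨V, hxV, hVW, t, ht, hI⟩ := Divisors.exists_generator hE x (W ⊓ O) ⟨hxW, hxO⟩
    obtain ⟨B⟩ := RefRank.FittSheaf.exists_basis_sections _ e V.2 (hVW.trans inf_le_right)
    refine ⟨V.1, V.2, hxV, hVW.trans inf_le_left, (injective_iff_map_eq_zero _).2 fun m hm => ?_,
      app_surjective_of_epi _ V.2⟩
    obtain ⟨k, hk⟩ := (unit_app_eq_zero_iff hU' N V hI m).1 ((coimage_app_eq_zero_iff N V.1 m).1 hm)
    refine B.repr.injective (Finsupp.ext fun i => ?_)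
    have h := congrArg (fun y => B.repr y i) hk
    simp only [map_smul, map_zero, Finsupp.smul_apply, Finsupp.zero_apply, smul_eq_mul] at h ⊢
    exact (pow_mem ht.mem_nonZeroDivisors k).1 _ h
  rw [← Abelian.coimage.fac (unitMap U' N)]
  infer_instance

end Unit

/-- The torsion free quotient of the pullback is locally free. -/
theorem exists_locFree_quotient [IsNoetherian P'] (b : P' ⟶ P) (hM : Coh.IsCoh M)
    (hfree : FlatMod.IsFinLocFree (M.restrict U.ι)) (s : Finset ℕ) (K : P.IdealSheafData)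
    (hKs : (K.support : Set P) = (U : Set P)ᶜ) (hKS : K ≤ centre U M s)
    (hK : BlowUp.IsEffCartierIdeal (K.comap b))
    (hS : BlowUp.IsEffCartierIdeal ((centre U M s).comap b)) :
    ∃ (G : P'.Modules) (π : (Scheme.Modules.pullback b).obj M ⟶ G), FlatMod.IsFinLocFree G ∧
      Epi π ∧ IsIso ((Scheme.Modules.restrictFunctor (b ⁻¹ᵁ U).ι).map π) := by
  haveI := hM.1
  have hft := hM.2
  let U' : P'.Opens := b ⁻¹ᵁ U
  let Pm := (Scheme.Modules.pullback b).obj M
  haveI : Pm.IsQuasicoherent := isQCoh_pullback_obj b M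
  let u := unitMap U' Pm
  let π : Pm ⟶ Abelian.coimage u := Abelian.coimage.π u
  haveI : (Abelian.coimage u).IsQuasicoherent := isQCoh_coimage_unit Pm
  have hU' : ((K.comap b).support : Set P') = (U' : Set P')ᶜ := by
    rw [Scheme.IdealSheafData.support_comap]
    show b.base ⁻¹' (K.support : Set P) = _
    rw [hKs]
    rfl
  refine ⟨Abelian.coimage u, π, fun x => ?_, inferInstance, ?_⟩
  · obtain ⟨V, hxV, -⟩ := Divisors.exists_affine_le (b x) ⊤ trivial
    obtain ⟨W₁, hxW₁, hW₁V, k, hk, hSk⟩ := Divisors.exists_generator hS x (b ⁻¹ᵁ V.1) hxV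
    obtain ⟨W, hxW, hWW₁, t, ht, hKt⟩ := Divisors.exists_generator hK x W₁.1 hxW₁
    let k₁ : Γ(P', W.1) := P'.presheaf.map (homOfLE hWW₁).op k
    have hk₁ : Divisors.IsNzdSec k₁ := hk.res hWW₁
    have hSk₁ : ((centre U M s).comap b).ideal W = Ideal.span {k₁} := by
      rw [← ((centre U M s).comap b).map_ideal (U := W) (V := W₁) hWW₁, hSk, Ideal.map_span,
        Set.image_singleton]
      rfl
    have hkt : k₁ ∣ t := Ideal.mem_span_singleton.1 (hSk₁ ▸
      (Scheme.IdealSheafData.comap_mono b hKS W) (hKt ▸ Ideal.mem_span_singleton_self t))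
    have hsum : (s.sup fun r => ((Fitt.sheafIdeal M r).comap b).ideal W *
        ((otherRanks U M r).comap b).ideal W) = Ideal.span {k₁} := by
      rw [← hSk₁, centre, comap_finset_sup, ideal_finset_sup]
      refine Finset.sup_congr rfl fun r _ => ?_
      rw [Divisors.comap_mul, Scheme.IdealSheafData.ideal_mul, Pi.mul_apply]
    obtain ⟨r, hr, a, ha, c, hc, e, hac, he⟩ := exists_split_sup
      (W.2.primeIdealOf ⟨x, hxW⟩).asIdeal s _ _ hk₁.mem_nonZeroDivisors hsum
    let W₂ : P'.affineOpens := P'.affineBasicOpen e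
    have hxW₂ : x ∈ W₂.1 := (mem_basicOpen_iff_notMem_primeIdealOf W.2 e x hxW).2 he
    have hle : W₂.1 ≤ W.1 := P'.basicOpen_le e
    let ρ := (P'.presheaf.map (homOfLE hle).op).hom
    have hmap : ∀ J : P'.IdealSheafData, J.ideal W₂ = (J.ideal W).map ρ := fun J =>
      (J.map_ideal (U := W₂) (V := W) hle).symm
    have hle₂ : ((Fitt.sheafIdeal M r).comap b).ideal W₂ * ((otherRanks U M r).comap b).ideal W₂ ≤
        Ideal.span {ρ k₁} := by
      rw [hmap, hmap, ← Ideal.map_mul, ← Set.image_singleton, ← Ideal.map_span, ← hsum]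
      exact Ideal.map_mono (Finset.le_sup (f := fun r => ((Fitt.sheafIdeal M r).comap b).ideal W *
        ((otherRanks U M r).comap b).ideal W) hr)
    obtain ⟨han, hcn, hak, hspan⟩ := principal_of_split ((hk₁.res hle).mem_nonZeroDivisors)
      (show IsUnit (ρ e) from P'.toRingedSpace.isUnit_res_basicOpen e)
      (show ρ a * ρ c = ρ k₁ * ρ e by rw [← map_mul, hac, map_mul])
      (hmap _ ▸ Ideal.mem_map_of_mem ρ ha) (hmap _ ▸ Ideal.mem_map_of_mem ρ hc) hle₂
    have hWV : W₂.1 ≤ b ⁻¹ᵁ V.1 := hle.trans (hWW₁.trans hW₁V)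
    have hKt₂ : (K.comap b).ideal W₂ = Ideal.span {ρ t} := by
      rw [hmap, hKt, Ideal.map_span, Set.image_singleton]
    have htS : ρ t ∈ nonZeroDivisors _ := (ht.res hle).mem_nonZeroDivisors
    have hFit : ∀ j, (Fitt.ideal Γ(P, V.1) Γ(M, V.1) j).map (b.appLE V.1 W₂.1 hWV).hom =
        ((Fitt.sheafIdeal M j).comap b).ideal W₂ := fun j => by
      rw [Divisors.ideal_comap_affine _ b V W₂ hWV, RefRank.FittSheaf.sheafIdeal_ideal M hft]
    have hlow : ∀ j, j < r → (Fitt.ideal Γ(P, V.1) Γ(M, V.1) j).map (b.appLE V.1 W₂.1 hWV).hom = ⊥ := by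
      intro j hj
      have h0 : (Fitt.ideal Γ(P, V.1) Γ(M, V.1) j).map (b.appLE V.1 W₂.1 hWV).hom *
          ((otherRanks U M r).comap b).ideal W₂ = ⊥ := by
        rw [Divisors.ideal_comap_affine _ b V W₂ hWV, ← Ideal.map_mul, eq_bot_iff,
          Ideal.map_le_iff_le_comap, Ideal.mul_le]
        intro a' ha' c' hc'
        rw [Ideal.mem_comap, Ideal.mem_bot]
        refine RefRank.StrictSheaf.vanish W₂ hWV (ht.res hle) hKt₂ (a' * c') fun z hz hns => ?_
        refine germ_eq_zero hft hfree hj (by rwa [RefRank.FittSheaf.sheafIdeal_ideal M hft]) hc' hz ?_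
        by_contra h
        exact hns (by rw [← SetLike.mem_coe, hKs]; exact h)
      rw [eq_bot_iff]
      intro f hf
      have : f * ρ c = 0 := by
        rw [← Ideal.mem_bot, ← h0]
        exact Ideal.mul_mem_mul hf (hmap _ ▸ Ideal.mem_map_of_mem ρ hc)
      exact Ideal.mem_bot.2 ((mem_nonZeroDivisors_iff.mp hcn).2 _ this)
    letI := sectionsAlg b hWV
    haveI := finite_sections M hft V.2
    let Φ := LinearEquiv.ofBijective (pullSecTensor b M hWV) (pullSecTensor_bijective b M hWV V.2 W₂.2)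
    let q : Γ(P', W₂.1) ⊗[Γ(P, V.1)] Γ(M, V.1) →ₗ[Γ(P', W₂.1)] Γ(Abelian.coimage u, W₂.1) :=
      appₗ π W₂.1 ∘ₗ Φ.toLinearMap
    have hq : Function.Surjective q := (app_surjective_of_epi π W₂.2).comp Φ.surjective
    have hker : ∀ z, z ∈ LinearMap.ker q ↔ ∃ n : ℕ, ρ t ^ n • z = 0 := fun z => by
      refine (((coimage_app_eq_zero_iff Pm W₂.1 (Φ z)).trans
        (unit_app_eq_zero_iff hU' Pm W₂ hKt₂ (Φ z)))).trans (exists_congr fun n => ?_)
      rw [← map_smul, LinearEquiv.map_eq_zero_iff]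
    have htop : Fitt.ideal Γ(P', W₂.1) Γ(Abelian.coimage u, W₂.1) r = ⊤ := by
      rw [← Misc3Fitt.ideal_congr (q.quotKerEquivOfSurjective hq)]
      refine RefRank.StrictSheaf.ideal_quotient_eq_top_of_map han ((hFit r).trans hspan) _
        fun m hm => (hker m).2 ⟨1, ?_⟩
      obtain ⟨d, hd⟩ : ρ a ∣ ρ t := hak.trans (map_dvd ρ hkt)
      rw [pow_one, hd, mul_comm, mul_smul, hm, smul_zero]
    haveI : Module.Finite Γ(P', W₂.1) Γ(Abelian.coimage u, W₂.1) := Module.Finite.of_surjective q hq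
    obtain ⟨f, hf, hfr, hn⟩ := (Misc3Fitt.locallyFree_rank_iff (R := Γ(P', W₂.1))
      (M := Γ(Abelian.coimage u, W₂.1)) r).2 ⟨fun j hj => by
        rw [← Misc3Fitt.ideal_congr (q.quotKerEquivOfSurjective hq)]
        refine RefRank.StrictSheaf.ideal_quotient_eq_bot_pow htS _ (fun m hm => (hker m).1 hm) ?_
        rw [Misc3Fitt.ideal_baseChange]
        exact hlow j hj,
      fun j hj => top_le_iff.1 (htop.ge.trans (Misc3Fitt.ideal_mono hj))⟩
      (W₂.2.primeIdealOf ⟨x, hxW₂⟩).asIdeal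
    have hxf := (mem_basicOpen_iff_notMem_primeIdealOf W₂.2 f x hxW₂).2 hf
    exact ⟨P'.basicOpen f, r, hxf, RefRank.FittSheaf.exists_free_basicOpen _ W₂.2 f hxf hfr hn⟩
  · let F := Scheme.Modules.restrictFunctor U'.ι
    haveI : IsIso (F.map u) := by
      haveI : IsIso (F.map u ≫ (Scheme.Modules.restrictAdjunction U'.ι).counit.app (F.obj Pm)) := by
        simp only [F, u, unitMap, Adjunction.left_triangle_components]
        exact IsIso.id _
      exact IsIso.of_isIso_comp_right (F.map u)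
        ((Scheme.Modules.restrictAdjunction U'.ι).counit.app (F.obj Pm))
    haveI : Mono (F.map π) := by
      haveI : Mono (F.map π ≫ F.map (Abelian.factorThruCoimage u)) := by
        rw [← F.map_comp, Abelian.coimage.fac]
        infer_instance
      exact mono_of_mono (F.map π) (F.map (Abelian.factorThruCoimage u))
    haveI : Epi (F.map π) := inferInstance
    exact isIso_of_mono_of_epi (F.map π)

end Groth.NagComp.LocFreeExt
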