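import Groth.Agent.NagComp.Affine
import Groth.Agent.RefRank.BlowUpTwist
import Groth.Agent.BlowUpBasics.Global
import Groth.Agent.BlowUpBasics.StrictTransform
import Groth.Agent.HTopHyper.BlowUpProper
import Groth.Agent.S17392

/-!
# Extending a section after an admissible blow-up

`exists_good`: for `p : P ⟶ X` separated of finite type and a section `s` over a quasi-compact open
`U` whose image is closed over a quasi-compact `V ⊇ U`, some finite type ideal trivial on `V` makes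
`s` extend to the closure of its graph as soon as it becomes invertible. This replaces flattening in
the proof of Nagata's theorem.
-/

universe u

open CategoryTheory Limits AlgebraicGeometry TopologicalSpace

set_option linter.style.haveILetI false

namespace Groth.NagComp

variable {X P : Scheme.{u}}

theorem isIso_restrict_mono {Y : Scheme.{u}} (q : Y ⟶ X) {U U' : X.Opens} (h : U' ≤ U)
    [IsIso (q ∣_ U)] : IsIso (q ∣_ U') := by
  have hU : U.ι ''ᵁ (U.ι ⁻¹ᵁ U') = U' := by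
    rw [Scheme.Hom.image_preimage_eq_opensRange_inf, Scheme.Opens.opensRange_ι, inf_eq_right.mpr h]
  have h1 : IsIso ((q ∣_ U) ∣_ (U.ι ⁻¹ᵁ U')) := inferInstance
  rw [← hU]
  exact ((MorphismProperty.isomorphisms Scheme).arrow_mk_iso_iff
    (morphismRestrictRestrict q U (U.ι ⁻¹ᵁ U'))).mp h1

theorem isIso_restrict_of_range {Y Y' : Scheme.{u}} (q : Y ⟶ X) (j : Y' ⟶ Y) [IsOpenImmersion j]
    {U : X.Opens} [IsIso (q ∣_ U)] (h : ∀ y, q y ∈ U → y ∈ Set.range j) :
    IsIso ((j ≫ q) ∣_ U) := by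
  rw [morphismRestrict_comp]
  haveI : Surjective (j ∣_ q ⁻¹ᵁ U) := ⟨fun y => by
    obtain ⟨y', hy'⟩ := h y.1 y.2
    refine ⟨⟨y', show q (j y') ∈ U by rw [hy']; exact y.2⟩, Subtype.ext ?_⟩
    rw [morphismRestrict_base]
    exact hy'⟩
  haveI : IsIso (j ∣_ q ⁻¹ᵁ U) := (isIso_iff_isOpenImmersion_and_epi_base _).mpr
    ⟨inferInstance, (TopCat.epi_iff_surjective _).mpr (j ∣_ q ⁻¹ᵁ U).surjective⟩
  exact IsIso.comp_isIso' (f := j ∣_ q ⁻¹ᵁ U) (h := q ∣_ U) inferInstance inferInstance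

theorem eq_section_apply {G : Scheme.{u}} (p : G ⟶ X) {U : X.Opens} [IsIso (p ∣_ U)]
    (s : (U : Scheme.{u}) ⟶ G) (hs : s ≫ p = U.ι) (y : G) (hy : p y ∈ U) :
    s ⟨p y, hy⟩ = y := by
  have hr : Set.range s ⊆ Set.range (p ⁻¹ᵁ U).ι := by
    rintro _ ⟨u, rfl⟩
    rw [Scheme.Opens.range_ι]
    show p (s u) ∈ U
    rw [← Scheme.Hom.comp_apply, hs]
    exact u.2
  let s' := IsOpenImmersion.lift (p ⁻¹ᵁ U).ι s hr
  have h1 : s' ≫ (p ∣_ U) = 𝟙 _ := by
    rw [← cancel_mono U.ι, Category.assoc, morphismRestrict_ι, IsOpenImmersion.lift_fac_assoc, hs,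
      Category.id_comp]
  have h2 : inv (p ∣_ U) = s' := IsIso.inv_eq_of_inv_hom_id h1
  have h3 : s' ((p ∣_ U) ⟨y, hy⟩) = (⟨y, hy⟩ : ↥((p ⁻¹ᵁ U : G.Opens) : Scheme.{u})) := by
    rw [← Scheme.Hom.comp_apply, ← h2, IsIso.hom_inv_id]; rfl
  have h4 : s ((p ∣_ U) ⟨y, hy⟩) = y := by
    rw [← IsOpenImmersion.lift_fac (p ⁻¹ᵁ U).ι s hr, Scheme.Hom.comp_apply]
    exact congrArg Subtype.val h3
  rw [show (⟨p y, hy⟩ : ↥(U : Scheme.{u})) = (p ∣_ U) ⟨y, hy⟩ from
    Subtype.ext (by rw [morphismRestrict_base]; rfl)]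
  exact h4

theorem isIso_fst_restrict {T : Scheme.{u}} (b : T ⟶ X) (p : P ⟶ X) (U : X.Opens)
    [IsIso (p ∣_ U)] : IsIso (pullback.fst b p ∣_ (b ⁻¹ᵁ U)) := by
  have h1 := (isPullback_morphismRestrict (pullback.fst b p) (b ⁻¹ᵁ U)).flip.paste_horiz
    (IsPullback.of_hasPullback b p).flip
  rw [← morphismRestrict_ι] at h1
  let k : ((pullback.fst b p ⁻¹ᵁ (b ⁻¹ᵁ U) : (pullback b p).Opens) : Scheme.{u}) ⟶ (p ⁻¹ᵁ U : P.Opens) :=
    IsOpenImmersion.lift (p ⁻¹ᵁ U).ι
      ((pullback.fst b p ⁻¹ᵁ (b ⁻¹ᵁ U)).ι ≫ pullback.snd b p) (by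
      rintro _ ⟨a, rfl⟩
      rw [Scheme.Opens.range_ι]
      show p (((pullback.fst b p ⁻¹ᵁ (b ⁻¹ᵁ U)).ι ≫ pullback.snd b p) a) ∈ U
      rw [← Scheme.Hom.comp_apply, Category.assoc, ← pullback.condition, Scheme.Hom.comp_apply,
        Scheme.Hom.comp_apply]
      exact a.2)
  have hk : k ≫ (p ⁻¹ᵁ U).ι = (pullback.fst b p ⁻¹ᵁ (b ⁻¹ᵁ U)).ι ≫ pullback.snd b p :=
    IsOpenImmersion.lift_fac _ _ _
  rw [← hk] at h1
  have hcomm : k ≫ (p ∣_ U) = (pullback.fst b p ∣_ (b ⁻¹ᵁ U)) ≫ (b ∣_ U) := by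
    rw [← cancel_mono U.ι, Category.assoc, Category.assoc, morphismRestrict_ι, morphismRestrict_ι,
      morphismRestrict_ι_assoc, reassoc_of% hk, pullback.condition]
  have h2 := IsPullback.of_right h1 hcomm (isPullback_morphismRestrict p U).flip
  exact MorphismProperty.of_isPullback (P := MorphismProperty.isomorphisms Scheme) h2
    (MorphismProperty.isomorphisms.infer_property (p ∣_ U))

theorem isAffineOpen_fst_preimage {G T : Scheme.{u}} [IsAffine G] (p : G ⟶ X) (A : X.affineOpens)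
    (hpA : ⊤ ≤ p ⁻¹ᵁ A.1) (b : T ⟶ X) (B : T.affineOpens) (hB : B.1 ≤ b ⁻¹ᵁ A.1) :
    IsAffineOpen (pullback.fst b p ⁻¹ᵁ B.1) := by
  haveI : IsAffine A.1.toScheme := A.2
  haveI : IsAffine B.1.toScheme := B.2
  let pA : G ⟶ A.1 := IsOpenImmersion.lift A.1.ι p (by
    rintro _ ⟨y, rfl⟩; rw [Scheme.Opens.range_ι]; exact hpA trivial)
  let bA : (B.1 : Scheme.{u}) ⟶ A.1 := b.resLE A.1 B.1 hB
  let j : pullback bA pA ⟶ pullback b p :=
    pullback.map bA pA b p B.1.ι (𝟙 G) A.1.ι (b.resLE_comp_ι hB)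
      (by rw [IsOpenImmersion.lift_fac, Category.id_comp])
  have hb : bA ≫ A.1.ι = B.1.ι ≫ b := b.resLE_comp_ι hB
  have hj1 : j ≫ pullback.fst b p = pullback.fst bA pA ≫ B.1.ι := pullback.lift_fst _ _ _
  have hj2 : j ≫ pullback.snd b p = pullback.snd bA pA :=
    (pullback.lift_snd _ _ _).trans (Category.comp_id _)
  have H : IsPullback j (pullback.fst bA pA) (pullback.fst b p) B.1.ι := by
    refine ⟨⟨hj1⟩, ⟨PullbackCone.IsLimit.mk _
      (fun t => pullback.lift t.snd (t.fst ≫ pullback.snd b p) (by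
        rw [← cancel_mono A.1.ι, Category.assoc, Category.assoc, hb, ← reassoc_of% t.condition,
          pullback.condition, Category.assoc, IsOpenImmersion.lift_fac]))
      (fun t => ?_) (fun t => pullback.lift_fst _ _ _) (fun t m h1 h2 => ?_)⟩⟩
    · apply pullback.hom_ext
      · rw [Category.assoc, hj1, pullback.lift_fst_assoc, t.condition]
      · rw [Category.assoc, hj2, pullback.lift_snd]
    · apply pullback.hom_ext
      · rw [pullback.lift_fst, ← h2]
      · rw [pullback.lift_snd, ← h1, Category.assoc, hj2]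
  haveI : IsOpenImmersion j := MorphismProperty.of_isPullback H.flip inferInstance
  have hr : j.opensRange = pullback.fst b p ⁻¹ᵁ B.1 := by
    ext1
    show Set.range j = _
    rw [← H.isoPullback_hom_fst, Scheme.Hom.comp_base, TopCat.coe_comp, Set.range_comp,
      (H.isoPullback.hom.surjective).range_eq, Set.image_univ, Scheme.Pullback.range_fst,
      Scheme.Opens.range_ι]
    rfl
  rw [← hr]
  exact isAffineOpen_opensRange j

theorem isCompact_preimage_proper {T : Scheme.{u}} (b : T ⟶ X) [QuasiCompact b] {U : X.Opens}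
    (hU : IsCompact (U : Set X)) : IsCompact ((b ⁻¹ᵁ U : T.Opens) : Set T) :=
  b.isCompact_preimage hU

/-- The case of an affine source mapping into an affine open. -/
theorem exists_good_piece [CompactSpace X] [QuasiSeparatedSpace X] {G : Scheme.{u}} [IsAffine G]
    (p : G ⟶ X) [LocallyOfFiniteType p] (A : X.affineOpens) (hpA : ⊤ ≤ p ⁻¹ᵁ A.1) (U V : X.Opens)
    (hUV : U ≤ V) (hU : IsCompact (U : Set X)) (hV : IsCompact (V : Set X)) [IsIso (p ∣_ U)]
    (hpre : p ⁻¹ᵁ V ≤ p ⁻¹ᵁ U) (s : (U : Scheme.{u}) ⟶ G) (hs : s ≫ p = U.ι) :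
    ∃ K : X.IdealSheafData, BlowUp.IsAdmissibleFor V K ∧ Good p s hs K := by
  classical
  haveI : IsAffine A.1.toScheme := A.2
  let pA : G ⟶ A.1 := IsOpenImmersion.lift A.1.ι p (by
    rintro _ ⟨y, rfl⟩; rw [Scheme.Opens.range_ι]; exact hpA trivial)
  haveI : IsSeparated p := by
    rw [← IsOpenImmersion.lift_fac A.1.ι p (by
      rintro _ ⟨y, rfl⟩; rw [Scheme.Opens.range_ι]; exact hpA trivial)]
    infer_instance
  haveI : QuasiCompact p := quasiCompact_of_compactSpace p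
  haveI : IsOpenImmersion ((p ⁻¹ᵁ U).ι ≫ p) := by rw [← morphismRestrict_ι]; infer_instance
  obtain ⟨E, hEft, hEs, hsep⟩ := Groth.Agent.S17392.result p V hV (p ⁻¹ᵁ U)
    (fun y hy => hUV hy) (U : Set X)ᶜ U.2.isClosed_compl (by rwa [compl_compl])
    (∅ : Set G) isClosed_empty (by rw [Set.compl_empty]; exact isCompact_univ)
    (fun y hy => (hy.1 (hpre hy.2)).elim)
  have hEV : BlowUp.IsAdmissibleFor V E :=
    ⟨hEft, Set.disjoint_left.mpr fun x hx => (hEs hx).2⟩
  obtain ⟨X₁, b₁, hb₁⟩ := BlowUpBasics.exists_isBlowUp X E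
  haveI : IsProper b₁ := HTopHyper.isProper_of_isBlowUp hb₁ hEft
  haveI : CompactSpace X₁ := QuasiCompact.compactSpace_of_compactSpace b₁
  haveI : QuasiSeparatedSpace X₁ := quasiSeparatedSpace_of_quasiSeparated b₁
  haveI : QuasiCompact (pullback.fst b₁ p) := inferInstance
  haveI : CompactSpace ↥(pullback b₁ p) :=
    QuasiCompact.compactSpace_of_compactSpace (pullback.fst b₁ p)
  set C : Set X₁ := closure ((fun x => b₁ x) ⁻¹' ((U : Set X)ᶜ ∩ (V : Set X))) with hC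
  set s₁ := graph b₁ p s hs with hs₁
  have hsC : ∀ z ∈ closure (Set.range s₁), pullback.fst b₁ p z ∉ C := by
    intro z hz hzC
    let σ := (pullbackSymmetry b₁ p).hom
    have hσ1 : σ ≫ pullback.snd p b₁ = pullback.fst b₁ p := pullbackSymmetry_hom_comp_snd _ _
    have hσ2 : σ ≫ pullback.fst p b₁ = pullback.snd b₁ p := pullbackSymmetry_hom_comp_fst _ _
    refine (hsep X₁ b₁ hb₁ ⟨?_, ?_⟩ : σ z ∈ (fun z => (pullback.fst p b₁) z) ⁻¹' (∅ : Set G))
    · show pullback.snd p b₁ (σ z) ∈ C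
      rw [← Scheme.Hom.comp_apply, hσ1]
      exact hzC
    · refine map_mem_closure σ.continuous hz ?_
      rintro _ ⟨w, rfl⟩
      show pullback.fst p b₁ (σ (s₁ w)) ∈ p ⁻¹ᵁ U
      rw [← Scheme.Hom.comp_apply, ← Scheme.Hom.comp_apply, hσ2, hs₁, graph_snd]
      show p (((b₁ ∣_ U) ≫ s) w) ∈ U
      rw [← Scheme.Hom.comp_apply, Category.assoc, hs, Scheme.Hom.comp_apply]
      exact ((b₁ ∣_ U) w).2
  have hexB : ∀ z : closure (Set.range s₁), ∃ B : X₁.affineOpens,
      pullback.fst b₁ p z.1 ∈ B.1 ∧ B.1 ≤ b₁ ⁻¹ᵁ A.1 ∧ ∀ x ∈ B.1, x ∉ C := by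
    intro z
    obtain ⟨B, hzB, hBle⟩ := Divisors.exists_affine_le (pullback.fst b₁ p z.1)
      (b₁ ⁻¹ᵁ A.1 ⊓ ⟨Cᶜ, isClosed_closure.isOpen_compl⟩) ⟨by
        show b₁ (pullback.fst b₁ p z.1) ∈ A.1
        rw [← Scheme.Hom.comp_apply, pullback.condition, Scheme.Hom.comp_apply]
        exact hpA trivial, hsC z.1 z.2⟩
    exact ⟨B, hzB, hBle.trans inf_le_left, fun x hx => (hBle hx).2⟩
  choose B hzB hBA hBC using hexB
  obtain ⟨t, ht⟩ := (isClosed_closure.isCompact : IsCompact (closure (Set.range s₁))).elim_finite_subcover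
    (fun z => ((pullback.fst b₁ p ⁻¹ᵁ (B z).1 : (pullback b₁ p).Opens) : Set ↥(pullback b₁ p)))
    (fun z => (pullback.fst b₁ p ⁻¹ᵁ (B z).1).2)
    (fun z hz => Set.mem_iUnion.mpr ⟨⟨z, hz⟩, hzB ⟨z, hz⟩⟩)
  haveI := isIso_fst_restrict b₁ p U
  haveI : LocallyOfFiniteType (pullback.fst b₁ p) := inferInstance
  have hU₁ : IsCompact ((b₁ ⁻¹ᵁ U : X₁.Opens) : Set X₁) := isCompact_preimage_proper b₁ hU
  have hV₁ : IsCompact ((b₁ ⁻¹ᵁ V : X₁.Opens) : Set X₁) := isCompact_preimage_proper b₁ hV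
  have hfst₁ : s₁ ≫ pullback.fst b₁ p = (b₁ ⁻¹ᵁ U).ι := graph_fst b₁ p s hs
  -- the pieces
  have hpiece : ∀ z : t, ∃ (K : X₁.IdealSheafData), BlowUp.IsAdmissibleFor (b₁ ⁻¹ᵁ V) K ∧
      ∀ (T : Scheme.{u}) (g : T ⟶ X₁), BlowUp.IsEffCartierIdeal (K.comap g) →
        ∀ w ∈ closure (Set.range (graph g (pullback.fst b₁ p) s₁ (graph_fst b₁ p s hs))),
          pullback.snd g (pullback.fst b₁ p) w ∈ pullback.fst b₁ p ⁻¹ᵁ (B z.1).1 →
          ExtAt g (pullback.fst b₁ p) s₁ w := by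
    intro z
    let O := pullback.fst b₁ p ⁻¹ᵁ (B z.1).1
    haveI : IsAffine O.toScheme := isAffineOpen_fst_preimage p A hpA b₁ (B z.1) (hBA z.1)
    let U' : X₁.Opens := b₁ ⁻¹ᵁ U ⊓ (B z.1).1
    haveI : IsIso (pullback.fst b₁ p ∣_ U') := isIso_restrict_mono _ inf_le_left
    haveI : IsIso ((O.ι ≫ pullback.fst b₁ p) ∣_ U') := isIso_restrict_of_range _ _ (fun y hy => by
      rw [Scheme.Opens.range_ι]; exact hy.2)
    let s' : (U' : Scheme.{u}) ⟶ O :=
      IsOpenImmersion.lift O.ι (X₁.homOfLE (inf_le_left : U' ≤ b₁ ⁻¹ᵁ U) ≫ s₁) (by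
        rintro _ ⟨w, rfl⟩
        rw [Scheme.Opens.range_ι]
        show pullback.fst b₁ p _ ∈ (B z.1).1
        rw [← Scheme.Hom.comp_apply, Category.assoc, hfst₁, Scheme.homOfLE_ι]
        exact w.2.2)
    have hs' : s' ≫ O.ι ≫ pullback.fst b₁ p = U'.ι := by
      rw [IsOpenImmersion.lift_fac_assoc, Category.assoc, hfst₁, Scheme.homOfLE_ι]
    obtain ⟨K, hKV, hK⟩ := exists_good_affine (O.ι ≫ pullback.fst b₁ p) (B z.1)
      (fun y _ => y.2) U' (b₁ ⁻¹ᵁ V)
      (QuasiSeparatedSpace.inter_isCompact _ _ (b₁ ⁻¹ᵁ U).2 hU₁ (B z.1).1.2 (B z.1).2.isCompact) hV₁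
      inf_le_right (fun x hx => ⟨by
        by_contra hxU
        exact hBC z.1 x hx.2 (subset_closure ⟨hxU, hx.1⟩), hx.2⟩) s' hs'
    refine ⟨K, hKV, fun T g hg w hw hwO => ?_⟩
    refine extAt_of_open g (pullback.fst b₁ p) inf_le_left s₁ (graph_fst b₁ p s hs) O.ι s' hs'
      (IsOpenImmersion.lift_fac _ _ _) ?_ (hK T g hg) w hw (by rw [Scheme.Opens.range_ι]; exact hwO)
    intro x hx
    rw [Scheme.Opens.range_ι] at hx
    refine ⟨x.2, ?_⟩
    have h : pullback.fst b₁ p (s₁ x) = x.1 := congr($(graph_fst b₁ p s hs) x)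
    rw [← h]; exact hx
  choose K hKV hK using hpiece
  let J : X₁.IdealSheafData := ∏ z : t, K z
  have hJ : BlowUp.IsAdmissibleFor (b₁ ⁻¹ᵁ V) J :=
    RefRank.isAdmissibleFor_prod _ _ fun z _ => hKV z
  obtain ⟨n, L, hL, hLb⟩ := RefRank.exists_ftIdeal_comap_eq_twist hb₁ hEft J hJ.1
  have hLV : BlowUp.IsAdmissibleFor V L := by
    refine ⟨hL, Set.disjoint_left.mpr fun x hx hxV => ?_⟩
    haveI := BlowUpBasics.isIso_morphismRestrict hb₁ V hEV.2
    obtain ⟨x', hx'⟩ := (b₁ ∣_ V).surjective ⟨x, hxV⟩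
    have hx'' : b₁ x'.1 = x := by
      have h := congrArg Subtype.val hx'
      rwa [morphismRestrict_base] at h
    have h1 : x'.1 ∈ (L.comap b₁).support := by
      rw [Scheme.IdealSheafData.support_comap]
      show b₁ x'.1 ∈ L.support
      rw [hx'']; exact hx
    rw [hLb, RefRank.twistIdeal, Scheme.IdealSheafData.support_mul] at h1
    rcases h1 with h1 | h1
    · exact Set.disjoint_left.mp hJ.2 h1 x'.2
    · rcases Nat.eq_zero_or_pos n with rfl | hn
      · rw [pow_zero, Scheme.IdealSheafData.one_eq_top, Scheme.IdealSheafData.support_top] at h1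
        exact h1.elim
      · rw [Scheme.IdealSheafData.support_pow (hn := hn.ne'), Scheme.IdealSheafData.support_comap] at h1
        exact Set.disjoint_left.mp hEV.2 h1 x'.2
  refine ⟨E * L, RefRank.isAdmissibleFor_mul hEV hLV, fun T b hb => ?_⟩
  rw [Divisors.comap_mul] at hb
  obtain ⟨hbE, hbL⟩ := Divisors.isEffCartierIdeal_factors hb
  obtain ⟨g, hg, -⟩ := hb₁.2 T b hbE
  subst hg
  rw [Scheme.IdealSheafData.comap_comp, hLb, RefRank.twistIdeal, Divisors.comap_mul] at hbL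
  have hgJ : BlowUp.IsEffCartierIdeal (J.comap g) := (Divisors.isEffCartierIdeal_factors hbL).1
  intro z hz
  obtain ⟨w, hw, -, -, hext⟩ := extAt_comp g b₁ p s hs z hz
  refine hext ?_
  have hwS : pullback.snd g (pullback.fst b₁ p) w ∈ closure (Set.range s₁) := by
    refine map_mem_closure (pullback.snd g (pullback.fst b₁ p)).continuous hw ?_
    rintro _ ⟨a, rfl⟩
    exact ⟨(g ∣_ (b₁ ⁻¹ᵁ U)) a,
      congr($((graph_snd g (pullback.fst b₁ p) s₁ (graph_fst b₁ p s hs)).symm) a)⟩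
  obtain ⟨z₀, hz₀t, hwB⟩ := Set.mem_iUnion₂.mp (ht hwS)
  refine hK ⟨z₀, hz₀t⟩ T g ?_ w hw hwB
  obtain ⟨M, hM⟩ := Finset.dvd_prod_of_mem K (Finset.mem_univ (⟨z₀, hz₀t⟩ : t))
  rw [show J = K ⟨z₀, hz₀t⟩ * M from hM, Divisors.comap_mul] at hgJ
  exact (Divisors.isEffCartierIdeal_factors hgJ).1

/-- The case of a morphism which is an isomorphism over `U`. -/
theorem exists_good_of_isIso [CompactSpace X] [QuasiSeparatedSpace X] (p : P ⟶ X) [IsSeparated p]
    [LocallyOfFiniteType p] [QuasiCompact p] (U V : X.Opens) (hUV : U ≤ V)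
    (hU : IsCompact (U : Set X)) (hV : IsCompact (V : Set X)) [IsIso (p ∣_ U)]
    (hpre : p ⁻¹ᵁ V ≤ p ⁻¹ᵁ U) (s : (U : Scheme.{u}) ⟶ P) (hs : s ≫ p = U.ι) :
    ∃ K : X.IdealSheafData, BlowUp.IsAdmissibleFor V K ∧ Good p s hs K := by
  classical
  haveI : CompactSpace P := QuasiCompact.compactSpace_of_compactSpace p
  haveI : QuasiSeparatedSpace P := quasiSeparatedSpace_of_quasiSeparated p
  have hex : ∀ y : P, ∃ (G : P.affineOpens) (A : X.affineOpens), y ∈ G.1 ∧ G.1 ≤ p ⁻¹ᵁ A.1 := by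
    intro y
    obtain ⟨A, hA, -⟩ := Divisors.exists_affine_le (p y) ⊤ trivial
    obtain ⟨G, hG, hGA⟩ := Divisors.exists_affine_le y (p ⁻¹ᵁ A.1) hA
    exact ⟨G, A, hG, hGA⟩
  choose G A hyG hGA using hex
  obtain ⟨t, ht⟩ := isCompact_univ.elim_finite_subcover (fun y => ((G y).1 : Set P))
    (fun y => (G y).1.2) (fun y _ => Set.mem_iUnion.mpr ⟨y, hyG y⟩)
  haveI : CompactSpace U := isCompact_iff_compactSpace.mp hU
  haveI : QuasiCompact s := quasiCompact_of_compactSpace s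
  have hpiece : ∀ y : t, ∃ K : X.IdealSheafData, BlowUp.IsAdmissibleFor V K ∧
      ∀ (T : Scheme.{u}) (b : T ⟶ X), BlowUp.IsEffCartierIdeal (K.comap b) →
        ∀ z ∈ closure (Set.range (graph b p s hs)),
          pullback.snd b p z ∈ (G y.1).1 → ExtAt b p s z := by
    intro y
    let O := (G y.1).1
    haveI : IsAffine O.toScheme := (G y.1).2
    let U' : X.Opens := U.ι ''ᵁ (s ⁻¹ᵁ O)
    have hU'U : U' ≤ U := U.ι_image_le _
    have hU'c : IsCompact (U' : Set X) :=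
      (s.isCompact_preimage (U := O) (G y.1).2.isCompact).image U.ι.continuous
    haveI : IsIso (p ∣_ U') := isIso_restrict_mono _ hU'U
    have hmemU' : ∀ (a : P) (_ : p a ∈ U), (a ∈ O ↔ p a ∈ U') := by
      intro a ha
      have h := eq_section_apply p s hs a ha
      constructor
      · intro haO
        exact ⟨⟨p a, ha⟩, show s ⟨p a, ha⟩ ∈ O by rw [h]; exact haO, rfl⟩
      · rintro ⟨u, hu, hua⟩
        rw [← h, show (⟨p a, ha⟩ : ↥(U : Scheme.{u})) = u from Subtype.ext hua.symm]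
        exact hu
    haveI : IsIso ((O.ι ≫ p) ∣_ U') := isIso_restrict_of_range p O.ι (fun a ha => by
      rw [Scheme.Opens.range_ι]; exact (hmemU' a (hU'U ha)).mpr ha)
    let s' : (U' : Scheme.{u}) ⟶ O := IsOpenImmersion.lift O.ι (X.homOfLE hU'U ≫ s) (by
      rintro _ ⟨w, rfl⟩
      rw [Scheme.Opens.range_ι]
      obtain ⟨u, hu, huw⟩ := w.2
      show s (X.homOfLE hU'U w) ∈ O
      rw [show X.homOfLE hU'U w = u from Subtype.ext (by rw [Scheme.homOfLE_apply]; exact huw.symm)]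
      exact hu)
    have hs' : s' ≫ O.ι ≫ p = U'.ι := by
      rw [IsOpenImmersion.lift_fac_assoc, Category.assoc, hs, Scheme.homOfLE_ι]
    obtain ⟨K, hKV, hK⟩ := exists_good_piece (O.ι ≫ p) (A y.1) (fun a _ => hGA y.1 a.2) U' V
      (hU'U.trans hUV) hU'c hV (fun a ha => (hmemU' _ (hpre ha)).mp a.2) s' hs'
    refine ⟨K, hKV, fun T b hb z hz hzO => ?_⟩
    refine extAt_of_open b p hU'U s hs O.ι s' hs' (IsOpenImmersion.lift_fac _ _ _) ?_ (hK T b hb) z hz
      (by rw [Scheme.Opens.range_ι]; exact hzO)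
    intro u hu
    rw [Scheme.Opens.range_ι] at hu
    exact ⟨u, hu, rfl⟩
  choose K hKV hK using hpiece
  refine ⟨∏ y : t, K y, RefRank.isAdmissibleFor_prod _ _ fun y _ => hKV y, fun T b hb z hz => ?_⟩
  obtain ⟨y, hyt, hzy⟩ := Set.mem_iUnion₂.mp (ht (Set.mem_univ (pullback.snd b p z)))
  refine hK ⟨y, hyt⟩ T b ?_ z hz hzy
  obtain ⟨M, hM⟩ := Finset.dvd_prod_of_mem K (Finset.mem_univ (⟨y, hyt⟩ : t))
  rw [hM, Divisors.comap_mul] at hb
  exact (Divisors.isEffCartierIdeal_factors hb).1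

/-- **The extension theorem**: a section over `U` with image closed over `V` extends to the closure
of its graph after making an ideal trivial on `V` invertible. -/
theorem exists_good [CompactSpace X] [QuasiSeparatedSpace X] (p : P ⟶ X) [IsSeparated p]
    [LocallyOfFiniteType p] [QuasiCompact p] (U V : X.Opens) (hUV : U ≤ V)
    (hU : IsCompact (U : Set X)) (hV : IsCompact (V : Set X)) (s : (U : Scheme.{u}) ⟶ P)
    (hs : s ≫ p = U.ι) (hcl : ∀ y ∈ closure (Set.range s), p y ∈ V → y ∈ Set.range s) :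
    ∃ K : X.IdealSheafData, BlowUp.IsAdmissibleFor V K ∧ Good p s hs K := by
  haveI : CompactSpace U := isCompact_iff_compactSpace.mp hU
  haveI : QuasiSeparatedSpace P := quasiSeparatedSpace_of_quasiSeparated p
  haveI : QuasiCompact s := quasiCompact_of_compactSpace s
  haveI : IsSchemeTheoreticallyDominant s.toImage := BlowUpBasics.isSchemeTheoreticallyDominant_toImage s
  let q : s.image ⟶ X := s.imageι ≫ p
  have hq : s.toImage ≫ q = U.ι := by rw [Scheme.Hom.toImage_imageι_assoc, hs]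
  have hrange : Set.range s.imageι = closure (Set.range s) := by
    rw [Scheme.IdealSheafData.range_subschemeι, Scheme.Hom.support_ker]
  haveI : IsIso (q ∣_ U) := by
    have hr : Set.range s.toImage ⊆ Set.range (q ⁻¹ᵁ U).ι := by
      rintro _ ⟨x, rfl⟩
      rw [Scheme.Opens.range_ι]
      show q (s.toImage x) ∈ U
      rw [← Scheme.Hom.comp_apply, hq]
      exact x.2
    let τ := IsOpenImmersion.lift (q ⁻¹ᵁ U).ι s.toImage hr
    have hτ : τ ≫ (q ⁻¹ᵁ U).ι = s.toImage := IsOpenImmersion.lift_fac _ _ _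
    have H : IsPullback (𝟙 _) τ s.toImage (q ⁻¹ᵁ U).ι := by
      refine ⟨⟨by rw [Category.id_comp, hτ]⟩, ⟨PullbackCone.IsLimit.mk _ (fun c => c.fst)
        (fun c => Category.comp_id _) (fun c => ?_)
        (fun c k hk _ => by rw [← hk, Category.comp_id])⟩⟩
      rw [← cancel_mono (q ⁻¹ᵁ U).ι, Category.assoc, hτ, c.condition]
    haveI : IsSchemeTheoreticallyDominant τ := IsSchemeTheoreticallyDominant.of_isPullback H
    have h1 : τ ≫ (q ∣_ U) = 𝟙 _ := by
      rw [← cancel_mono U.ι, Category.assoc, morphismRestrict_ι, reassoc_of% hτ, hq, Category.id_comp]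
    refine ⟨τ, GrpschAbsch.ext_of_isSchemeTheoreticallyDominant (q ∣_ U) ?_ τ ?_, h1⟩
    · rw [Category.assoc, h1, Category.comp_id, Category.id_comp]
    · rw [reassoc_of% h1, Category.comp_id]
  have hpre : q ⁻¹ᵁ V ≤ q ⁻¹ᵁ U := fun y hy => by
    obtain ⟨x, hx⟩ := hcl (s.imageι y) (hrange ▸ ⟨y, rfl⟩) hy
    show p (s.imageι y) ∈ U
    rw [← hx, ← Scheme.Hom.comp_apply, hs]
    exact x.2
  obtain ⟨K, hKV, hK⟩ := exists_good_of_isIso q U V hUV hU hV hpre s.toImage hq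
  refine ⟨K, hKV, fun T b hb z hz => ?_⟩
  let Φ : pullback b q ⟶ pullback b p :=
    pullback.map b q b p (𝟙 T) s.imageι (𝟙 X) (by simp) (by simp [q])
  have hΦ : graph b q s.toImage hq ≫ Φ = graph b p s hs := by
    apply pullback.hom_ext
    · simp only [Φ, Category.assoc, pullback.lift_fst, Category.comp_id, graph_fst]
    · simp only [Φ, Category.assoc, pullback.lift_snd]
      rw [← Category.assoc, graph_snd, graph_snd, Category.assoc, Scheme.Hom.toImage_imageι]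
  have hpb : IsPullback (pullback.snd b q) Φ s.imageι (pullback.snd b p) := by
    refine IsPullback.of_bot ?_ (pullback.lift_snd _ _ _).symm (IsPullback.of_hasPullback b p).flip
    rw [show Φ ≫ pullback.fst b p = pullback.fst b q from
      (pullback.lift_fst _ _ _).trans (Category.comp_id _)]
    exact (IsPullback.of_hasPullback b q).flip
  haveI : IsClosedImmersion Φ := MorphismProperty.of_isPullback hpb inferInstance
  obtain ⟨z', hz', rfl⟩ : z ∈ Φ '' closure (Set.range (graph b q s.toImage hq)) := by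
    rw [← Φ.isClosedEmbedding.closure_image_eq, ← Set.range_comp]
    refine closure_mono ?_ hz
    rintro _ ⟨a, rfl⟩
    exact ⟨a, congr($hΦ a)⟩
  obtain ⟨W, hW, h, w, hag, hsd⟩ := hK T b hb z' hz'
  refine ⟨W, ?_, h ≫ s.imageι, by rw [Category.assoc]; exact w, ?_, hsd⟩
  · have : (Φ ≫ pullback.fst b p) z' = pullback.fst b q z' := by
      simp only [Φ, pullback.lift_fst, Category.comp_id]
    rw [← Scheme.Hom.comp_apply, this]
    exact hW
  · unfold Agree at hag ⊢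
    rw [reassoc_of% hag, Scheme.Hom.toImage_imageι]

end Groth.NagComp
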