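import Groth.Agent.FlatMorOne.FTIdealExtend
import Groth.Agent.RefRank.AdmBlowUp

/-!
# Extending ideals of finite type along quasi-compact open immersions
-/

universe u

open CategoryTheory Limits AlgebraicGeometry TopologicalSpace

namespace Groth.NagComp

variable {X U : Scheme.{u}}

theorem comap_map_of_isOpenImmersion (j : U ⟶ X) [IsOpenImmersion j] [QuasiCompact j]
    (D : U.IdealSheafData) :
    (D.map j).comap j = D := by
  refine Scheme.IdealSheafData.ext (funext fun W => ?_)
  rw [Scheme.IdealSheafData.ideal_comap_of_isOpenImmersion]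
  have := Scheme.ker_ideal_of_isPullback_of_isOpenImmersion (D.subschemeι ≫ j) D.subschemeι
    (𝟙 D.subscheme) j (IsPullback.of_vert_isIso_mono ⟨by simp⟩) W
  rw [D.ker_subschemeι] at this
  exact this.symm

/-- An ideal of finite type on a quasi-compact open extends to an ideal of finite type. -/
theorem exists_ftIdeal_comap_eq [CompactSpace X] [QuasiSeparatedSpace X] (j : U ⟶ X)
    [IsOpenImmersion j] [CompactSpace U] (D : U.IdealSheafData) (hD : BlowUp.IsFiniteTypeIdeal D) :
    ∃ L : X.IdealSheafData, BlowUp.IsFiniteTypeIdeal L ∧ L.comap j = D := by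
  classical
  haveI : QuasiCompact j := quasiCompact_of_compactSpace j
  let I₀ := D.map j
  have hI₀ : I₀.comap j = D := comap_map_of_isOpenImmersion j D
  choose W hW using fun u : U => exists_isAffineOpen_mem_and_subset (x := u) (U := ⊤) trivial
  let B : U → X.affineOpens := fun u => ⟨j ''ᵁ W u, (hW u).1.image_of_isOpenImmersion j⟩
  have hfg : ∀ u, (I₀.ideal (B u)).FG := by
    intro u
    have h1 := hD ⟨W u, (hW u).1⟩
    rw [← hI₀, Scheme.IdealSheafData.ideal_comap_of_isOpenImmersion] at h1
    have h2 := h1.map (j.appIso (W u)).inv.hom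
    rwa [Ideal.map_comap_of_surjective _
      (ConcreteCategory.bijective_of_isIso (j.appIso (W u)).inv).2] at h2
  choose K hKle hKfg hKeq using fun u => FlatMorOne.exists_ftIdeal_eq I₀ (B u) _ (hfg u) le_rfl
  obtain ⟨t, ht⟩ := isCompact_univ.elim_finite_subcover (fun u => (W u : Set U)) (fun u => (W u).2)
    (fun u _ => Set.mem_iUnion.mpr ⟨u, (hW u).2.1⟩)
  let L := t.sup K
  have hle : L ≤ I₀ := Finset.sup_le fun u _ => hKle u
  refine ⟨L, ?_, ?_⟩
  · have : ∀ s : Finset U, BlowUp.IsFiniteTypeIdeal (s.sup K) := by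
      intro s V
      induction s using Finset.induction with
      | empty => rw [Finset.sup_empty, Scheme.IdealSheafData.ideal_bot]; exact Submodule.fg_bot
      | insert a s _ ih =>
        rw [Finset.sup_insert, Scheme.IdealSheafData.ideal_sup]
        exact Submodule.FG.sup (hKfg a V) ih
    exact this t
  · rw [← hI₀]
    refine Scheme.IdealSheafData.ext_of_iSup_eq_top (fun u : t => ⟨W u.1, (hW u.1).1⟩) ?_ fun u => ?_
    · refine top_le_iff.mp fun x _ => ?_
      obtain ⟨u, hu, hxu⟩ := Set.mem_iUnion₂.mp (ht (Set.mem_univ x))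
      exact Opens.mem_iSup.mpr ⟨⟨u, hu⟩, hxu⟩
    · rw [Scheme.IdealSheafData.ideal_comap_of_isOpenImmersion,
        Scheme.IdealSheafData.ideal_comap_of_isOpenImmersion]
      congr 1
      refine le_antisymm (hle (B u.1)) ?_
      rw [← hKeq u.1]
      exact Finset.le_sup (f := K) u.2 (B u.1)

end Groth.NagComp
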