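import Groth.Agent.SchemeMorphisms.BlowUpProjective
import Groth.Agent.PropsBasic.AmpleSec
import Groth.Agent.Chow.AmpleComp
import Groth.Agent.Ega2Proj.RelAmple

/-!
# Polarisation data give relative ampleness; blow-ups carry an ample module trivial off the centre
-/

universe u

open CategoryTheory CategoryTheory.Limits AlgebraicGeometry Opposite TopologicalSpace

set_option backward.isDefEq.respectTransparency.types false

namespace Groth.NagComp.PolAmple

open Groth.PicAux Groth.PropsBasic.Ample Groth.Chow Groth.Ega2Proj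
open Groth.SchemeMorphisms.BlowUpProj Groth.RefRank.BlowChart

variable {X Y : Scheme.{u}}

/-- The module of polarisation data is relatively ample. -/
theorem isRelAmple (f : X ⟶ Y) [QuasiCompact f] (D : Pol f) : RelAmple.IsRelAmple f D.L := by
  refine ⟨inferInstance, fun V => ⟨Groth.Ega2Proj.isInvertible_restrict _ D.inv, ?_, fun x => ?_⟩⟩
  · exact isCompact_iff_compactSpace.1 (f.isCompact_preimage V.2.isCompact)
  obtain ⟨t, -, W, hW, hxW, hWa, hgen, hmax, -⟩ := D.chart V.1 V.2 x.1 x.2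
  have htop : (f ⁻¹ᵁ V.1).ι ''ᵁ ⊤ = f ⁻¹ᵁ V.1 := Scheme.Opens.ι_image_top _
  let s₀ : Γ(D.L.restrict (f ⁻¹ᵁ V.1).ι, ⊤) := res D.L htop.le (up f t)
  have hs : (f ⁻¹ᵁ V.1).ι ''ᵁ gloc (L := D.L.restrict (f ⁻¹ᵁ V.1).ι) s₀ = W := by
    have hO := Scheme.Opens.ι_image_le (f ⁻¹ᵁ V.1) (gloc (L := D.L.restrict (f ⁻¹ᵁ V.1).ι) s₀)
    refine le_antisymm (hmax _ hO ?_) ?_
    · have h := (le_image_gloc_restrict s₀ hO (hO.trans htop.ge)).1 le_rfl
      rwa [show res D.L (hO.trans htop.ge) (s₀ : Γ(D.L, (f ⁻¹ᵁ V.1).ι ''ᵁ ⊤)) = res D.L hO (up f t) from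
        Groth.PicAux.res_res (M := D.L) _ _ _] at h
    · refine (le_image_gloc_restrict s₀ hW (hW.trans htop.ge)).2 ?_
      rwa [show res D.L (hW.trans htop.ge) (s₀ : Γ(D.L, (f ⁻¹ᵁ V.1).ι ''ᵁ ⊤)) = res D.L hW (up f t) from
        Groth.PicAux.res_res (M := D.L) _ _ _]
  obtain ⟨e⟩ := tensorPow_one (D.L.restrict (f ⁻¹ᵁ V.1).ι)
  have hg : CohB1.genLocus _ (homOfSection (e.inv.app ⊤ s₀)) =
      gloc (L := D.L.restrict (f ⁻¹ᵁ V.1).ι) s₀ := gloc_map e.inv s₀
  refine ⟨0, homOfSection (e.inv.app ⊤ s₀), ?_, ?_⟩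
  · rw [hg]
    have h1 : x.1 ∈ ((f ⁻¹ᵁ V.1).ι ''ᵁ gloc (L := D.L.restrict (f ⁻¹ᵁ V.1).ι) s₀ : Set X) :=
      hs.ge hxW
    obtain ⟨y, hy, hyx⟩ := h1
    exact Subtype.ext hyx ▸ hy
  · rw [hg, ← (f ⁻¹ᵁ V.1).ι.isAffineOpen_iff_of_isOpenImmersion, hs]
    exact hWa

/-- Polarisation data of a blow-up with the exceptional ideal as module. -/
theorem exists_pol' {X X' : Scheme.{u}} {b : X' ⟶ X} {I : X.IdealSheafData} [QuasiCompact b]
    (hb : BlowUp.IsBlowUp b I) (hI : ∀ U : X.affineOpens, (I.ideal U).FG) :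
    ∃ D : Pol b, D.L = ClSub.idealMod (I.comap b) := by
  classical
  choose G hG using hI
  have hGI : ∀ (A : X.affineOpens), ∀ g ∈ G A, g ∈ I.ideal A := fun A g hg =>
    (hG A).le (Submodule.subset_span hg)
  let T : ∀ A : X.Opens, IsAffineOpen A → Set (PSec b (LL b I) A) := fun A hA =>
    sec b I ⟨A, hA⟩ '' (Subtype.val ⁻¹' (↑(G ⟨A, hA⟩) : Set Γ(X, A)))
  refine ⟨{
    L := LL b I
    inv := isInvertible_idealMod hb.1
    T := T
    fin := fun A hA => ((G ⟨A, hA⟩).finite_toSet.preimage Subtype.val_injective.injOn).image _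
    compat := fun A hA r => ?_
    chart := fun A hA z hz => ?_ }, rfl⟩
  · let U : X.affineOpens := ⟨A, hA⟩
    let D : X.affineOpens := ⟨X.basicOpen r, hA.basicOpen r⟩
    have hle : D.1 ≤ U.1 := X.basicOpen_le r
    let ρ := (X.presheaf.map (homOfLE hle).op).hom
    have hmap : (I.ideal U).map ρ = I.ideal D := I.map_ideal (U := D) (V := U) hle
    let G' : Set Γ(X, D.1) := ρ '' ↑(G U)
    have hG' : Submodule.span Γ(X, D.1) G' = I.ideal D := by
      rw [← hmap, ← hG U]
      exact (Ideal.map_span ρ _).symm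
    have key : pres b (LL b I) hle '' T A hA = sec b I D '' (Subtype.val ⁻¹' G') := by
      have e : ∀ (x : I.ideal U), pres b (LL b I) hle (sec b I U x) =
          sec b I D ⟨ρ x.1, hmap ▸ Ideal.mem_map_of_mem ρ x.2⟩ := by
        intro x
        refine fn_injective b I D.1 ?_
        rw [fn_pres, fn_sec, fn_sec]
        exact congr($(b.naturality (homOfLE hle).op) x.1).symm
      ext t
      constructor
      · rintro ⟨_, ⟨x, hx, rfl⟩, rfl⟩
        exact ⟨_, ⟨x.1, hx, rfl⟩, (e x).symm⟩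
      · rintro ⟨⟨_, hy⟩, ⟨x, hx, rfl⟩, rfl⟩
        exact ⟨_, ⟨⟨x, hGI U x hx⟩, hx, rfl⟩, e _⟩
    rw [key, span_sec_image b I D hG']
    exact (span_sec_image b I D (hG D)).symm
  · let U : X.affineOpens := ⟨A, hA⟩
    obtain ⟨W, hW, hch, hcov, hov⟩ := exists_charts hb U
    obtain ⟨a, hza⟩ := hcov z hz
    let φ : ∀ a : I.ideal U, Γ(X, A) →+* Γ(X', (W a).1) := fun a => (b.appLE A (W a).1 (hW a)).hom
    have hres : ∀ (a : I.ideal U) (y : I.ideal U),
        OmegaSh.idealSect (I.comap b) (W a).1 (Groth.PicAux.res (LL b I) (hW a) (up b (sec b I U y))) = φ a y.1 := by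
      intro a y
      rw [idealSect_res']
      exact congrArg (resX X' (hW a)) (fn_sec b I U y)
    have hgen : ∀ a : I.ideal U, Gen (LL b I) (W a).1 (Groth.PicAux.res (LL b I) (hW a) (up b (sec b I U a))) := by
      intro a
      refine gen_idealMod (W a) ?_ ?_
      · rw [hres]
        exact Groth.Divisors.isNzdSec_of_mem (W a).2 (hch a).nzd
      · rw [hres, Groth.Divisors.ideal_comap_affine I b U (W a) (hW a)]
        exact (hch a).span_eq
    obtain ⟨g, hgG, hzg⟩ : ∃ g : I.ideal U, g.1 ∈ G U ∧ z ∈ (W g).1 := by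
      by_contra hcon
      push Not at hcon
      let P : Ideal Γ(X', (W a).1) :=
        (IsLocalRing.maximalIdeal (X'.presheaf.stalk z)).comap (X'.presheaf.germ (W a).1 z hza).hom
      have hle : I.ideal U ≤ Ideal.comap (φ a) (Ideal.span {φ a a.1} * P) := by
        refine (hG U).ge.trans (Ideal.span_le.2 fun g hg => ?_)
        obtain ⟨γ, hγ, hγW⟩ := hov ⟨g, hGI U g hg⟩ a
        refine Ideal.mem_comap.2 (Ideal.mem_span_singleton_mul.2 ⟨γ, fun hu => ?_, ?_⟩)
        · exact hcon ⟨g, hGI U g hg⟩ hg (hγW ((X'.mem_basicOpen γ z hza).2 hu))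
        · exact (mul_comm _ _).trans hγ.symm
      obtain ⟨p, hp, hpe⟩ := Ideal.mem_span_singleton_mul.1 (hle a.2)
      have h1 : (p - 1) * φ a a.1 = 0 := by rw [sub_mul, one_mul, mul_comm p, hpe, sub_self]
      rw [(sub_eq_zero.1 ((hch a).nzd.2 _ h1) : p = 1)] at hp
      exact (Ideal.comap_ne_top _ (IsLocalRing.maximalIdeal.isMaximal _).ne_top) ((Ideal.eq_top_iff_one _).2 hp)
    refine ⟨sec b I U g, ⟨g, hgG, rfl⟩, (W g).1, hW g, hzg, (W g).2, hgen g, ?_, ?_⟩
    · intro V hV hVg y hy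
      obtain ⟨c, hyc⟩ := hcov y (hV hy)
      obtain ⟨γ, hγ, hγW⟩ := hov g c
      let V' := V ⊓ (W c).1
      obtain ⟨δ, hδ⟩ := (hVg.res (inf_le_left : V' ≤ V)).exists_coeff le_rfl
        (Groth.PicAux.res (LL b I) ((inf_le_right : V' ≤ (W c).1).trans (hW c)) (up b (sec b I U c)))
      have h1 : Groth.PicAux.res (LL b I) (hW c) (up b (sec b I U g)) =
          γ • Groth.PicAux.res (LL b I) (hW c) (up b (sec b I U c)) := by
        refine Groth.OmegaSheaf.idealSect_injective _ _ ?_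
        rw [Groth.OmegaSheaf.idealSect_smul, hres, hres]
        exact hγ
      have h2 := congrArg (Groth.PicAux.res (LL b I) (inf_le_right : V' ≤ (W c).1)) h1
      rw [Groth.PicAux.res_smul, Groth.PicAux.res_res, Groth.PicAux.res_res] at h2
      simp only [Groth.PicAux.res_res] at hδ
      rw [h2, ← mul_smul] at hδ
      have h3 : (1 : Γ(X', V')) = δ * resX X' (inf_le_right : V' ≤ (W c).1) γ := by
        refine ((hgen c).res (inf_le_right : V' ≤ (W c).1)).smul_inj le_rfl ?_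
        simp only [Groth.PicAux.res_res, one_smul]
        exact hδ
      refine hγW ((X'.mem_basicOpen γ y hyc).2 ?_)
      have hu : IsUnit (resX X' (inf_le_right : V' ≤ (W c).1) γ) := IsUnit.of_mul_eq_one_right _ h3.symm
      have := hu.map (X'.presheaf.germ V' y ⟨hy, hyc⟩).hom
      rwa [resX, TopCat.Presheaf.germ_res_apply] at this
    · obtain ⟨R, hR⟩ : ∃ R, R = Subring.closure (Set.range (b.appLE A (W g).1 (hW g)) ∪
          {c | ∃ t' ∈ T A hA, c • Groth.PicAux.res (LL b I) (hW g) (up b (sec b I U g)) =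
            Groth.PicAux.res (LL b I) (hW g) (up b t')}) := ⟨_, rfl⟩
      rw [← hR]
      refine (Subring.eq_top_iff' R).2 fun x => ?_
      obtain ⟨m, c, hc, he⟩ := (hch g).surj x
      obtain ⟨r, hr, hr'⟩ := coeff_ideal_pow (φ g) R
        (fun a => hR ▸ Subring.subset_closure (Or.inl ⟨a, rfl⟩)) (I.ideal U) (↑(G U)) (hG U) (φ g g.1)
        (fun y hy => by
          obtain ⟨r, hr⟩ := (hgen g).exists_coeff le_rfl
            (Groth.PicAux.res (LL b I) (hW g) (up b (sec b I U ⟨y, hGI U y hy⟩)))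
          rw [Groth.PicAux.res_self] at hr
          refine ⟨r, hR ▸ Subring.subset_closure (Or.inr ⟨_, ⟨_, hy, rfl⟩, hr.symm⟩), ?_⟩
          have h := congrArg (OmegaSh.idealSect (I.comap b) (W g).1) hr
          rw [Groth.OmegaSheaf.idealSect_smul, hres, hres] at h
          rw [h, mul_comm]) m hc
      have hn := Submonoid.pow_mem _ (hch g).nzd m
      rw [(mul_cancel_left_mem_nonZeroDivisors hn).1 (he.symm.trans hr')]
      exact hr

/-- Off its support an ideal has the everywhere generating section `1`. -/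
theorem exists_gen_off_support (I : X.IdealSheafData) {W : X.Opens}
    (hW : ∀ x ∈ W, x ∉ I.support) : ∃ k : Γ(ClSub.idealMod I, W), Gen (ClSub.idealMod I) W k := by
  have hempty : I.subschemeι ⁻¹ᵁ W = ⊥ := by
    ext x
    simp only [Opens.coe_bot, Set.mem_empty_iff_false, iff_false]
    intro hx
    exact hW _ hx ((congrArg (fun s : Set X => I.subschemeι x ∈ s) I.range_subschemeι).mp ⟨x, rfl⟩)
  have : Subsingleton Γ(I.subscheme, I.subschemeι ⁻¹ᵁ W) := by
    rw [hempty]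
    exact CommRingCat.subsingleton_of_isTerminal I.subscheme.sheaf.isTerminalOfEmpty
  obtain ⟨k, hk⟩ := Groth.OmegaSheaf.exists_idealSect_eq I W 1 (Subsingleton.elim _ _)
  choose Z hxZ hZW using fun x : (W : Type u) => Divisors.exists_affine_le x.1 W x.2
  refine ⟨k, Gen.of_cover (fun x => (Z x).1) hZW
    (fun x hx => Opens.mem_iSup.2 ⟨⟨x, hx⟩, hxZ ⟨x, hx⟩⟩) fun x => ?_⟩
  have h1 : OmegaSh.idealSect I (Z x).1 (res _ (hZW x) k) = 1 := by
    rw [idealSect_res', hk]
    exact map_one _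
  refine gen_idealMod (Z x) ?_ ?_
  · rw [h1]
    exact Groth.Divisors.isNzdSec_of_mem (Z x).2 (one_mem _)
  · rw [h1, Ideal.span_singleton_one, Ideal.eq_top_iff_one]
    exact h1 ▸ Groth.OmegaSheaf.idealSect_mem I (Z x) _

end Groth.NagComp.PolAmple
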