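import Groth.Agent.NagComp.DenseComp

/-!
# Proper quasi-dominations from a proper scheme mapping to compactifications
-/

universe u

open AlgebraicGeometry CategoryTheory Limits

set_option linter.style.haveILetI false

namespace Groth.NagComp

variable {U P Xi Xb S : Scheme.{u}}

/-- A proper `S`-scheme mapping to a compactification `Xb` of `Xi` properly quasi-dominates `Xi`. -/
theorem exists_properQuasiDom (q : P ⟶ S) [IsProper q] (pi : Xi ⟶ S) (pb : Xb ⟶ S) [IsProper pb]
    (o : Xi ⟶ Xb) [IsOpenImmersion o] (ho : o ≫ pb = pi) (pr : P ⟶ Xb) (hpr : pr ≫ pb = q)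
    (j : U ⟶ P) [IsSchemeTheoreticallyDominant j] [QuasiCompact j] (ji : U ⟶ Xi)
    (hj : j ≫ pr = ji ≫ o) :
    ∃ (W : P.Opens) (l : U ⟶ (W : Scheme.{u})) (φ : (W : Scheme.{u}) ⟶ Xi) (hφ : W.ι ≫ q = φ ≫ pi),
      l ≫ W.ι = j ∧ l ≫ φ = ji ∧ IsProper φ ∧
      IsClosed (Set.range (fun x => pullback.lift W.ι φ hφ x)) := by
  let R : Xb.Opens := o.opensRange
  haveI : IsProper (pr ≫ pb) := hpr.symm ▸ inferInstance
  haveI : IsProper pr := IsProper.of_comp pr pb
  let W : P.Opens := pr ⁻¹ᵁ R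
  let φ : (W : Scheme.{u}) ⟶ Xi := (pr ∣_ R) ≫ o.isoOpensRange.inv
  haveI : IsProper (pr ∣_ R) := IsZariskiLocalAtTarget.restrict ‹_› R
  haveI : IsProper φ := inferInstance
  have hφo : φ ≫ o = W.ι ≫ pr := by
    simp only [φ, W, R, Category.assoc, Scheme.Hom.isoOpensRange_inv_comp, morphismRestrict_ι]
  have hφ : W.ι ≫ q = φ ≫ pi := by rw [← ho, reassoc_of% hφo, hpr]
  have hr : Set.range j ⊆ Set.range W.ι := by
    rintro _ ⟨x, rfl⟩
    rw [Scheme.Opens.range_ι]
    exact ⟨ji x, (congr($hj x)).symm⟩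
  let l := IsOpenImmersion.lift W.ι j hr
  have hl : l ≫ W.ι = j := IsOpenImmersion.lift_fac _ _ _
  refine ⟨W, l, φ, hφ, hl, ?_, inferInstance, ?_⟩
  · rw [← cancel_mono o, Category.assoc, hφo, reassoc_of% hl, hj]
  let γ : P ⟶ pullback q pb := pullback.lift (𝟙 P) pr (by rw [Category.id_comp, hpr])
  haveI : IsClosedImmersion (γ ≫ pullback.fst q pb) := by rw [pullback.lift_fst]; infer_instance
  haveI : IsClosedImmersion γ := IsClosedImmersion.of_comp γ (pullback.fst q pb)
  let m : pullback q pi ⟶ pullback q pb :=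
    pullback.map _ _ _ _ (𝟙 P) o (𝟙 S) (by simp) (by rw [Category.comp_id, ho])
  have hm : pullback.lift W.ι φ hφ ≫ m = W.ι ≫ γ := by
    apply pullback.hom_ext
    · simp only [m, γ, Category.assoc, pullback.lift_fst, pullback.lift_fst_assoc, Category.comp_id]
    · simp only [m, γ, Category.assoc, pullback.lift_snd, pullback.lift_snd_assoc, hφo]
  have e : Set.range (fun x => pullback.lift W.ι φ hφ x) = m.base ⁻¹' Set.range γ.base := by
    ext z
    constructor
    · rintro ⟨w, rfl⟩
      exact ⟨W.ι w, (congr($hm w)).symm⟩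
    · rintro ⟨x, hx⟩
      have hxW : x ∈ W := by
        refine ⟨pullback.snd q pi z, ?_⟩
        have h := congrArg (pullback.snd q pb) hx
        rw [← Scheme.Hom.comp_apply, pullback.lift_snd, ← Scheme.Hom.comp_apply,
          show m ≫ pullback.snd q pb = pullback.snd q pi ≫ o from pullback.lift_snd _ _ _,
          Scheme.Hom.comp_apply] at h
        exact h.symm
      refine ⟨⟨x, hxW⟩, m.isOpenEmbedding.injective ?_⟩
      show m (pullback.lift W.ι φ hφ ⟨x, hxW⟩) = m z
      rw [← Scheme.Hom.comp_apply, hm]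
      exact hx
  rw [e]
  exact γ.isClosedEmbedding.isClosed_range.preimage m.continuous

end Groth.NagComp
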