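import Groth.Agent.NagComp.FibreSections

/-!
# A modification with ample section over an open embeds in a bundle receiving the whole scheme
-/

universe u

open CategoryTheory CategoryTheory.Limits AlgebraicGeometry Opposite TopologicalSpace

set_option backward.isDefEq.respectTransparency.types false
set_option linter.style.haveILetI false

noncomputable section

namespace Groth.NagComp.SectionEmbed

open Groth.PicAux Groth.PropsBasic.Ample Groth.Chow Groth.Ega2Proj Groth.RelTw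

variable {Z Y X : Scheme.{u}}

set_option maxHeartbeats 1000000 in
/-- A `Y`-blow-up of an open `V` embeds over `V` in a projective bundle to which all of `Y` maps. -/
theorem exists_embedding [CompactSpace X] [QuasiSeparatedSpace X] (f : Y ⟶ X) [IsAffineHom f]
    (V : X.Opens) (hV : IsCompact (V : Set X)) (g : Z ⟶ V) [IsProper g]
    (w : (f ⁻¹ᵁ V : Scheme.{u}) ⟶ Z) (hw : w ≫ g = f ∣_ V) {L : Z.Modules}
    (hL : RelAmple.IsRelAmple g L) (s : Γ(L, ⊤)) (hs : w ⁻¹ᵁ gloc s = ⊤) :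
    ∃ (P : Scheme.{u}) (p : P ⟶ X) (O1 : P.Modules) (ψ : Γ(O1, ⊤)) (r : Y ⟶ P)
      (r' : Z ⟶ ↑(p ⁻¹ᵁ V)), IsProper p ∧ RelAmple.IsRelAmple p O1 ∧ IsClosedImmersion r' ∧
      r ≫ p = f ∧ r' ≫ (p ∣_ V) = g ∧ (f ⁻¹ᵁ V).ι ≫ r = w ≫ r' ≫ (p ⁻¹ᵁ V).ι ∧
      r ⁻¹ᵁ gloc ψ = ⊤ := by
  classical
  haveI : CompactSpace (V : Scheme.{u}) := isCompact_iff_compactSpace.1 hV
  haveI : QuasiCompact V.ι := QuasiCompact.of_comp V.ι (terminal.from X)
  haveI : IsAffineHom w := by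
    haveI : IsAffineHom (f ∣_ V) := IsZariskiLocalAtTarget.restrict (inferInstance : IsAffineHom f) V
    haveI : IsAffineHom (w ≫ g) := by rw [hw]; infer_instance
    exact IsAffineHom.of_comp w g
  haveI : CompactSpace Z := QuasiCompact.compactSpace_of_compactSpace g
  let gg : Z ⟶ X := g ≫ V.ι
  let j := (f ⁻¹ᵁ V).ι
  have hc : w ≫ gg = j ≫ f := by rw [← Category.assoc, hw, morphismRestrict_ι]
  have hLi := Groth.Ega2Proj.isInvertible_of_isRelAmple hL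
  choose B hxB hBV using fun z : Z => Divisors.exists_affine_le (gg z) V (g z).2
  have hBa : ∀ z, IsAffineOpen (V.ι ⁻¹ᵁ (B z).1) := fun z =>
    (B z).2.preimage_of_isOpenImmersion V.ι (by rw [Scheme.Opens.opensRange_ι]; exact hBV z)
  choose W' hW'aff hxW' _ hW'sec using fun z : Z =>
    exists_uniform_sections_le (hL.2 ⟨V.ι ⁻¹ᵁ (B z).1, hBa z⟩) ⟨z, hxB z⟩ ⊤ trivial
  let Wz : Z → Z.Opens := fun z => (g ⁻¹ᵁ (V.ι ⁻¹ᵁ (B z).1)).ι ''ᵁ W' z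
  have hWaff : ∀ z, IsAffineOpen (Wz z) := fun z => (hW'aff z).image_of_isOpenImmersion _
  have hWB : ∀ z, Wz z ≤ g ⁻¹ᵁ (V.ι ⁻¹ᵁ (B z).1) := fun z => Scheme.Opens.ι_image_le _ _
  have hxW : ∀ z, z ∈ Wz z := fun z => ⟨⟨z, hxB z⟩, hxW' z, rfl⟩
  obtain ⟨t, ht⟩ := isCompact_univ.elim_finite_subcover (fun z => (Wz z : Set Z))
    (fun z => (Wz z).isOpen) (fun z _ => Set.mem_iUnion.2 ⟨z, hxW z⟩)
  have hft : ∀ z : Z, ∃ G : Finset Γ(((g ⁻¹ᵁ (V.ι ⁻¹ᵁ (B z).1) : Z.Opens) : Scheme.{u}), W' z),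
      Subring.closure (Set.range (gg.appLE (B z).1 (Wz z) (hWB z)) ∪
        ((fun a => (a : Γ(Z, Wz z))) '' (G : Set Γ(((g ⁻¹ᵁ (V.ι ⁻¹ᵁ (B z).1) : Z.Opens) : Scheme.{u}), W' z)))) = ⊤ := by
    intro z
    have hft := gg.finiteType_appLE (B z).2 (hWaff z) (hWB z)
    letI : Algebra Γ(X, (B z).1) Γ(Z, Wz z) := (gg.appLE (B z).1 (Wz z) (hWB z)).hom.toAlgebra
    haveI : Algebra.FiniteType Γ(X, (B z).1) Γ(Z, Wz z) := hft
    obtain ⟨G, hG⟩ := Algebra.FiniteType.out (R := Γ(X, (B z).1)) (A := Γ(Z, Wz z))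
    refine ⟨G, ?_⟩
    have h2 := congrArg Subalgebra.toSubring hG
    rw [Algebra.adjoin_eq_ring_closure, Algebra.top_toSubring] at h2
    refine Eq.trans ?_ h2
    congr 2
    exact Set.image_id _
  choose G hG using hft
  choose n₀ hn₀ using fun z => hW'sec z (G z)
  let n := t.sup n₀ + 1
  choose σ' hσ' b' hb' using fun z : t => hn₀ z n ((Finset.le_sup z.2).trans (Nat.le_succ _))
  let L' := CohB1.tensorPow L n
  have hL' : PicF.IsInvertible L' := isInvertible_tensorPow hLi n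
  let s' : Γ(L', ⊤) := powSec s n
  have hs' : w ⁻¹ᵁ gloc s' = ⊤ := by rw [gloc_powSec hLi s (Nat.succ_pos _)]; exact hs
  obtain ⟨H, hH, fst, snd, h₀, hfst, hsnd, hcompat, hsurj⟩ :=
    FibreSec.exists_fibreSections f gg w j hc hL' s' hs'
  let φ : ∀ z : Z, L'.restrict (g ⁻¹ᵁ (V.ι ⁻¹ᵁ (B z).1)).ι ≅ CohB1.tensorPow (L.restrict (g ⁻¹ᵁ (V.ι ⁻¹ᵁ (B z).1)).ι) n :=
    fun z => (Groth.Ega2Proj.exists_tensorPow_restrict (L := L) (g ⁻¹ᵁ (V.ι ⁻¹ᵁ (B z).1)).ι n).some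
  have htop : ∀ z : Z, g ⁻¹ᵁ (V.ι ⁻¹ᵁ (B z).1) ≤ (g ⁻¹ᵁ (V.ι ⁻¹ᵁ (B z).1)).ι ''ᵁ ⊤ := fun z => (Scheme.Opens.ι_image_top _).ge
  let tr : ∀ (z : Z), Γ(CohB1.tensorPow (L.restrict (g ⁻¹ᵁ (V.ι ⁻¹ᵁ (B z).1)).ι) n, ⊤) → Γ(L', g ⁻¹ᵁ (V.ι ⁻¹ᵁ (B z).1)) :=
    fun z a => res L' (htop z) ((φ z).inv.app ⊤ a : Γ(L', (g ⁻¹ᵁ (V.ι ⁻¹ᵁ (B z).1)).ι ''ᵁ ⊤))
  have hrange : ∀ z, f ⁻¹ᵁ (B z).1 ≤ j.opensRange := fun z => by
    rw [Scheme.Opens.opensRange_ι]; exact f.preimage_mono (hBV z)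
  let κ := (t : Type u) ⊕ (Σ z : t, (G z : Type u))
  let idx : κ → Z := Sum.elim (fun z => (z : Z)) fun p => (p.1 : Z)
  let sec : ∀ c : κ, Γ(L', g ⁻¹ᵁ (V.ι ⁻¹ᵁ (B (idx c)).1)) := fun c => match c with
    | .inl z => tr z (σ' z)
    | .inr ⟨z, a⟩ => tr z (b' z a a.2)
  choose lift hlift using fun c : κ => hsurj (B (idx c)).1 (B (idx c)).2 (hrange _) (sec c)
  obtain ⟨E₁, k₁, hE₁, hE₁f, hk₁⟩ := QEmb.exists_ftSub (F := H) (fun c => (B (idx c)).1)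
    (fun c => (B (idx c)).2) lift
  choose e₁ he₁ using hk₁
  obtain ⟨E, k, a₁, a₀, -, hE, ha₁, ha₀⟩ := Groth.QCohMod.exists_sup k₁ (homOfSection (M := H) h₀)
    ((Groth.QCohMod.isCoh_iff E₁).2 ⟨hE₁, hE₁f⟩) (AffComp.isCoh_structure X)
  have : E.IsQuasicoherent := hE.1
  have hEf := ((Groth.QCohMod.isCoh_iff E).1 hE).2
  let e₀ : Γ(E, ⊤) := a₀.app ⊤ (oneSec X ⊤)
  have he₀ : k.app ⊤ e₀ = h₀ := (congr(($ha₀).app ⊤ (oneSec X ⊤))).trans (homOfSection_one _)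
  let σY : LinData f E (Coh.structureModule Y) := FibreSec.linOfHom f (k ≫ fst)
  let σL : LinData gg E L' := FibreSec.linOfHom gg (k ≫ snd)
  let eB : ∀ U : X.Opens, Γ(E, U) := fun U => Groth.PicAux.res E le_top e₀
  have hσY : ∀ U : X.Opens, σY.app U (eB U) = oneSec Y (f ⁻¹ᵁ U) := fun U =>
    ((σY.app_res ⊤ U le_top e₀).symm.trans (congrArg (Groth.PicAux.res _ _)
      ((congrArg (fst.app ⊤) he₀).trans hfst))).trans (res_oneSec _)
  have hσL : ∀ U : X.Opens, σL.app U (eB U) = res L' (le_top : gg ⁻¹ᵁ U ≤ ⊤) s' := fun U =>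
    (σL.app_res ⊤ U le_top e₀).symm.trans (congrArg (Groth.PicAux.res _ _)
      ((congrArg (snd.app ⊤) he₀).trans hsnd))
  have hlocY : ∀ U : X.Opens, σY.genLoc U (eB U) = f ⁻¹ᵁ U := fun U =>
    le_antisymm (σY.genLoc_le _ _) (σY.le_genLoc le_rfl (by
      rw [Groth.PicAux.res_self, hσY]; exact gen_oneSec _))
  have hlocL : ∀ U : X.Opens, gloc s' ⊓ gg ⁻¹ᵁ U ≤ σL.genLoc U (eB U) := fun U =>
    σL.le_genLoc inf_le_right (by
      rw [hσL, Groth.PicAux.res_res]; exact gen_gloc s' inf_le_left)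
  let e : ∀ c : κ, Γ(E, (B (idx c)).1) := fun c => a₁.app _ (e₁ c)
  have he : ∀ c : κ, σL.app (B (idx c)).1 (e c) = sec c := fun c => by
    refine Eq.trans ?_ (hlift c)
    refine congrArg (snd.app _) ?_
    exact (congr(($ha₁).app (B (idx c)).1 (e₁ c))).trans (he₁ c)
  let 𝒮 := Groth.SymAlg.symGr E
  have hj := Groth.SymAlg.isGrSymAlg_symGr (E := E)
  obtain ⟨P, p, chart, hP⟩ := Groth.Ega2P2.exists_isRelProj 𝒮
  have hO1 := Groth.RelTw.isRelTwist_relTwist hP 1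
  obtain ⟨φ₁, hφ₁⟩ := exists_phi hj hP hO1
  have hgen := isGenDegOne_sym hj
  have hft1 := isFTDeg_one_sym hj hEf
  have hp : RelProj.IsProjective p :=
    ⟨𝒮, P, p, chart, Iso.refl P, hgen, hft1, hP, Category.id_comp p⟩
  haveI : IsProper p := Groth.Chow.isProper_of_isProjective hp
  have hamp := isRelAmple_relTwist_one hgen hft1 hP hO1
  -- the loci
  have hgs : ∀ z : t, gloc (L := L'.restrict (g ⁻¹ᵁ (V.ι ⁻¹ᵁ (B z).1)).ι) ((φ z).inv.app ⊤ (σ' z)) = W' z := fun z =>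
    (gloc_map (φ z).inv _).trans (hσ' z)
  have hloc : ∀ z : t, σL.genLoc (B z).1 (e (.inl z)) = Wz z := by
    intro z
    have hs₀ : ∀ (O : Z.Opens) (hO : O ≤ g ⁻¹ᵁ (V.ι ⁻¹ᵁ (B z).1)), res L' hO (σL.app (B z).1 (e (.inl z))) =
        res L' (hO.trans (htop z)) ((φ z).inv.app ⊤ (σ' z) : Γ(L', (g ⁻¹ᵁ (V.ι ⁻¹ᵁ (B z).1)).ι ''ᵁ ⊤)) := fun O hO => by
      have h1 : σL.app (B z).1 (e (.inl z)) = tr z (σ' z) := he (.inl z)
      rw [h1]
      exact Groth.PicAux.res_res (M := L') _ _ _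
    refine le_antisymm ?_ (σL.le_genLoc (hWB z) ?_)
    · have h := (congrArg (Gen L' _) (hs₀ _ (σL.genLoc_le _ _))).mp (σL.gen_genLoc (B z).1 (e (.inl z)))
      exact ((le_image_gloc_restrict _ (σL.genLoc_le _ _) ((σL.genLoc_le _ _).trans (htop z))).2 h).trans
        ((g ⁻¹ᵁ (V.ι ⁻¹ᵁ (B z).1)).ι.image_mono (hgs z).le)
    · exact (congrArg (Gen L' _) (hs₀ _ (hWB z))).mpr
        ((le_image_gloc_restrict _ (hWB z) ((hWB z).trans (htop z))).1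
          ((g ⁻¹ᵁ (V.ι ⁻¹ᵁ (B z).1)).ι.image_mono (hgs z).ge))
  have hcov : ∀ z : Z, ∃ x : t, z ∈ Wz x := fun z => by
    obtain ⟨x, hx⟩ := Set.mem_iUnion₂.1 (ht (Set.mem_univ z))
    exact ⟨⟨x, hx.1⟩, hx.2⟩
  obtain ⟨r, hr⟩ := exists_fits σY hj hP hO1 hφ₁ fun y => by
    obtain ⟨_, ⟨U, hU, rfl⟩, hy, -⟩ :=
      X.isBasis_affineOpens.exists_subset_of_mem_open (Set.mem_univ (f y)) isOpen_univ
    exact ⟨U, hU, eB U, (hlocY U).ge hy⟩
  obtain ⟨r₂, hr₂⟩ := exists_fits σL hj hP hO1 hφ₁ fun z => by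
    obtain ⟨x, hx⟩ := hcov z
    exact ⟨(B x).1, (B x).2, e (.inl x), (hloc x).ge hx⟩
  let D : t → P.Opens := fun x => dPlus p chart (Groth.SymAlg.jSym E) (B x).1 (B x).2 (e (.inl x))
  haveI : IsImmersion r₂ := by
    refine isImmersion_of_pieces r₂ D (fun z => ?_) fun x => ?_
    · obtain ⟨x, hx⟩ := hcov z
      exact ⟨x, (hr₂.pre (B x).1 (B x).2 (e (.inl x))).ge ((hloc x).ge hx)⟩
    refine QEmb.isClosedImmersion_restrict r₂ (isAffineOpen_dPlus hj (B x).1 (B x).2 _)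
      (hloc x ▸ hWaff x) (hr₂.pre _ _ _) ?_
    refine (congrArg (fun m => Function.Surjective (CommRingCat.Hom.hom m))
      (hr₂.fn (B x).1 (B x).2 (e (.inl x)) (hr₂.pre _ _ _).ge)).mpr ?_
    set ex := e (.inl x)
    suffices h : Function.Surjective (σL.fracHom hj (B x).2 ex) from
      h.comp (ConcreteCategory.bijective_of_isIso (coord hj chart (B x).1 (B x).2 ex).inv).2
    let R := (σL.fracHom hj (B x).2 ex).range
    suffices hR : R = ⊤ from fun z => hR.ge (Subring.mem_top z)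
    have hbase : ∀ a, (gg.appLE (B x).1 (σL.genLoc (B x).1 ex) (σL.genLoc_le _ _)).hom a ∈ R := fun a =>
      ⟨jfrac hj (B x).1 (B x).2 ex 0 (𝒮.str_mem (B x).1 (B x).2 a),
        (σL.fracHom_jfrac hj (B x).2 ex 0 (𝒮.str_mem (B x).1 (B x).2 a)).trans (σL.algHom_str hj (B x).2 ex a)⟩
    have hrat : ∀ e', σL.ratio (B x).1 ex e' ∈ R := fun e' =>
      ⟨jfrac hj (B x).1 (B x).2 ex 1 (hj.2 (B x).1 (B x).2 e'),
        (σL.fracHom_jfrac hj (B x).2 ex 1 (hj.2 (B x).1 (B x).2 e')).trans (σL.algHom_j hj (B x).2 ex e')⟩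
    have key : ∀ (O : Z.Opens) (eO : O = Wz x) (hO : O ≤ g ⁻¹ᵁ (V.ι ⁻¹ᵁ (B x).1)) (S : Subring Γ(Z, O)),
        (∀ a, (gg.appLE (B x).1 O hO).hom a ∈ S) →
        (∀ a ∈ G x, ∃ e' : Γ(E, (B x).1), ∀ c : Γ(Z, O),
          c • res L' hO (σL.app (B x).1 ex) = res L' hO (σL.app (B x).1 e') → c ∈ S → resX Z eO.ge c = a) →
        (∀ e' : Γ(E, (B x).1), ∃ c : Γ(Z, O),
          c • res L' hO (σL.app (B x).1 ex) = res L' hO (σL.app (B x).1 e') ∧ c ∈ S) → S = ⊤ := by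
      rintro O rfl hO S h1 h2 h3
      refine top_le_iff.1 ((hG x).ge.trans (Subring.closure_le.2 ?_))
      rintro a (⟨a, rfl⟩ | ⟨a, ha, rfl⟩)
      · exact h1 a
      · obtain ⟨e', he'⟩ := h2 a ha
        obtain ⟨c, hc, hcS⟩ := h3 e'
        have := he' c hc hcS
        rw [resX_self] at this
        exact this ▸ hcS
    refine key _ (hloc x) (σL.genLoc_le _ _) R hbase (fun a ha => ⟨e (.inr ⟨x, ⟨a, ha⟩⟩), fun c hc _ => ?_⟩)
      fun e' => ⟨_, σL.ratio_smul _ _ e', hrat e'⟩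
    have hWx : Wz x ≤ (g ⁻¹ᵁ (V.ι ⁻¹ᵁ (B x).1)).ι ''ᵁ ⊤ := (hWB x).trans (htop x)
    have h1 := ((app_res (φ x).inv (le_top : W' x ≤ ⊤) (b' x a ha)).symm.trans
      (congrArg ((φ x).inv.app (W' x)) (hb' x a ha))).trans
        (((φ x).inv.app_smul a _).trans (congrArg (a • ·) (app_res (φ x).inv (le_top : W' x ≤ ⊤) (σ' x))))
    have h1' : res L' hWx ((φ x).inv.app ⊤ (b' x a ha) : Γ(L', (g ⁻¹ᵁ (V.ι ⁻¹ᵁ (B x).1)).ι ''ᵁ ⊤)) =
        (show Γ(Z, Wz x) from a) • res L' hWx ((φ x).inv.app ⊤ (σ' x) : Γ(L', (g ⁻¹ᵁ (V.ι ⁻¹ᵁ (B x).1)).ι ''ᵁ ⊤)) :=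
      h1.trans (restrict_smul _ _ _ _)
    have h2 := congrArg (res L' (hloc x).ge) hc
    rw [res_smul, res_res, res_res] at h2
    have hex : σL.app (B x).1 ex = tr x (σ' x) := he (.inl x)
    have heg : σL.app (B x).1 (e (.inr ⟨x, ⟨a, ha⟩⟩)) = tr x (b' x a ha) := he (.inr ⟨x, ⟨a, ha⟩⟩)
    rw [hex, heg] at h2
    have e1 : res L' (hWB x) (tr x (σ' x)) =
        res L' hWx ((φ x).inv.app ⊤ (σ' x) : Γ(L', (g ⁻¹ᵁ (V.ι ⁻¹ᵁ (B x).1)).ι ''ᵁ ⊤)) := Groth.PicAux.res_res (M := L') _ _ _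
    have e2 : res L' (hWB x) (tr x (b' x a ha)) =
        res L' hWx ((φ x).inv.app ⊤ (b' x a ha) : Γ(L', (g ⁻¹ᵁ (V.ι ⁻¹ᵁ (B x).1)).ι ''ᵁ ⊤)) := Groth.PicAux.res_res (M := L') _ _ _
    rw [e1, e2, h1'] at h2
    have hgx := (σL.gen_genLoc (B x).1 ex).res (hloc x).ge
    have hgx' := Eq.mp (congrArg (Gen L' (Wz x)) ((Groth.PicAux.res_res (M := L') _ _ _).trans
      ((congrArg (res L' (hWB x)) hex).trans e1))) hgx
    exact hgx'.smul_inj le_rfl (by rw [res_self]; exact h2)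
  -- agreement on `f ⁻¹ V`
  have hagree : j ≫ r = w ≫ r₂ := by
    choose C hxC hCV using fun v : (f ⁻¹ᵁ V : Scheme.{u}) =>
      Divisors.exists_affine_le (f v.1) V v.2
    let Gv : (f ⁻¹ᵁ V : Scheme.{u}) → (f ⁻¹ᵁ V : Scheme.{u}).Opens := fun v => w ⁻¹ᵁ (gg ⁻¹ᵁ (C v).1)
    have heq : ∀ U : X.Opens, j ⁻¹ᵁ (f ⁻¹ᵁ U) = w ⁻¹ᵁ (gg ⁻¹ᵁ U) := fun U =>
      (congrArg (fun q : (f ⁻¹ᵁ V : Scheme.{u}) ⟶ X => q ⁻¹ᵁ U) hc).symm
    refine (Scheme.openCoverOfIsOpenCover _ Gv (eq_top_iff.2 fun v _ =>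
      Opens.mem_iSup.2 ⟨v, (heq _).le (hxC v)⟩)).hom_ext _ _ fun v => ?_
    change (Gv v).ι ≫ j ≫ r = (Gv v).ι ≫ w ≫ r₂
    let U := (C v).1
    let Dv := dPlus p chart (Groth.SymAlg.jSym E) U (C v).2 (eB U)
    have hA : Gv v ≤ j ⁻¹ᵁ σY.genLoc U (eB U) := by rw [hlocY]; exact (heq U).ge
    have hB : Gv v ≤ w ⁻¹ᵁ σL.genLoc U (eB U) := fun x hx =>
      hlocL U ⟨(hs'.ge trivial : x ∈ w ⁻¹ᵁ gloc s'), hx⟩
    have h1 : Gv v ≤ (j ≫ r) ⁻¹ᵁ Dv := hA.trans (j.preimage_mono (hr.pre _ _ _).ge)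
    have h2 : Gv v ≤ (w ≫ r₂) ⁻¹ᵁ Dv := hB.trans (w.preimage_mono (hr₂.pre _ _ _).ge)
    refine ext_affine (isAffineOpen_dPlus hj U (C v).2 (eB U)) (fun x _ => h1 x.2) (fun x _ => h2 x.2) ?_
    rw [← Scheme.Hom.appLE_comp_appLE (Gv v).ι (j ≫ r) _ (Gv v) ⊤ h1 (fun x _ => x.2),
      ← Scheme.Hom.appLE_comp_appLE (Gv v).ι (w ≫ r₂) _ (Gv v) ⊤ h2 (fun x _ => x.2)]
    congr 1
    rw [← Scheme.Hom.appLE_comp_appLE j r _ (σY.genLoc U (eB U)) (Gv v) (hr.pre _ _ _).ge hA,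
      ← Scheme.Hom.appLE_comp_appLE w r₂ _ (σL.genLoc U (eB U)) (Gv v) (hr₂.pre _ _ _).ge hB,
      hr.fn _ _ _ _, hr₂.fn _ _ _ _]
    refine CommRingCat.hom_ext (hom_ext_dPlus hj hP U (C v).2 (eB U) _ _ (fun a => ?_) fun e' => ?_)
    · have hcc : resX P (dPlus_le U (C v).2 (eB U)) (p.app U a) =
          (coord hj chart U (C v).2 (eB U)).hom (jfrac hj U (C v).2 (eB U) 0 (𝒮.str_mem U (C v).2 a)) :=
        (coord_str hj hP U (C v).2 (eB U) a).symm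
      rw [hcc, CommRingCat.comp_apply, CommRingCat.comp_apply, LinData.rho_coord, LinData.rho_coord,
        LinData.fracHom_jfrac, LinData.fracHom_jfrac, LinData.algHom_str, LinData.algHom_str,
        ← CommRingCat.comp_apply, ← CommRingCat.comp_apply, Scheme.Hom.appLE_comp_appLE,
        Scheme.Hom.appLE_comp_appLE]
      simp only [hc]
    · rw [CommRingCat.comp_apply, CommRingCat.comp_apply, LinData.rho_coord, LinData.rho_coord,
        LinData.fracHom_jfrac, LinData.fracHom_jfrac, LinData.algHom_j, LinData.algHom_j]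
      let y : Γ(Coh.structureModule Y, f ⁻¹ᵁ U) := σY.app U e'
      have hy : σY.ratio U (eB U) e' = resX Y (σY.genLoc_le U (eB U)) (toFun y) := by
        have h := congrArg toFun (σY.ratio_smul U (eB U) e')
        rw [toFun_smul, toFun_res, toFun_res, hσY, toFun_oneSec, resX, map_one, mul_one] at h
        exact h
      have hL₂ : Gen ((Scheme.Modules.pullback w).obj L') (Gv v)
          (res _ (le_top : Gv v ≤ ⊤) (pullSec w L' s')) :=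
        gen_gloc (pullSec w L' s') (le_top.trans ((gloc_pullSec w hL' s').trans hs').ge)
      refine hL₂.smul_inj le_rfl ?_
      simp only [Groth.PicAux.res_self]
      have hcm := hcompat U (C v).2 (k.app U e') (heq U).ge
      have hrt := congrArg (fun m => res _ hB (pullSec w L' m)) (σL.ratio_smul U (eB U) e')
      simp only [pullSec_smul, Groth.PicAux.res_smul] at hrt
      rw [hσL, ← res_pullSec, ← res_pullSec, ← res_pullSec, Groth.PicAux.res_res, Groth.PicAux.res_res,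
        Groth.PicAux.res_res] at hrt
      refine Eq.trans ?_ (Eq.trans hrt.symm ?_)
      · refine Eq.trans ?_ (Eq.trans hcm.symm ?_)
        · rw [hy, resX, ← CommRingCat.comp_apply, Scheme.Hom.map_appLE]
          rfl
        · exact (Groth.PicAux.res_self _ _).symm
      · congr 1
  -- the closed immersion over `V`
  have hr₂p : r₂ ≫ p = gg := hr₂.comp
  have hsub : Set.range r₂ ⊆ Set.range (p ⁻¹ᵁ V).ι := by
    rintro _ ⟨z, rfl⟩
    rw [Scheme.Opens.range_ι]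
    show p (r₂ z) ∈ V
    rw [← Scheme.Hom.comp_apply, hr₂p]
    exact (g z).2
  let r' := IsOpenImmersion.lift (p ⁻¹ᵁ V).ι r₂ hsub
  have hr' : r' ≫ (p ⁻¹ᵁ V).ι = r₂ := IsOpenImmersion.lift_fac _ _ _
  have hr'p : r' ≫ (p ∣_ V) = g := by
    rw [← cancel_mono V.ι, Category.assoc, morphismRestrict_ι, reassoc_of% hr', hr₂p]
  haveI : IsImmersion r' := by
    haveI : IsImmersion (r' ≫ (p ⁻¹ᵁ V).ι) := hr'.symm ▸ inferInstance
    exact IsImmersion.of_comp r' (p ⁻¹ᵁ V).ι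
  haveI : IsProper r' := by
    haveI : IsProper (r' ≫ (p ∣_ V)) := hr'p.symm ▸ inferInstance
    exact IsProper.of_comp r' (p ∣_ V)
  haveI : IsClosedImmersion r' :=
    (IsClosedImmersion.iff_isProper_and_mono _).2 ⟨inferInstance, inferInstance⟩
  refine ⟨P, p, _, (φ₁.app ⊤ e₀ : Γ(Groth.RelTw.relTwist hP 1, ⊤)), r, r', inferInstance, hamp,
    inferInstance, hr.comp, hr'p, by rw [hr']; exact hagree, top_unique fun y _ => ?_⟩
  obtain ⟨_, ⟨U, hU, rfl⟩, hy, -⟩ :=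
    X.isBasis_affineOpens.exists_subset_of_mem_open (Set.mem_univ (f y)) isOpen_univ
  refine (le_gloc (V := dPlus p chart (Groth.SymAlg.jSym E) U hU (eB U)) ?_)
    ((hr.pre U hU (eB U)).ge ((hlocY U).ge hy))
  have h1 : phiSec φ₁ U (eB U) = res _ (le_top : p ⁻¹ᵁ U ≤ ⊤) (φ₁.app ⊤ e₀) :=
    (Groth.QCohMod.res_app φ₁ (le_top : U ≤ ⊤) e₀).symm
  have h2 := gen_app hj hO1 hφ₁ U hU (eB U)
  rw [show φ₁.app U (eB U) = res _ (le_top : p ⁻¹ᵁ U ≤ ⊤) (φ₁.app ⊤ e₀) from h1,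
    Groth.PicAux.res_res] at h2
  exact h2

end Groth.NagComp.SectionEmbed
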