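import Groth.Agent.NagComp.Birational
import Groth.Agent.NagComp.OpenExtend
import Groth.Agent.S1694

/-!
# Two birational morphisms become open immersions after admissible blow-ups
-/

universe u

open CategoryTheory Limits AlgebraicGeometry TopologicalSpace

set_option linter.style.haveILetI false

namespace Groth.NagComp

variable {X Y Y₁ Y₂ : Scheme.{u}}

theorem preimage_le_opensRange {X' Y' : Scheme.{u}} (f : X ⟶ Y) (b : X' ⟶ X) (c : Y' ⟶ Y)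
    (j : X' ⟶ Y') [IsOpenImmersion j] (hw : j ≫ c = b ≫ f) (U : Y.Opens) [IsIso (f ∣_ U)]
    [IsIso (b ∣_ (f ⁻¹ᵁ U))] [IsIso (c ∣_ U)] : c ⁻¹ᵁ U ≤ j.opensRange := by
  intro z hz
  obtain ⟨x, hx⟩ := (f ∣_ U).surjective ⟨c z, hz⟩
  obtain ⟨y, hy⟩ := (b ∣_ (f ⁻¹ᵁ U)).surjective x
  have e1 : f x.1 = c z := by
    have := congrArg Subtype.val hx
    rwa [morphismRestrict_base] at this
  have e2 : b y.1 = x.1 := by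
    have := congrArg Subtype.val hy
    rwa [morphismRestrict_base] at this
  have e3 : c (j y.1) = c z := by
    rw [← Scheme.Hom.comp_apply, hw, Scheme.Hom.comp_apply, e2, e1]
  have hjU : j y.1 ∈ c ⁻¹ᵁ U := show c (j y.1) ∈ U by rw [e3]; exact hz
  have e4 : (c ∣_ U) ⟨j y.1, hjU⟩ = (c ∣_ U) ⟨z, hz⟩ := Subtype.ext (by
    rw [morphismRestrict_base]; exact e3)
  exact ⟨y.1, congrArg Subtype.val ((c ∣_ U).isOpenEmbedding.injective e4)⟩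

theorem isIso_restrict_comp {X' : Scheme.{u}} (b : X' ⟶ X) (f : X ⟶ Y) (U : Y.Opens)
    [IsIso (b ∣_ (f ⁻¹ᵁ U))] [IsIso (f ∣_ U)] : IsIso ((b ≫ f) ∣_ U) := by
  rw [morphismRestrict_comp]
  exact IsIso.comp_isIso' (f := b ∣_ (f ⁻¹ᵁ U)) (h := f ∣_ U) inferInstance inferInstance

/-- A blow-up of an open subscheme of an admissible blow-up is open in an admissible blow-up. -/
theorem exists_blowUp_extend_open [CompactSpace Y] [QuasiSeparatedSpace Y] {Y' X₁ X₂ : Scheme.{u}}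
    {c : Y' ⟶ Y} {K : Y.IdealSheafData} {A : Y.Opens} (hc : BlowUp.IsBlowUp c K)
    (hK : BlowUp.IsAdmissibleFor A K) (j : X₁ ⟶ Y') [IsOpenImmersion j] [CompactSpace X₁]
    (hA : c ⁻¹ᵁ A ≤ j.opensRange) {I₂ : X₁.IdealSheafData}
    (hI₂ : BlowUp.IsAdmissibleFor (j ⁻¹ᵁ (c ⁻¹ᵁ A)) I₂) {b₂ : X₂ ⟶ X₁} (hb₂ : BlowUp.IsBlowUp b₂ I₂) :
    ∃ (K' : Y.IdealSheafData) (Y'' : Scheme.{u}) (c' : Y'' ⟶ Y) (j' : X₂ ⟶ Y''),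
      BlowUp.IsBlowUp c' K' ∧ BlowUp.IsAdmissibleFor A K' ∧ IsOpenImmersion j' ∧
      j' ≫ c' = b₂ ≫ j ≫ c := by
  haveI : IsProper c := HTopHyper.isProper_of_isBlowUp hc hK.1
  haveI : CompactSpace Y' := QuasiCompact.compactSpace_of_compactSpace c
  haveI : QuasiSeparatedSpace Y' := quasiSeparatedSpace_of_quasiSeparated c
  obtain ⟨L, hL, hLj⟩ := exists_ftIdeal_comap_eq j I₂ hI₂.1
  obtain ⟨Y'', d, hd⟩ := BlowUpBasics.exists_isBlowUp Y' L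
  have hP : BlowUp.IsBlowUp (pullback.fst j d) I₂ := hLj ▸
    BlowUpBasics.isBlowUp_of_isPullback hd (IsPullback.of_hasPullback j d)
  obtain ⟨e, he⟩ := BlowUpBasics.exists_iso_of_isBlowUp hb₂ hP
  obtain ⟨K', hK'ft, hK's, hK'⟩ := Groth.Agent.S1694.result Y K hK.1 c hc L hL d hd
  refine ⟨K', Y'', d ≫ c, e.hom ≫ pullback.snd j d, hK', ⟨hK'ft, ?_⟩, inferInstance, ?_⟩
  · rw [hK's, Set.disjoint_union_left]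
    refine ⟨hK.2, Set.disjoint_left.mpr ?_⟩
    rintro _ ⟨z, hz, rfl⟩ hzA
    obtain ⟨v, rfl⟩ := hA hzA
    refine Set.disjoint_left.mp hI₂.2 (?_ : v ∈ (I₂.support : Set X₁)) hzA
    rw [← hLj, Scheme.IdealSheafData.support_comap]
    exact hz
  · rw [Category.assoc, ← pullback.condition_assoc, reassoc_of% he]

theorem exists_two_openImmersions [CompactSpace X] [QuasiSeparatedSpace X]
    [CompactSpace Y₁] [QuasiSeparatedSpace Y₁] [CompactSpace Y₂] [QuasiSeparatedSpace Y₂]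
    (π₁ : X ⟶ Y₁) (π₂ : X ⟶ Y₂)
    [IsSeparated π₁] [QuasiCompact π₁] [LocallyOfFiniteType π₁]
    [IsSeparated π₂] [QuasiCompact π₂] [LocallyOfFiniteType π₂]
    (A : Y₁.Opens) (B : Y₂.Opens) (hA : IsCompact (A : Set Y₁)) (hB : IsCompact (B : Set Y₂))
    [IsIso (π₁ ∣_ A)] [IsIso (π₂ ∣_ B)] (hAB : π₁ ⁻¹ᵁ A = π₂ ⁻¹ᵁ B) :
    ∃ (𝓘 : X.IdealSheafData) (𝓙₁ : Y₁.IdealSheafData) (𝓙₂ : Y₂.IdealSheafData)
      (Xt Yt₁ Yt₂ : Scheme.{u}) (b : Xt ⟶ X) (c₁ : Yt₁ ⟶ Y₁) (c₂ : Yt₂ ⟶ Y₂) (j₁ : Xt ⟶ Yt₁)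
      (j₂ : Xt ⟶ Yt₂),
      BlowUp.IsBlowUp b 𝓘 ∧ BlowUp.IsAdmissibleFor (π₁ ⁻¹ᵁ A) 𝓘 ∧
      BlowUp.IsBlowUp c₁ 𝓙₁ ∧ BlowUp.IsAdmissibleFor A 𝓙₁ ∧
      BlowUp.IsBlowUp c₂ 𝓙₂ ∧ BlowUp.IsAdmissibleFor B 𝓙₂ ∧
      IsOpenImmersion j₁ ∧ IsOpenImmersion j₂ ∧ j₁ ≫ c₁ = b ≫ π₁ ∧ j₂ ≫ c₂ = b ≫ π₂ := by
  obtain ⟨K₁, X₁, Y₁', b₁, c₁, j₁, hb₁, hb₁A, hc₁, hc₁A, -, hj₁, hw₁, -⟩ :=
    exists_openImmersion_blowUps π₁ A hA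
  haveI : IsProper b₁ := HTopHyper.isProper_of_isBlowUp hb₁ hb₁A.1
  haveI : CompactSpace X₁ := QuasiCompact.compactSpace_of_compactSpace b₁
  haveI : IsIso (b₁ ∣_ (π₂ ⁻¹ᵁ B)) :=
    BlowUpBasics.isIso_morphismRestrict hb₁ _ (hAB ▸ hb₁A.2)
  haveI : IsIso ((b₁ ≫ π₂) ∣_ B) := isIso_restrict_comp b₁ π₂ B
  obtain ⟨K₂, X₂, Y₂', b₂, c₂, j₂, hb₂, hb₂B, hc₂, hc₂B, -, hj₂, hw₂, -⟩ :=
    exists_openImmersion_blowUps (b₁ ≫ π₂) B hB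
  have e : j₁ ⁻¹ᵁ (c₁ ⁻¹ᵁ A) = (b₁ ≫ π₂) ⁻¹ᵁ B := by
    rw [← Scheme.Hom.comp_preimage, hw₁, Scheme.Hom.comp_preimage, hAB, Scheme.Hom.comp_preimage]
  haveI := BlowUpBasics.isIso_morphismRestrict hb₁ (π₁ ⁻¹ᵁ A) hb₁A.2
  haveI := BlowUpBasics.isIso_morphismRestrict hc₁ A hc₁A.2
  obtain ⟨K₁', Y₁'', c₁', j₁', hc₁', hK₁', hj₁', hw₁'⟩ := exists_blowUp_extend_open hc₁ hc₁A j₁
    (preimage_le_opensRange π₁ b₁ c₁ j₁ hw₁ A) (e ▸ hb₂B) hb₂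
  obtain ⟨I, hIft, hIs, hI⟩ := Groth.Agent.S1694.result X _ hb₁A.1 b₁ hb₁ _ hb₂B.1 b₂ hb₂
  refine ⟨I, K₁', K₂, X₂, Y₁'', Y₂', b₂ ≫ b₁, c₁', c₂, j₁', j₂, hI, ⟨hIft, ?_⟩, hc₁', hK₁', hc₂,
    hc₂B, hj₁', hj₂, by rw [hw₁', hw₁, Category.assoc], by rw [hw₂, Category.assoc]⟩
  rw [hIs, Set.disjoint_union_left]
  refine ⟨hb₁A.2, Set.disjoint_left.mpr ?_⟩
  rintro _ ⟨v, hv, rfl⟩ hvA
  exact Set.disjoint_left.mp hb₂B.2 hv (show b₁ v ∈ π₂ ⁻¹ᵁ B from hAB ▸ hvA)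

end Groth.NagComp
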